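import Cfsg.Agent.OddHalf.SL.Bridge
import Cfsg.Agent.StdSpSix.QLevel_m3
import Cfsg.Agent.Lib.FinFast
import Mathlib
import Cfsg.Agent.StandardComponent.SpTwoModel
import Cfsg.Agent.ClassicalGeometry.SympIso
import Cfsg.Agent.SporRec.TwoSp6.Invol
import Cfsg.Agent.SporRec.TwoSp6.Sp
import Mathlib.LinearAlgebra.Matrix.GeneralLinearGroup.Card
import Cfsg.Agent.Lib.Refl
import Cfsg.Agent.StdO8.Gen_m3
import Cfsg.Agent.FastGrp
import Cfsg.Agent.Prune
set_option linter.all false

section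
prune_inst 0x7ffcedf8abb83bffffff7e7ff6fecffc39911fffe6dff943ffe4f1ff0bdf03270be5fbaf09e410fe8ed6e01410b87853fb7eeabfe26bdc7ffffd5ff45ffbee1ff7ffbd0c519eb8b41ffc6ffffbf077ae7f3fffffffffffffffffffffffffffffffbfffffffff

-- part: StdO8/D4Root
section
prune_inst 0x1207044584000000018009011001c068e000192006b8001b0e00e4007cc8f40a0440f610ca01512103a8e102800004811100090022000000000000000000000002a12061040a000200000003085180c00000000000000000000000000000004000000000
set_option linter.all false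
open scoped Cfsg.Agent.FastGrp

-- part: Doubling/Rel
section
/-!
# Relations between doubled root elements, simply laced case over the field with two elements

`t` is an involution, `L` a group centralised by `t`, `x r` (`r ∈ Φ`) root elements of `L` with the relations of a
simply laced root system over the field with two elements, and `y r` involutions with `t ^ (y r) = t x_r` which
centralise `C_L(x_r)`. If the double centralisers in `C_G(t)` of two root elements are as small as possible, then the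
four-groups `⟨x_r, y_r⟩` satisfy the commutator relations of the root system.
-/

set_option autoImplicit false
set_option linter.unusedSectionVars false

namespace Cfsg.Agent.Doubling.Rel

open Cfsg.Agent.OddHalf.SL.Defs (Roots Dbl)

variable {G E : Type*} [Group G] [AddCommGroup E]

/-- The combinatorial facts about the root system which are used. -/
structure Root (ip : E → E → ℤ) (Φ : Set E) : Prop where
  base : Roots ip Φ
  rank : ∀ r ∈ Φ, ∀ s ∈ Φ, ip r s = -1 → ∃ u ∈ Φ, ip r u = -1 ∧ ip u s = 1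
  orth : ∀ r ∈ Φ, ∀ s ∈ Φ, ip r s = 0 → ∃ m ∈ Φ, ip m s = -1 ∧ ip m r = 1

namespace Root

variable {ip : E → E → ℤ} {Φ : Set E}

theorem symm (R : Root ip Φ) (a b : E) : ip a b = ip b a := R.base.symm a b

theorem add_left (R : Root ip Φ) (a b c : E) : ip (a + b) c = ip a c + ip b c := R.base.add_left a b c

theorem two (R : Root ip Φ) (r : E) (hr : r ∈ Φ) : ip r r = 2 := R.base.two r hr

theorem add_mem (R : Root ip Φ) (r : E) (hr : r ∈ Φ) (s : E) (hs : s ∈ Φ) (h : ip r s = -1) : r + s ∈ Φ :=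
  R.base.add r hr s hs h

theorem sub_mem (R : Root ip Φ) (r : E) (hr : r ∈ Φ) (s : E) (hs : s ∈ Φ) (h : ip r s = 1) : s - r ∈ Φ :=
  R.base.sub_mem hs hr (by rw [R.symm, h])

theorem add_right (R : Root ip Φ) (a b c : E) : ip a (b + c) = ip a b + ip a c := R.base.add_right a b c

theorem sub_left (R : Root ip Φ) (a b c : E) : ip (a - b) c = ip a c - ip b c := R.base.sub_left a b c

theorem sub_right (R : Root ip Φ) (a b c : E) : ip a (b - c) = ip a b - ip a c := R.base.sub_right a b c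

end Root

/-- The group theoretic data. -/
structure Data (ip : E → E → ℤ) (Φ : Set E) (t : G) (L : Subgroup G) (x y : E → G) : Prop where
  tt : t * t = 1
  tL : ∀ g ∈ L, t * g = g * t
  t_notMem : t ∉ L
  xL : ∀ r ∈ Φ, x r ∈ L
  x_ne : ∀ r ∈ Φ, x r ≠ 1
  x_sq : ∀ r ∈ Φ, x r * x r = 1
  x_comm : ∀ r ∈ Φ, ∀ s ∈ Φ, 0 ≤ ip r s → x r * x s = x s * x r
  x_conj : ∀ r ∈ Φ, ∀ s ∈ Φ, ip r s = -1 → x s * x r * x s = x r * x (r + s)
  y_sq : ∀ r ∈ Φ, y r * y r = 1
  ty : ∀ r ∈ Φ, y r * t * y r = t * x r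
  yC : ∀ r ∈ Φ, ∀ g ∈ L, g * x r = x r * g → g * y r = y r * g
  dc : ∀ r ∈ Φ, ∀ s ∈ Φ, (ip r s = 0 ∨ ip r s = 1) → ∀ g, g * t = t * g →
    (∀ h ∈ L, h * x r = x r * h → h * x s = x s * h → g * h = h * g) →
    ∃ τ α β, (τ = 1 ∨ τ = t) ∧ (α = 1 ∨ α = x r) ∧ (β = 1 ∨ β = x s) ∧ g = τ * α * β
  dc' : ∀ r ∈ Φ, ∀ s ∈ Φ, ip r s = -1 → ∀ g, g * t = t * g →
    (∀ h ∈ L, h * x r = x r * h → h * x s = x s * h → g * h = h * g) →
    ∃ τ α β γ, (τ = 1 ∨ τ = t) ∧ (α = 1 ∨ α = x r) ∧ (β = 1 ∨ β = x s) ∧ (γ = 1 ∨ γ = x (r + s)) ∧ g = τ * α * β * γ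

namespace Data

variable {ip : E → E → ℤ} {Φ : Set E} {t : G} {L : Subgroup G} {x y : E → G}

theorem yx (D : Data ip Φ t L x y) {r s : E} (hr : r ∈ Φ) (hs : s ∈ Φ) (h : 0 ≤ ip r s) :
    x s * y r = y r * x s :=
  D.yC r hr _ (D.xL s hs) (D.x_comm r hr s hs h).symm

theorem tx (D : Data ip Φ t L x y) {r : E} (hr : r ∈ Φ) : t * x r = x r * t := D.tL _ (D.xL r hr)

/-- `t` moves `y r` to `y r x_r`. -/
theorem tyt (D : Data ip Φ t L x y) (R : Root ip Φ) {r : E} (hr : r ∈ Φ) : t * y r * t = y r * x r := by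
  have h1 : t * y r * t * y r = x r := by
    calc t * y r * t * y r = t * (y r * t * y r) := by group
      _ = (t * t) * x r := by rw [D.ty r hr]; group
      _ = x r := by rw [D.tt, one_mul]
  have h2 := D.yx hr hr (by rw [R.two r hr]; norm_num)
  calc t * y r * t = t * y r * t * (y r * y r) := by rw [D.y_sq r hr, mul_one]
    _ = (t * y r * t * y r) * y r := by group
    _ = y r * x r := by rw [h1, h2]

/-- Lemma A: the conjugate of `y r` under `x s` for a special pair. -/
theorem lemA (D : Data ip Φ t L x y) (R : Root ip Φ) {r s : E} (hr : r ∈ Φ) (hs : s ∈ Φ) (h : ip r s = -1) :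
    ∃ τ κ, (τ = 1 ∨ τ = t) ∧ (κ = 1 ∨ κ = x (r + s)) ∧ x s * y r * x s = y (r + s) * y r * τ * κ := by
  have hq := R.add_mem r hr s hs h
  set q := r + s with hqdef
  have hrr := R.two r hr
  have hss := R.two s hs
  have hrq : ip r q = 1 := by rw [hqdef, R.add_right, hrr, h]; norm_num
  have hqr : ip q r = 1 := by rw [R.symm, hrq]
  have hsq : ip s q = 1 := by rw [hqdef, R.add_right, R.symm s r, hss, h]; norm_num
  have hqs : ip q s = 1 := by rw [R.symm, hsq]
  have hqq := R.two q hq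
  set y' := x s * y r * x s with hy'
  -- elementary commutations
  have c1 : x r * y q = y q * x r := D.yx hq hr (by rw [hqr]; norm_num)
  have c2 : x q * y r = y r * x q := D.yx hr hq (by rw [hrq]; norm_num)
  have c3 : x q * y q = y q * x q := D.yx hq hq (by rw [hqq]; norm_num)
  have c4 : x r * y r = y r * x r := D.yx hr hr (by rw [hrr]; norm_num)
  have c5 : x r * x q = x q * x r := D.x_comm r hr q hq (by rw [hrq]; norm_num)
  have c6 : x s * y q = y q * x s := D.yx hq hs (by rw [hqs]; norm_num)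
  have c7 : x s * x q = x q * x s := D.x_comm s hs q hq (by rw [hsq]; norm_num)
  have hxs := D.x_sq s hs
  have hxr := D.x_sq r hr
  have hxq := D.x_sq q hq
  have hyr := D.y_sq r hr
  have hyq := D.y_sq q hq
  have hxc := D.x_conj r hr s hs h
  rw [← hqdef] at hxc
  have hy'sq : y' * y' = 1 := by
    calc y' * y' = x s * y r * (x s * x s) * y r * x s := by rw [hy']; group
      _ = x s * (y r * y r) * x s := by rw [hxs]; group
      _ = 1 := by rw [hyr, mul_one, hxs]
  -- `t` and `y'`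
  have hty' : t * y' * t = y' * (x r * x q) := by
    have e1 : t * y' * t = x s * (t * y r * t) * x s := by
      have e2 := D.tx hs
      calc t * y' * t = (t * x s) * y r * (x s * t) := by rw [hy']; group
        _ = (x s * t) * y r * (t * x s) := by rw [e2]
        _ = x s * (t * y r * t) * x s := by group
    rw [e1, D.tyt R hr]
    calc x s * (y r * x r) * x s = x s * y r * 1 * x r * x s := by group
      _ = x s * y r * (x s * x s) * x r * x s := by rw [hxs]
      _ = y' * (x s * x r * x s) := by rw [hy']; group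
      _ = y' * (x r * x q) := by rw [hxc]
  have hy'c : (x r * x q) * y' = y' * (x r * x q) := by
    rw [← hxc, hy']
    calc x s * x r * x s * (x s * y r * x s) = x s * x r * (x s * x s) * y r * x s := by group
      _ = x s * (x r * y r) * x s := by rw [hxs]; group
      _ = x s * (y r * x r) * x s := by rw [c4]
      _ = x s * y r * 1 * x r * x s := by group
      _ = x s * y r * (x s * x s) * x r * x s := by rw [hxs]
      _ = x s * y r * x s * (x s * x r * x s) := by group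
  set mm := y r * y q * y' with hmm
  -- `mm` centralises `t`
  have hmt : t * mm * t = mm := by
    calc t * mm * t = t * y r * 1 * y q * 1 * y' * t := by rw [hmm]; group
      _ = t * y r * (t * t) * y q * (t * t) * y' * t := by rw [D.tt]
      _ = (t * y r * t) * (t * y q * t) * (t * y' * t) := by group
      _ = (y r * x r) * (y q * x q) * (y' * (x r * x q)) := by rw [D.tyt R hr, D.tyt R hq, hty']
      _ = y r * (x r * y q) * x q * (y' * (x r * x q)) := by group
      _ = y r * (y q * x r) * x q * ((x r * x q) * y') := by rw [c1, hy'c]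
      _ = y r * y q * ((x r * x q) * (x r * x q)) * y' := by group
      _ = y r * y q * ((x r * x q) * (x q * x r)) * y' := by rw [c5]
      _ = y r * y q * (x r * (x q * x q) * x r) * y' := by group
      _ = mm := by rw [hxq, mul_one, hxr, mul_one]
  have hmt' : mm * t = t * mm := by
    calc mm * t = (t * t) * mm * t := by rw [D.tt, one_mul]
      _ = t * (t * mm * t) := by group
      _ = t * mm := by rw [hmt]
  have hmL : ∀ k ∈ L, k * x r = x r * k → k * x q = x q * k → mm * k = k * mm := by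
    intro k hk h1 h2
    have e1 := D.yC r hr k hk h1
    have e2 := D.yC q hq k hk h2
    have e3 : (x s * k * x s) * y r = y r * (x s * k * x s) := by
      apply D.yC r hr _ (mul_mem (mul_mem (D.xL s hs) hk) (D.xL s hs))
      have e4 : k * (x r * x q) = (x r * x q) * k := by
        rw [← mul_assoc, h1, mul_assoc, h2, ← mul_assoc]
      rw [← hxc] at e4
      calc x s * k * x s * x r = x s * k * (x s * x r * 1) := by group
        _ = x s * k * (x s * x r * (x s * x s)) := by rw [hxs]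
        _ = x s * (k * (x s * x r * x s)) * x s := by group
        _ = x s * ((x s * x r * x s) * k) * x s := by rw [e4]
        _ = (x s * x s) * x r * (x s * k * x s) := by group
        _ = x r * (x s * k * x s) := by rw [hxs, one_mul]
    have e5 : y' * k = k * y' := by
      calc y' * k = x s * y r * x s * k * 1 := by rw [hy']; group
        _ = x s * y r * x s * k * (x s * x s) := by rw [hxs]
        _ = x s * (y r * (x s * k * x s)) * x s := by group
        _ = x s * ((x s * k * x s) * y r) * x s := by rw [e3]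
        _ = (x s * x s) * k * (x s * y r * x s) := by group
        _ = k * y' := by rw [hxs, one_mul]
    calc mm * k = y r * y q * (y' * k) := by rw [hmm]; group
      _ = y r * (y q * k) * y' := by rw [e5]; group
      _ = (y r * k) * y q * y' := by rw [← e2]; group
      _ = k * mm := by rw [← e1, hmm]; group
  obtain ⟨τ, α, β, hτ, hα, hβ, hm⟩ := D.dc r hr q hq (Or.inr hrq) mm hmt' hmL
  have hy'e : y' = y q * y r * mm := by
    calc y' = y q * 1 * y q * y' := by rw [mul_one, hyq, one_mul]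
      _ = y q * (y r * y r) * y q * y' := by rw [hyr]
      _ = y q * y r * mm := by rw [hmm]; group
  rcases hα with rfl | rfl
  · exact ⟨τ, β, hτ, hβ, by rw [hy'e, hm]; group⟩
  · exfalso
    -- conjugate by `x s`
    have k1 : τ * β * (τ * β) = 1 := by
      have e1 : t * x q = x q * t := D.tx hq
      have e2 : τ * τ = 1 := by rcases hτ with h | h <;> rw [h]; exacts [mul_one 1, D.tt]
      have e3 : β * β = 1 := by rcases hβ with h | h <;> rw [h]; exacts [mul_one 1, hxq]
      have e4 : β * τ = τ * β := by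
        rcases hτ with h | h <;> rcases hβ with h' | h' <;> rw [h, h']
        · rw [mul_one, one_mul]
        · rw [mul_one, one_mul]
        · exact e1.symm
      calc τ * β * (τ * β) = τ * (β * τ) * β := by group
        _ = (τ * τ) * (β * β) := by rw [e4]; group
        _ = 1 := by rw [e2, e3, one_mul]
    have kc : ∀ z : G, t * z = z * t → z * x q = x q * z → z * (τ * β) = τ * β * z := by
      intro z h1 h2
      have e1 : z * τ = τ * z := by
        rcases hτ with h | h <;> rw [h]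
        · rw [mul_one, one_mul]
        · exact h1.symm
      have e2 : z * β = β * z := by
        rcases hβ with h | h <;> rw [h]
        · rw [mul_one, one_mul]
        · exact h2
      rw [← mul_assoc, e1, mul_assoc, e2, ← mul_assoc]
    have k2 := kc _ (D.tx hs) c7
    have k3 := kc _ (D.tx hr) c5
    have hm' : mm = τ * β * x r := by
      have e1 : x r * β = β * x r := by
        rcases hβ with h | h <;> rw [h]
        · rw [mul_one, one_mul]
        · exact c5
      rw [hm, mul_assoc, e1, ← mul_assoc]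
    have e1 : y r = y q * y' * (τ * β) * (x r * x q) := by
      calc y r = (x s * x s) * y r * (x s * x s) := by rw [hxs, one_mul, mul_one]
        _ = x s * y' * x s := by rw [hy']; group
        _ = x s * (y q * y r * (τ * β * x r)) * x s := by rw [← hm', ← hy'e]
        _ = (x s * y q) * y r * (τ * β) * x r * x s := by group
        _ = (y q * x s) * y r * (1 * (τ * β)) * x r * x s := by rw [c6, one_mul]
        _ = (y q * x s) * y r * ((x s * x s) * (τ * β)) * x r * x s := by rw [hxs]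
        _ = y q * (x s * y r * x s) * (x s * (τ * β)) * x r * x s := by group
        _ = y q * (x s * y r * x s) * (τ * β * x s) * x r * x s := by rw [k2]
        _ = y q * y' * (τ * β) * (x s * x r * x s) := by rw [hy']; group
        _ = y q * y' * (τ * β) * (x r * x q) := by rw [hxc]
    have e2 : y r = y r * x q := by
      calc y r = y q * (y q * y r * (τ * β * x r)) * (τ * β) * (x r * x q) := by rw [← hm', ← hy'e]; exact e1
        _ = (y q * y q) * y r * (τ * β) * (x r * (τ * β)) * (x r * x q) := by group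
        _ = y r * (τ * β) * ((τ * β) * x r) * (x r * x q) := by rw [hyq, one_mul, k3]
        _ = y r * (τ * β * (τ * β)) * (x r * x r) * x q := by group
        _ = y r * x q := by rw [k1, hxr, mul_one, mul_one]
    exact D.x_ne q hq (mul_eq_left.1 e2.symm)

/-- Lemma B: no factor `t`. -/
theorem lemB (D : Data ip Φ t L x y) (R : Root ip Φ) {r s u : E} (hr : r ∈ Φ) (hs : s ∈ Φ) (hu : u ∈ Φ)
    (h1 : ip r s = -1) (h2 : ip r u = -1) (h3 : ip s u = 1) :
    ∃ κ, (κ = 1 ∨ κ = x (r + u)) ∧ x u * y r * x u = y (r + u) * y r * κ := by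
  have hq := R.add_mem r hr s hs h1
  have hq' := R.add_mem r hr u hu h2
  have hd := R.sub_mem s hs u hu h3
  have hrr := R.two r hr
  have hss := R.two s hs
  have huu := R.two u hu
  have hsr : ip s r = -1 := by rw [R.symm, h1]
  have hur : ip u r = -1 := by rw [R.symm, h2]
  have hus : ip u s = 1 := by rw [R.symm, h3]
  have e_add : r + s + (u - s) = r + u := by abel
  have e_add' : s + (u - s) = u := by abel
  have i_sd : ip s (u - s) = -1 := by rw [R.sub_right, h3, hss]; norm_num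
  have i_rd : ip r (u - s) = 0 := by rw [R.sub_right, h1, h2]; norm_num
  have i_qd : ip (r + s) (u - s) = -1 := by rw [R.add_left, i_rd, i_sd]; norm_num
  obtain ⟨τ1, κ1, hτ1, hκ1, a1⟩ := D.lemA R hr hs h1
  obtain ⟨τ2, κ2, hτ2, hκ2, a2⟩ := D.lemA R hr hu h2
  obtain ⟨τ3, κ3, hτ3, hκ3, a3⟩ := D.lemA R hq hd i_qd
  rw [e_add] at hκ3 a3
  rcases hτ2 with hτ2 | hτ2
  · exact ⟨κ2, hκ2, by rw [a2, hτ2, mul_one]⟩
  exfalso
  have xd := D.x_conj s hs (u - s) hd i_sd
  rw [e_add'] at xd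
  have xq := D.x_conj (r + s) hq (u - s) hd i_qd
  rw [e_add] at xq
  have xr := D.x_conj r hr s hs h1
  -- inner products
  have i_uq : ip u (r + s) = 0 := by rw [R.add_right, hur, hus]; norm_num
  have i_sq : ip s (r + s) = 1 := by rw [R.add_right, hsr, hss]; norm_num
  have i_sq' : ip s (r + u) = 0 := by rw [R.add_right, hsr, h3]; norm_num
  have i_rq' : ip r (r + u) = 1 := by rw [R.add_right, hrr, h2]; norm_num
  have i_qq' : ip (r + s) (r + u) = 1 := by rw [R.add_left, i_rq', i_sq']; norm_num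
  have i_rq : ip r (r + s) = 1 := by rw [R.add_right, hrr, h1]; norm_num
  have i_qq := R.two _ hq
  have i_q'q' := R.two _ hq'
  set q := r + s with hqdef
  set q' := r + u with hq'def
  set d := u - s with hddef
  -- commutations
  have c_uyq : x u * y q = y q * x u := D.yx hq hu (by rw [R.symm, i_uq])
  have c_uxq : x u * x q = x q * x u := D.x_comm u hu q hq (by rw [i_uq])
  have c_sx : x s * x u = x u * x s := D.x_comm s hs u hu (by rw [h3]; norm_num)
  have c_dyr : x d * y r = y r * x d := D.yx hr hd (by rw [i_rd])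
  have c_q'yr : x q' * y r = y r * x q' := D.yx hr hq' (by rw [i_rq']; norm_num)
  have c_q'yq : x q' * y q = y q * x q' := D.yx hq hq' (by rw [i_qq']; norm_num)
  have c_q'yq' : x q' * y q' = y q' * x q' := D.yx hq' hq' (by rw [i_q'q']; norm_num)
  have c_sxq : x s * x q = x q * x s := D.x_comm s hs q hq (by rw [i_sq]; norm_num)
  have c_sxq' : x s * x q' = x q' * x s := D.x_comm s hs q' hq' (by rw [i_sq'])
  have c_qq' : x q * x q' = x q' * x q := D.x_comm q hq q' hq' (by rw [i_qq']; norm_num)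
  have sr := D.x_sq r hr
  have ss := D.x_sq s hs
  have su := D.x_sq u hu
  have sd := D.x_sq d hd
  have sq := D.x_sq q hq
  have sq' := D.x_sq q' hq'
  have yr := D.y_sq r hr
  have yq := D.y_sq q hq
  have yq' := D.y_sq q' hq'
  have tu := D.tx hu
  have td := D.tx hd
  have tq := D.tx hq
  have tq' := D.tx hq'
  -- first computation
  have f1 : x u * (x s * y r * x s) * x u = y q * (y q' * y r * τ2 * κ2) * (τ1 * κ1) := by
    have e1 : (τ1 * κ1) * x u = x u * (τ1 * κ1) := by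
      have e2 : τ1 * x u = x u * τ1 := by
        rcases hτ1 with h | h <;> rw [h]
        · rw [mul_one, one_mul]
        · exact tu
      have e3 : κ1 * x u = x u * κ1 := by
        rcases hκ1 with h | h <;> rw [h]
        · rw [mul_one, one_mul]
        · exact c_uxq.symm
      rw [mul_assoc, e3, ← mul_assoc, e2, mul_assoc]
    rw [a1, ← a2]
    calc x u * (y q * y r * τ1 * κ1) * x u = (x u * y q) * y r * ((τ1 * κ1) * x u) := by group
      _ = (y q * x u) * y r * (x u * (τ1 * κ1)) := by rw [c_uyq, e1]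
      _ = y q * (x u * y r * x u) * (τ1 * κ1) := by group
  -- second computation
  have f2 : x u * (x s * y r * x s) * x u = (y q' * y q * τ3 * κ3) * y r * τ1 * (x d * κ1 * x d) := by
    have e0 : x d * τ1 = τ1 * x d := by
      rcases hτ1 with h | h <;> rw [h]
      · rw [mul_one, one_mul]
      · exact td.symm
    have e1 : x u * x s = x d * x s * x d := by rw [xd, c_sx]
    have e2 : x s * x u = x d * x s * x d := xd.symm
    calc x u * (x s * y r * x s) * x u = (x u * x s) * y r * (x s * x u) := by group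
      _ = (x d * x s * x d) * y r * (x d * x s * x d) := by rw [e1, e2]
      _ = x d * x s * (x d * y r) * x d * x s * x d := by group
      _ = x d * x s * (y r * x d) * x d * x s * x d := by rw [c_dyr]
      _ = x d * x s * y r * (x d * x d) * x s * x d := by group
      _ = x d * (x s * y r * x s) * x d := by rw [sd]; group
      _ = x d * (y q * y r * τ1 * κ1) * x d := by rw [a1]
      _ = x d * y q * 1 * y r * τ1 * κ1 * x d := by group
      _ = x d * y q * (x d * x d) * y r * τ1 * κ1 * x d := by rw [sd]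
      _ = (x d * y q * x d) * (x d * y r) * τ1 * κ1 * x d := by group
      _ = (y q' * y q * τ3 * κ3) * (y r * x d) * τ1 * κ1 * x d := by rw [a3, c_dyr]
      _ = (y q' * y q * τ3 * κ3) * y r * (x d * τ1) * κ1 * x d := by group
      _ = (y q' * y q * τ3 * κ3) * y r * τ1 * (x d * κ1 * x d) := by rw [e0]; group
  -- `x d κ1 x d = λ κ1`
  obtain ⟨lam, hlam, hl⟩ : ∃ lam, (lam = 1 ∨ lam = x q') ∧ x d * κ1 * x d = lam * κ1 := by
    rcases hκ1 with h | h
    · exact ⟨1, Or.inl rfl, by rw [h, mul_one, sd, mul_one]⟩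
    · exact ⟨x q', Or.inr rfl, by rw [h, xq, c_qq']⟩
  -- the subgroup of `L` of elements commuting with `x s`
  let Z : Subgroup G := L ⊓ Subgroup.centralizer {x s}
  have hZ : ∀ {g}, g ∈ Z ↔ g ∈ L ∧ g * x s = x s * g := fun {g} => by
    rw [Subgroup.mem_inf, Subgroup.mem_centralizer_singleton_iff]
  have zq : x q ∈ Z := hZ.2 ⟨D.xL q hq, c_sxq.symm⟩
  have zq' : x q' ∈ Z := hZ.2 ⟨D.xL q' hq', c_sxq'.symm⟩
  have zz : ∀ {k : G}, k = 1 ∨ k = x q' → k ∈ Z := fun {k} h => by
    rcases h with h | h <;> rw [h]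
    · exact one_mem _
    · exact zq'
  have ck : ∀ {k : G}, k = 1 ∨ k = x q' → k * y r = y r * k := fun {k} h => by
    rcases h with h | h <;> rw [h]
    · rw [mul_one, one_mul]
    · exact c_q'yr
  have ck' : ∀ {k : G}, k = 1 ∨ k = x q' → k * (y q' * y q) = (y q' * y q) * k := fun {k} h => by
    rcases h with h | h <;> rw [h]
    · rw [mul_one, one_mul]
    · rw [← mul_assoc, c_q'yq', mul_assoc, c_q'yq, ← mul_assoc]
  have ckt : ∀ {k τ : G}, k = 1 ∨ k = x q' → τ = 1 ∨ τ = t → k * τ = τ * k := fun {k τ} h h' => by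
    rcases h with h | h <;> rcases h' with h' | h' <;> rw [h, h']
    · rw [mul_one, one_mul]
    · rw [mul_one, one_mul]
    · exact tq'.symm
  have ksq : ∀ {k : G}, k = 1 ∨ k = x q' → k * k = 1 := fun {k} h => by
    rcases h with h | h <;> rw [h]
    · rw [mul_one]
    · exact sq'
  set P := y q' * y q with hP
  have hPinv : P⁻¹ = y q * y q' := by
    rw [hP, mul_inv_rev, inv_eq_of_mul_eq_one_left yq, inv_eq_of_mul_eq_one_left yq']
  -- the relation
  have g1 : P⁻¹ * (t * x r) * (κ2 * lam) = P * τ3 * κ3 := by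
    have e1 : y q * (y q' * y r * τ2 * κ2) * (τ1 * κ1) = (y q' * y q * τ3 * κ3) * y r * τ1 * (lam * κ1) := by
      rw [← f1, f2, hl]
    have e2 : y q * (y q' * y r * τ2 * κ2) * τ1 = (y q' * y q * τ3 * κ3) * y r * τ1 * lam := by
      apply mul_right_cancel (b := κ1)
      rw [← mul_assoc] at e1
      rw [e1]
      group
    have e3 : P⁻¹ * (y r * t * κ2) = P * τ3 * κ3 * y r * lam := by
      apply mul_right_cancel (b := τ1)
      calc P⁻¹ * (y r * t * κ2) * τ1 = y q * (y q' * y r * τ2 * κ2) * τ1 := by rw [hPinv, hτ2]; group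
        _ = P * τ3 * κ3 * y r * τ1 * lam := by rw [e2, hP]
        _ = P * τ3 * κ3 * y r * lam * τ1 := by rw [mul_assoc _ τ1 lam, ← ckt hlam hτ1, ← mul_assoc]
    calc P⁻¹ * (t * x r) * (κ2 * lam) = P⁻¹ * (y r * t * y r) * (κ2 * lam) := by rw [D.ty r hr]
      _ = P⁻¹ * (y r * t) * (y r * κ2) * lam := by group
      _ = P⁻¹ * (y r * t) * (κ2 * y r) * lam := by rw [ck hκ2]
      _ = (P⁻¹ * (y r * t * κ2)) * (y r * lam) := by group
      _ = (P * τ3 * κ3 * y r * lam) * (lam * y r) := by rw [e3, ck hlam]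
      _ = P * τ3 * κ3 * y r * (lam * lam) * y r := by group
      _ = P * τ3 * κ3 * (y r * y r) := by rw [ksq hlam]; group
      _ = P * τ3 * κ3 := by rw [yr, mul_one]
  -- the square
  have g2 : P * τ3 * (P * τ3) = 1 := by
    have e1 : (x d * y q * x d) * (x d * y q * x d) = 1 := by
      calc (x d * y q * x d) * (x d * y q * x d) = x d * y q * (x d * x d) * y q * x d := by group
        _ = x d * (y q * y q) * x d := by rw [sd]; group
        _ = 1 := by rw [yq, mul_one, sd]
    rw [a3] at e1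
    have e2 : P * τ3 * κ3 * (P * τ3 * κ3) = P * τ3 * (P * τ3) * (κ3 * κ3) := by
      calc P * τ3 * κ3 * (P * τ3 * κ3) = P * τ3 * (κ3 * P) * τ3 * κ3 := by group
        _ = P * τ3 * (P * κ3) * τ3 * κ3 := by rw [ck' hκ3]
        _ = P * τ3 * P * (κ3 * τ3) * κ3 := by group
        _ = P * τ3 * P * (τ3 * κ3) * κ3 := by rw [ckt hκ3 hτ3]
        _ = P * τ3 * (P * τ3) * (κ3 * κ3) := by group
    rw [e2, ksq hκ3, mul_one] at e1
    exact e1
  -- `P²`
  have g3 : P * P ∈ Z := by
    rcases hτ3 with h | h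
    · rw [h, mul_one] at g2
      rw [g2]
      exact one_mem _
    · rw [h] at g2
      have e1 : t * P * t = P * (x q' * x q) := by
        calc t * P * t = t * y q' * 1 * y q * t := by rw [hP]; group
          _ = t * y q' * (t * t) * y q * t := by rw [D.tt]
          _ = (t * y q' * t) * (t * y q * t) := by group
          _ = y q' * (x q' * y q) * x q := by rw [D.tyt R hq, D.tyt R hq']; group
          _ = P * (x q' * x q) := by rw [c_q'yq, hP]; group
      have e2 : P * P * (x q' * x q) = 1 := by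
        rw [← g2]
        calc P * P * (x q' * x q) = P * (P * (x q' * x q)) := by group
          _ = P * (t * P * t) := by rw [e1]
          _ = P * t * (P * t) := by group
      have e3 : P * P = (x q' * x q)⁻¹ := eq_inv_of_mul_eq_one_left e2
      rw [e3]
      exact inv_mem (mul_mem zq' zq)
  -- the contradiction
  have g4 : t * x r = P * P * τ3 * (κ3 * (κ2 * lam)⁻¹) := by
    calc t * x r = P * (P⁻¹ * (t * x r) * (κ2 * lam)) * (κ2 * lam)⁻¹ := by group
      _ = P * P * τ3 * (κ3 * (κ2 * lam)⁻¹) := by rw [g1]; group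
  have zM : κ3 * (κ2 * lam)⁻¹ ∈ Z := mul_mem (zz hκ3) (inv_mem (mul_mem (zz hκ2) (zz hlam)))
  rcases hτ3 with h | h
  · rw [h, mul_one] at g4
    have e1 : t = P * P * (κ3 * (κ2 * lam)⁻¹) * (x r)⁻¹ := by rw [← g4]; group
    exact D.t_notMem (by rw [e1]; exact mul_mem (mul_mem (hZ.1 g3).1 (hZ.1 zM).1) (inv_mem (D.xL r hr)))
  · rw [h, ← D.tL _ (hZ.1 g3).1, mul_assoc] at g4
    have e1 : x r = P * P * (κ3 * (κ2 * lam)⁻¹) := mul_left_cancel g4
    have e2 : x r ∈ Z := by rw [e1]; exact mul_mem g3 zM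
    have e3 := (hZ.1 e2).2
    have e4 : x s * x r * x s = x r := by
      calc x s * x r * x s = (x r * x s) * x s := by rw [e3]
        _ = x r * (x s * x s) := by group
        _ = x r := by rw [ss, mul_one]
    rw [e4] at xr
    exact D.x_ne q hq (mul_eq_left.1 xr.symm)

/-- Lemma A without a factor `t`. -/
theorem lemA' (D : Data ip Φ t L x y) (R : Root ip Φ) {r s : E} (hr : r ∈ Φ) (hs : s ∈ Φ) (h : ip r s = -1) :
    ∃ κ, (κ = 1 ∨ κ = x (r + s)) ∧ x s * y r * x s = y (r + s) * y r * κ := by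
  obtain ⟨u, hu, h1, h2⟩ := R.rank r hr s hs h
  exact D.lemB R hr hu hs h1 h h2

/-- Collinear pairs commute. -/
theorem y_comm_one (D : Data ip Φ t L x y) (R : Root ip Φ) {a b : E} (ha : a ∈ Φ) (hb : b ∈ Φ) (h : ip a b = 1) :
    y a * y b = y b * y a := by
  have hd := R.sub_mem a ha b hb h
  have i1 : ip a (b - a) = -1 := by rw [R.sub_right, h, R.two a ha]; norm_num
  obtain ⟨κ, hκ, e⟩ := D.lemA' R ha hd i1
  have e_add : a + (b - a) = b := by abel
  rw [e_add] at hκ e
  have sd := D.x_sq _ hd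
  have ya := D.y_sq a ha
  have yb := D.y_sq b hb
  have cba : x b * y a = y a * x b := D.yx ha hb (by rw [h]; norm_num)
  have cbb : x b * y b = y b * x b := D.yx hb hb (by rw [R.two b hb]; norm_num)
  have e1 : (x (b - a) * y a * x (b - a)) * (x (b - a) * y a * x (b - a)) = 1 := by
    calc (x (b - a) * y a * x (b - a)) * (x (b - a) * y a * x (b - a))
        = x (b - a) * y a * (x (b - a) * x (b - a)) * y a * x (b - a) := by group
      _ = x (b - a) * (y a * y a) * x (b - a) := by rw [sd]; group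
      _ = 1 := by rw [ya, mul_one, sd]
  rw [e] at e1
  have ck : κ * (y b * y a) = (y b * y a) * κ := by
    rcases hκ with h | h <;> rw [h]
    · rw [mul_one, one_mul]
    · rw [← mul_assoc, cbb, mul_assoc, cba, ← mul_assoc]
  have ks : κ * κ = 1 := by
    rcases hκ with h | h <;> rw [h]
    · rw [mul_one]
    · exact D.x_sq b hb
  have e2 : (y b * y a) * (y b * y a) = 1 := by
    calc (y b * y a) * (y b * y a) = (y b * y a) * (y b * y a) * (κ * κ) := by rw [ks, mul_one]
      _ = (y b * y a) * ((y b * y a) * κ) * κ := by group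
      _ = (y b * y a) * (κ * (y b * y a)) * κ := by rw [ck]
      _ = y b * y a * κ * (y b * y a * κ) := by group
      _ = 1 := e1
  calc y a * y b = (y b * y a)⁻¹ := by
        rw [mul_inv_rev, inv_eq_of_mul_eq_one_left ya, inv_eq_of_mul_eq_one_left yb]
    _ = y b * y a := (eq_inv_of_mul_eq_one_left e2).symm

theorem y_mem (D : Data ip Φ t L x y) (R : Root ip Φ) {r : E} (hr : r ∈ Φ) : y r ∉ L := fun h => by
  have h1 := D.tL _ h
  have h2 := D.tyt R hr
  rw [h1, mul_assoc, D.tt, mul_one] at h2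
  exact D.x_ne r hr (mul_eq_left.1 h2.symm)

theorem yy_k (D : Data ip Φ t L x y) {r s : E} (hr : r ∈ Φ) (hs : s ∈ Φ) {k : G} (hk : k ∈ L)
    (h1 : k * x r = x r * k) (h2 : k * x s = x s * k) :
    (y r * y s * y r * y s) * k = k * (y r * y s * y r * y s) := by
  have e1 := D.yC r hr k hk h1
  have e2 := D.yC s hs k hk h2
  calc (y r * y s * y r * y s) * k = y r * y s * y r * (y s * k) := by group
    _ = y r * y s * (y r * k) * y s := by rw [← e2]; group
    _ = y r * (y s * k) * y r * y s := by rw [← e1]; group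
    _ = (y r * k) * y s * y r * y s := by rw [← e2]; group
    _ = k * (y r * y s * y r * y s) := by rw [← e1]; group

/-- The commutator of an orthogonal pair lies in both root groups. -/
theorem orth_half (D : Data ip Φ t L x y) (R : Root ip Φ) {r s : E} (hr : r ∈ Φ) (hs : s ∈ Φ) (h : ip r s = 0) :
    y r * y s * y r * y s = 1 ∨ y r * y s * y r * y s = x r := by
  have hsr : ip s r = 0 := by rw [R.symm, h]
  have c1 : x r * y s = y s * x r := D.yx hs hr (by rw [hsr])
  have c2 : x s * y r = y r * x s := D.yx hr hs (by rw [h])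
  have c3 : x r * y r = y r * x r := D.yx hr hr (by rw [R.two r hr]; norm_num)
  have c4 : x s * y s = y s * x s := D.yx hs hs (by rw [R.two s hs]; norm_num)
  have c5 : x r * x s = x s * x r := D.x_comm r hr s hs (by rw [h])
  have xr := D.x_sq r hr
  have xs := D.x_sq s hs
  have yr := D.y_sq r hr
  have ys := D.y_sq s hs
  have tt := D.tt
  have tr := D.tx hr
  have ts := D.tx hs
  set c := y r * y s * y r * y s with hc
  have ht1 : t * c * t = c := by
    calc t * c * t = t * y r * 1 * y s * 1 * y r * 1 * y s * t := by rw [hc]; group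
      _ = t * y r * (t * t) * y s * (t * t) * y r * (t * t) * y s * t := by rw [tt]
      _ = (t * y r * t) * (t * y s * t) * (t * y r * t) * (t * y s * t) := by group
      _ = (y r * x r) * (y s * x s) * (y r * x r) * (y s * x s) := by rw [D.tyt R hr, D.tyt R hs]
      _ = y r * (x r * y s) * (x s * y r) * (x r * y s) * x s := by group
      _ = y r * (y s * x r) * (y r * x s) * (y s * x r) * x s := by rw [c1, c2]
      _ = y r * y s * (x r * y r) * (x s * y s) * (x r * x s) := by group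
      _ = y r * y s * (y r * x r) * (y s * x s) * (x s * x r) := by rw [c3, c4, c5]
      _ = y r * y s * y r * (x r * y s) * (x s * x s) * x r := by group
      _ = y r * y s * y r * (y s * x r) * x r := by rw [c1, xs, mul_one]
      _ = y r * y s * y r * y s * (x r * x r) := by group
      _ = c := by rw [xr, mul_one]
  have hct : c * t = t * c := by
    calc c * t = (t * t) * c * t := by rw [tt, one_mul]
      _ = t * (t * c * t) := by group
      _ = t * c := by rw [ht1]
  obtain ⟨τ, α, β, hτ, hα, hβ, he⟩ := D.dc r hr s hs (Or.inl h) c hct fun k hk h1 h2 => D.yy_k hr hs hk h1 h2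
  have hci : c⁻¹ = y s * y r * y s * y r := by
    rw [hc, mul_inv_rev, mul_inv_rev, mul_inv_rev, inv_eq_of_mul_eq_one_left yr, inv_eq_of_mul_eq_one_left ys]
    group
  have hyc : y r * c * y r = c⁻¹ := by
    rw [hci]
    calc y r * c * y r = (y r * y r) * y s * y r * y s * y r := by rw [hc]; group
      _ = y s * y r * y s * y r := by rw [yr]; group
  -- no factor `t`
  have hcc : c * c = 1 := by
    have e1 : α * τ = τ * α := by
      rcases hτ with h | h <;> rcases hα with h' | h' <;> rw [h, h']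
      · rw [mul_one, one_mul]
      · rw [mul_one, one_mul]
      · exact tr.symm
    have e2 : β * τ = τ * β := by
      rcases hτ with h | h <;> rcases hβ with h' | h' <;> rw [h, h']
      · rw [mul_one, one_mul]
      · rw [mul_one, one_mul]
      · exact ts.symm
    have e3 : β * α = α * β := by
      rcases hα with h | h <;> rcases hβ with h' | h' <;> rw [h, h']
      · rw [mul_one, one_mul]
      · rw [mul_one, one_mul]
      · exact c5.symm
    have e4 : τ * τ = 1 := by rcases hτ with h | h <;> rw [h]; exacts [mul_one 1, tt]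
    have e5 : α * α = 1 := by rcases hα with h | h <;> rw [h]; exacts [mul_one 1, xr]
    have e6 : β * β = 1 := by rcases hβ with h | h <;> rw [h]; exacts [mul_one 1, xs]
    rw [he]
    calc τ * α * β * (τ * α * β) = τ * α * (β * τ) * α * β := by group
      _ = τ * α * (τ * β) * α * β := by rw [e2]
      _ = τ * (α * τ) * (β * α) * β := by group
      _ = τ * (τ * α) * (α * β) * β := by rw [e1, e3]
      _ = (τ * τ) * (α * α) * (β * β) := by group
      _ = 1 := by rw [e4, e5, e6, one_mul, one_mul]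
  have hci' : c⁻¹ = c := inv_eq_of_mul_eq_one_left hcc
  rw [hci'] at hyc
  have cα : α * y r = y r * α := by
    rcases hα with h | h <;> rw [h]
    · rw [mul_one, one_mul]
    · exact c3
  have cβ : β * y r = y r * β := by
    rcases hβ with h | h <;> rw [h]
    · rw [mul_one, one_mul]
    · exact c2
  have hyτ : y r * τ * y r = τ := by
    apply mul_right_cancel (b := α * β)
    calc y r * τ * y r * (α * β) = y r * τ * (y r * α) * β := by group
      _ = y r * τ * α * (y r * β) := by rw [← cα]; group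
      _ = y r * (τ * α * β) * y r := by rw [← cβ]; group
      _ = τ * (α * β) := by rw [← he, hyc, he, mul_assoc]
  have hτ1 : τ = 1 := by
    rcases hτ with h | h
    · exact h
    · exfalso
      rw [h, D.ty r hr] at hyτ
      exact D.x_ne r hr (mul_eq_left.1 hyτ)
  rw [hτ1, one_mul] at he
  -- conjugate with `x m`
  obtain ⟨m, hm, m1, m2⟩ := R.orth r hr s hs h
  have hsm : ip s m = -1 := by rw [R.symm, m1]
  have hrm : ip r m = 1 := by rw [R.symm, m2]
  have hq := R.add_mem s hs m hm hsm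
  obtain ⟨κ, hκ, eκ⟩ := D.lemA' R hs hm hsm
  have i1 : ip r (s + m) = 1 := by rw [R.add_right, h, hrm]; norm_num
  have i1' : ip (s + m) r = 1 := by rw [R.symm, i1]
  have i2 : ip s (s + m) = 1 := by rw [R.add_right, R.two s hs, hsm]; norm_num
  have i2' : ip (s + m) s = 1 := by rw [R.symm, i2]
  have xm := D.x_sq m hm
  have d1 : x m * y r = y r * x m := D.yx hr hm (by rw [hrm]; norm_num)
  have d2 : y r * y (s + m) = y (s + m) * y r := D.y_comm_one R hr hq i1
  have d3 : y s * y (s + m) = y (s + m) * y s := D.y_comm_one R hs hq i2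
  have d4 : x m * x r = x r * x m := D.x_comm m hm r hr (by rw [m2]; norm_num)
  have yq := D.y_sq _ hq
  have dκr : κ * y r = y r * κ := by
    rcases hκ with h | h <;> rw [h]
    · rw [mul_one, one_mul]
    · exact D.yx hr hq (by rw [i1]; norm_num)
  have dκs : κ * y s = y s * κ := by
    rcases hκ with h | h <;> rw [h]
    · rw [mul_one, one_mul]
    · exact D.yx hs hq (by rw [i2]; norm_num)
  have dκq : κ * y (s + m) = y (s + m) * κ := by
    rcases hκ with h | h <;> rw [h]
    · rw [mul_one, one_mul]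
    · exact D.yx hq hq (by rw [R.two _ hq]; norm_num)
  have dκκ : κ * κ = 1 := by
    rcases hκ with h | h <;> rw [h]
    · rw [mul_one]
    · exact D.x_sq _ hq
  have dz : ∀ z : G, z * y r = y r * z → z * y s = y s * z → z * c = c * z := by
    intro z h1 h2
    calc z * c = (z * y r) * y s * y r * y s := by rw [hc]; group
      _ = y r * (z * y s) * y r * y s := by rw [h1]; group
      _ = y r * y s * (z * y r) * y s := by rw [h2]; group
      _ = y r * y s * y r * (z * y s) := by rw [h1]; group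
      _ = c * z := by rw [h2, hc]; group
  have hxc : x m * c * x m = c := by
    calc x m * c * x m = (x m * y r) * y s * y r * y s * x m := by rw [hc]; group
      _ = y r * x m * y s * 1 * y r * y s * x m := by rw [d1]; group
      _ = y r * x m * y s * (x m * x m) * y r * y s * x m := by rw [xm]
      _ = y r * (x m * y s * x m) * (x m * y r) * y s * x m := by group
      _ = y r * (x m * y s * x m) * y r * (x m * y s * x m) := by rw [d1]; group
      _ = y r * (y (s + m) * y s * κ) * y r * (y (s + m) * y s * κ) := by rw [eκ]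
      _ = (y r * y (s + m)) * y s * (κ * y r) * (y (s + m) * y s * κ) := by group
      _ = y (s + m) * y r * y s * (y r * κ) * (y (s + m) * y s * κ) := by rw [d2, dκr]
      _ = y (s + m) * y r * y s * y r * (κ * y (s + m)) * y s * κ := by group
      _ = y (s + m) * y r * y s * (y r * y (s + m)) * (κ * y s) * κ := by rw [dκq]; group
      _ = y (s + m) * y r * (y s * y (s + m)) * y r * (y s * κ) * κ := by rw [d2, dκs]; group
      _ = y (s + m) * (y r * y (s + m)) * y s * y r * y s * (κ * κ) := by rw [d3]; group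
      _ = (y (s + m) * y (s + m)) * (y r * y s * y r * y s) := by rw [d2, dκκ]; group
      _ = c := by rw [yq, one_mul]
  have dα : x m * α = α * x m := by
    rcases hα with h | h <;> rw [h]
    · rw [mul_one, one_mul]
    · exact d4
  rcases hβ with hβ | hβ
  · rw [hβ, mul_one] at he
    rw [he]
    exact hα
  · exfalso
    rw [he, hβ] at hxc
    have e1 := D.x_conj s hs m hm hsm
    have e2 : α * x s * x (s + m) = α * x s := by
      calc α * x s * x (s + m) = α * (x m * x s * x m) := by rw [e1]; group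
        _ = (α * x m) * x s * x m := by group
        _ = x m * (α * x s) * x m := by rw [← dα]; group
        _ = α * x s := hxc
    exact D.x_ne _ hq (mul_eq_left.1 e2)

/-- Orthogonal pairs commute. -/
theorem y_comm_zero (D : Data ip Φ t L x y) (R : Root ip Φ) {r s : E} (hr : r ∈ Φ) (hs : s ∈ Φ) (h : ip r s = 0) :
    y r * y s = y s * y r := by
  have yr := D.y_sq r hr
  have ys := D.y_sq s hs
  have key : y r * y s * y r * y s = 1 := by
    rcases D.orth_half R hr hs h with h1 | h1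
    · exact h1
    rcases D.orth_half R hs hr (by rw [R.symm, h]) with h2 | h2
    · have e1 : (y r * y s * y r * y s)⁻¹ = 1 := by
        rw [mul_inv_rev, mul_inv_rev, mul_inv_rev, inv_eq_of_mul_eq_one_left yr, inv_eq_of_mul_eq_one_left ys]
        rw [← h2]; group
      exact inv_eq_one.1 e1
    · exfalso
      have e1 : x s = x r := by
        have e2 : (y r * y s * y r * y s)⁻¹ = x s := by
          rw [mul_inv_rev, mul_inv_rev, mul_inv_rev, inv_eq_of_mul_eq_one_left yr, inv_eq_of_mul_eq_one_left ys]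
          rw [← h2]; group
        rw [← e2, h1, inv_eq_of_mul_eq_one_left (D.x_sq r hr)]
      obtain ⟨m, hm, m1, m2⟩ := R.orth r hr s hs h
      have hsm : ip s m = -1 := by rw [R.symm, m1]
      have e3 := D.x_conj s hs m hm hsm
      have e4 := D.x_comm m hm r hr (by rw [m2]; norm_num)
      rw [e1, e4, mul_assoc, D.x_sq m hm, mul_one] at e3
      exact D.x_ne _ (R.add_mem s hs m hm hsm) (mul_eq_left.1 e3.symm)
  calc y r * y s = y r * y s * (y r * y r) := by rw [yr, mul_one]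
    _ = y r * y s * y r * 1 * y r := by group
    _ = y r * y s * y r * (y s * y s) * y r := by rw [ys]
    _ = (y r * y s * y r * y s) * (y s * y r) := by group
    _ = y s * y r := by rw [key, one_mul]

/-- The commutator of a special pair. -/
theorem spec (D : Data ip Φ t L x y) (R : Root ip Φ) {r s : E} (hr : r ∈ Φ) (hs : s ∈ Φ) (h : ip r s = -1) :
    ∃ γ ε, (γ = 1 ∨ γ = x (r + s)) ∧ (ε = 1 ∨ ε = y (r + s)) ∧ y r * y s * y r * y s = γ * ε := by
  have hq := R.add_mem r hr s hs h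
  have hsr : ip s r = -1 := by rw [R.symm, h]
  obtain ⟨κ, hκ, e1⟩ := D.lemA' R hr hs h
  obtain ⟨κ', hκ', e2⟩ := D.lemA' R hs hr hsr
  rw [add_comm s r] at hκ' e2
  have i_rq : ip r (r + s) = 1 := by rw [R.add_right, R.two r hr, h]; norm_num
  have i_sq : ip s (r + s) = 1 := by rw [R.add_right, R.two s hs, hsr]; norm_num
  have i_qr : ip (r + s) r = 1 := by rw [R.symm, i_rq]
  have i_qs : ip (r + s) s = 1 := by rw [R.symm, i_sq]
  have i_qq := R.two _ hq
  have xc := D.x_conj r hr s hs h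
  set q := r + s with hqdef
  have xr := D.x_sq r hr
  have xs := D.x_sq s hs
  have xq := D.x_sq q hq
  have yr := D.y_sq r hr
  have ys := D.y_sq s hs
  have yq := D.y_sq q hq
  have tt := D.tt
  have tr := D.tx hr
  have ts := D.tx hs
  have tq := D.tx hq
  have a1 : x r * y q = y q * x r := D.yx hq hr (by rw [i_qr]; norm_num)
  have a2 : x s * y q = y q * x s := D.yx hq hs (by rw [i_qs]; norm_num)
  have a3 : x q * y q = y q * x q := D.yx hq hq (by rw [i_qq]; norm_num)
  have a4 : x q * y r = y r * x q := D.yx hr hq (by rw [i_rq]; norm_num)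
  have a5 : x q * y s = y s * x q := D.yx hs hq (by rw [i_sq]; norm_num)
  have a6 : x r * x q = x q * x r := D.x_comm r hr q hq (by rw [i_rq]; norm_num)
  have a7 : x s * x q = x q * x s := D.x_comm s hs q hq (by rw [i_sq]; norm_num)
  have a8 : x r * y r = y r * x r := D.yx hr hr (by rw [R.two r hr]; norm_num)
  have a9 : x s * y s = y s * x s := D.yx hs hs (by rw [R.two s hs]; norm_num)
  have b1 : y r * y q = y q * y r := D.y_comm_one R hr hq i_rq
  have b2 : y s * y q = y q * y s := D.y_comm_one R hs hq i_sq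
  -- elements of `{1, x q}`
  have kc : ∀ {k z : G}, (k = 1 ∨ k = x q) → x q * z = z * x q → k * z = z * k := fun {k z} h h' => by
    rcases h with h | h <;> rw [h]
    · rw [mul_one, one_mul]
    · exact h'
  have ks : ∀ {k : G}, (k = 1 ∨ k = x q) → k * k = 1 := fun {k} h => by
    rcases h with h | h <;> rw [h]
    · rw [mul_one]
    · exact xq
  have xqr : x q * x r = x r * x q := a6.symm
  have xqs : x q * x s = x s * x q := a7.symm
  -- the moves
  have m1 : x r * y s = y q * y s * κ' * x r := by rw [← e2, mul_assoc, xr, mul_one]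
  have m2 : x s * y r = y q * y r * κ * x s := by rw [← e1, mul_assoc, xs, mul_one]
  have m3 : y r * x s * y r = x s * (y q * κ) := by
    calc y r * x s * y r = (x s * x s) * y r * x s * y r := by rw [xs, one_mul]
      _ = x s * (x s * y r * x s) * y r := by group
      _ = x s * y q * y r * (κ * y r) := by rw [e1]; group
      _ = x s * y q * (y r * y r) * κ := by rw [kc hκ a4]; group
      _ = x s * (y q * κ) := by rw [yr]; group
  have m4 : y s * x r * y s = x r * (y q * κ') := by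
    calc y s * x r * y s = (x r * x r) * y s * x r * y s := by rw [xr, one_mul]
      _ = x r * (x r * y s * x r) * y s := by group
      _ = x r * y q * y s * (κ' * y s) := by rw [e2]; group
      _ = x r * y q * (y s * y s) * κ' := by rw [kc hκ' a5]; group
      _ = x r * (y q * κ') := by rw [ys]; group
  set u := y r * y s * y r * y s with hu
  have hui : u⁻¹ = y s * y r * y s * y r := by
    rw [hu, mul_inv_rev, mul_inv_rev, mul_inv_rev, inv_eq_of_mul_eq_one_left yr, inv_eq_of_mul_eq_one_left ys]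
    group
  have uq : u * y q = y q * u := by
    calc u * y q = y r * y s * y r * (y s * y q) := by rw [hu]; group
      _ = y r * y s * (y r * y q) * y s := by rw [b2]; group
      _ = y r * (y s * y q) * y r * y s := by rw [b1]; group
      _ = (y r * y q) * y s * y r * y s := by rw [b2]; group
      _ = y q * u := by rw [b1, hu]; group
  have uxq : u * x q = x q * u := D.yy_k hr hs (D.xL q hq) a6.symm a7.symm
  -- `t u t`
  obtain ⟨lam, hlam, htu⟩ : ∃ lam, (lam = 1 ∨ lam = x q) ∧ t * u * t = u * lam := by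
    have e3 : t * u * t = u * (κ * κ' * x q) := by
      calc t * u * t = t * y r * 1 * y s * 1 * y r * 1 * y s * t := by rw [hu]; group
        _ = t * y r * (t * t) * y s * (t * t) * y r * (t * t) * y s * t := by rw [tt]
        _ = (t * y r * t) * (t * y s * t) * (t * y r * t) * (t * y s * t) := by group
        _ = (y r * x r) * (y s * x s) * (y r * x r) * (y s * x s) := by rw [D.tyt R hr, D.tyt R hs]
        _ = y r * (x r * y s) * (x s * y r) * (x r * y s) * x s := by group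
        _ = y r * (y q * y s * κ' * x r) * (y q * y r * κ * x s) * (y q * y s * κ' * x r) * x s := by rw [m1, m2]
        _ = (y r * y q) * y s * κ' * (x r * y q) * y r * κ * (x s * y q) * y s * κ' * x r * x s := by group
        _ = (y q * y r) * y s * κ' * (y q * x r) * y r * κ * (y q * x s) * y s * κ' * x r * x s := by
          rw [b1, a1, a2]
        _ = y q * y r * y s * (κ' * y q) * x r * y r * (κ * y q) * x s * y s * κ' * x r * x s := by group
        _ = y q * y r * y s * (y q * κ') * x r * y r * (y q * κ) * x s * y s * κ' * x r * x s := by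
          rw [kc hκ' a3, kc hκ a3]
        _ = y q * y r * (y s * y q) * κ' * (x r * y r) * y q * κ * (x s * y s) * κ' * x r * x s := by group
        _ = y q * y r * (y q * y s) * κ' * (y r * x r) * y q * κ * (y s * x s) * κ' * x r * x s := by
          rw [b2, a8, a9]
        _ = y q * (y r * y q) * y s * (κ' * y r) * (x r * y q) * (κ * y s) * x s * κ' * x r * x s := by group
        _ = y q * (y q * y r) * y s * (y r * κ') * (y q * x r) * (y s * κ) * x s * κ' * x r * x s := by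
          rw [b1, kc hκ' a4, a1, kc hκ a5]
        _ = (y q * y q) * y r * y s * y r * (κ' * y q) * (x r * y s) * κ * x s * κ' * x r * x s := by group
        _ = y r * y s * y r * (y q * κ') * (y q * y s * κ' * x r) * κ * x s * κ' * x r * x s := by
          rw [yq, one_mul, kc hκ' a3, m1]
        _ = y r * y s * y r * y q * (κ' * y q) * y s * κ' * (x r * κ) * x s * κ' * x r * x s := by group
        _ = y r * y s * y r * y q * (y q * κ') * y s * κ' * (κ * x r) * x s * κ' * x r * x s := by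
          rw [kc hκ' a3, kc hκ xqr]
        _ = y r * y s * y r * (y q * y q) * (κ' * y s) * κ' * κ * x r * (x s * κ') * x r * x s := by group
        _ = y r * y s * y r * (y s * κ') * κ' * κ * x r * (κ' * x s) * x r * x s := by
          rw [yq, mul_one, kc hκ' a5, kc hκ' xqs]
        _ = u * (κ' * κ') * κ * (x r * κ') * x s * x r * x s := by rw [hu]; group
        _ = u * κ * (κ' * x r) * x s * x r * x s := by rw [ks hκ', mul_one, kc hκ' xqr]
        _ = u * κ * κ' * x r * (x s * x r * x s) := by group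
        _ = u * κ * κ' * (x r * x r) * x q := by rw [xc]; group
        _ = u * (κ * κ' * x q) := by rw [xr]; group
    refine ⟨κ * κ' * x q, ?_, e3⟩
    rcases hκ with h | h <;> rcases hκ' with h' | h' <;> rw [h, h']
    · right; rw [one_mul, one_mul]
    · left; rw [one_mul, xq]
    · left; rw [mul_one, xq]
    · right; rw [xq, one_mul]
  -- correct by `y q`
  obtain ⟨ε, hε, hv⟩ : ∃ ε, (ε = 1 ∨ ε = y q) ∧ (u * ε) * t = t * (u * ε) := by
    rcases hlam with h | h
    · refine ⟨1, Or.inl rfl, ?_⟩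
      rw [h, mul_one] at htu
      rw [mul_one]
      calc u * t = (t * t) * u * t := by rw [tt, one_mul]
        _ = t * (t * u * t) := by group
        _ = t * u := by rw [htu]
    · refine ⟨y q, Or.inr rfl, ?_⟩
      rw [h] at htu
      calc u * y q * t = (t * t) * u * 1 * y q * t := by rw [tt, one_mul, mul_one]
        _ = (t * t) * u * (t * t) * y q * t := by rw [tt]
        _ = t * (t * u * t) * (t * y q * t) := by group
        _ = t * (u * x q) * (y q * x q) := by rw [htu, D.tyt R hq]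
        _ = t * u * (x q * y q) * x q := by group
        _ = t * u * y q * (x q * x q) := by rw [a3]; group
        _ = t * (u * y q) := by rw [xq]; group
  have hεs : ε * ε = 1 := by
    rcases hε with h | h <;> rw [h]
    · rw [mul_one]
    · exact yq
  have hεc : ∀ {z : G}, y q * z = z * y q → ε * z = z * ε := fun {z} h' => by
    rcases hε with h | h <;> rw [h]
    · rw [mul_one, one_mul]
    · exact h'
  obtain ⟨τ, α, β, γ, hτ, hα, hβ, hγ, he⟩ := D.dc' r hr s hs h (u * ε) hv fun k hk h1 h2 => by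
    have e3 : k * x q = x q * k := by
      have e4 : x q = x r * (x s * x r * x s) := by rw [xc, ← mul_assoc, xr, one_mul]
      rw [e4]
      calc k * (x r * (x s * x r * x s)) = (k * x r) * x s * x r * x s := by group
        _ = x r * (k * x s) * x r * x s := by rw [h1]; group
        _ = x r * x s * (k * x r) * x s := by rw [h2]; group
        _ = x r * x s * x r * (k * x s) := by rw [h1]; group
        _ = x r * (x s * x r * x s) * k := by rw [h2]; group
    have e5 : ε * k = k * ε := hεc (D.yC q hq k hk e3).symm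
    rw [mul_assoc, e5, ← mul_assoc, D.yy_k hr hs hk h1 h2, mul_assoc]
  rw [← hqdef] at hγ
  set w := u * ε with hw
  have hyrw : y r * w * y r = w⁻¹ := by
    rw [hw, mul_inv_rev, inv_eq_of_mul_eq_one_left hεs, hui]
    have e3 : ε * y r = y r * ε := hεc b1.symm
    have e4 : ε * y s = y s * ε := hεc b2.symm
    calc y r * (u * ε) * y r = (y r * y r) * y s * y r * y s * (ε * y r) := by rw [hu]; group
      _ = y s * y r * (y s * y r) * ε := by rw [yr, e3]; group
      _ = y s * y r * y s * (ε * y r) := by rw [e3]; group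
      _ = y s * y r * (ε * y s) * y r := by rw [e4]; group
      _ = y s * (ε * y r) * y s * y r := by rw [e3]; group
      _ = (ε * y s) * y r * y s * y r := by rw [e4]; group
      _ = ε * (y s * y r * y s * y r) := by group
  have hysw : y s * w * y s = w⁻¹ := by
    rw [hw, mul_inv_rev, inv_eq_of_mul_eq_one_left hεs, hui]
    have e3 : ε * y r = y r * ε := hεc b1.symm
    have e4 : ε * y s = y s * ε := hεc b2.symm
    calc y s * (u * ε) * y s = y s * y r * y s * y r * y s * (ε * y s) := by rw [hu]; group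
      _ = y s * y r * y s * y r * (y s * y s) * ε := by rw [e4]; group
      _ = y s * y r * y s * (ε * y r) := by rw [ys, e3]; group
      _ = y s * y r * (ε * y s) * y r := by rw [e4]; group
      _ = y s * (ε * y r) * y s * y r := by rw [e3]; group
      _ = (ε * y s) * y r * y s * y r := by rw [e4]; group
      _ = ε * (y s * y r * y s * y r) := by group
  -- `w` and its inverse
  have hτs : τ * τ = 1 := by rcases hτ with h | h <;> rw [h]; exacts [mul_one 1, tt]
  have hαs : α * α = 1 := by rcases hα with h | h <;> rw [h]; exacts [mul_one 1, xr]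
  have hβs : β * β = 1 := by rcases hβ with h | h <;> rw [h]; exacts [mul_one 1, xs]
  have hγs : γ * γ = 1 := ks hγ
  have hτc : ∀ {z : G}, t * z = z * t → τ * z = z * τ := fun {z} h' => by
    rcases hτ with h | h <;> rw [h]
    · rw [mul_one, one_mul]
    · exact h'
  have hτα : τ * α = α * τ := hτc (by rcases hα with h | h <;> rw [h]; exacts [by rw [mul_one, one_mul], tr])
  have hτβ : τ * β = β * τ := hτc (by rcases hβ with h | h <;> rw [h]; exacts [by rw [mul_one, one_mul], ts])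
  have hτγ : τ * γ = γ * τ := hτc (by rcases hγ with h | h <;> rw [h]; exacts [by rw [mul_one, one_mul], tq])
  have hγα : γ * α = α * γ := kc hγ (by rcases hα with h | h <;> rw [h]; exacts [by rw [mul_one, one_mul], xqr])
  have hγβ : γ * β = β * γ := kc hγ (by rcases hβ with h | h <;> rw [h]; exacts [by rw [mul_one, one_mul], xqs])
  obtain ⟨δ, hδ, hba⟩ : ∃ δ, (δ = 1 ∨ δ = x q) ∧ β * α = α * β * δ := by
    rcases hα with h | h <;> rcases hβ with h' | h' <;> rw [h, h']
    · exact ⟨1, Or.inl rfl, by group⟩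
    · exact ⟨1, Or.inl rfl, by group⟩
    · exact ⟨1, Or.inl rfl, by group⟩
    · refine ⟨x q, Or.inr rfl, ?_⟩
      calc x s * x r = x s * x r * (x s * x s) := by rw [xs, mul_one]
        _ = (x s * x r * x s) * x s := by group
        _ = x r * x s * x q := by rw [xc, mul_assoc, xqs, ← mul_assoc]
  have hδα : δ * α = α * δ := kc hδ (by rcases hα with h | h <;> rw [h]; exacts [by rw [mul_one, one_mul], xqr])
  have hδβ : δ * β = β * δ := kc hδ (by rcases hβ with h | h <;> rw [h]; exacts [by rw [mul_one, one_mul], xqs])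
  have hwi : w⁻¹ = τ * α * β * γ * δ := by
    have e3 : γ * δ = δ * γ := kc hγ (by rcases hδ with h | h <;> rw [h]; rw [mul_one, one_mul])
    rw [he, mul_inv_rev, mul_inv_rev, mul_inv_rev, inv_eq_of_mul_eq_one_left hτs, inv_eq_of_mul_eq_one_left hαs,
      inv_eq_of_mul_eq_one_left hβs, inv_eq_of_mul_eq_one_left hγs]
    calc γ * (β * (α * τ)) = γ * (β * α) * τ := by group
      _ = γ * α * β * (δ * τ) := by rw [hba]; group
      _ = (γ * α) * β * (τ * δ) := by
        rw [← hτc (z := δ) (by rcases hδ with h | h <;> rw [h]; exacts [by rw [mul_one, one_mul], tq])]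
      _ = α * (γ * β) * τ * δ := by rw [hγα]; group
      _ = α * β * (γ * τ) * δ := by rw [hγβ]; group
      _ = α * (β * τ) * γ * δ := by rw [← hτγ]; group
      _ = (α * τ) * β * γ * δ := by rw [← hτβ]; group
      _ = τ * α * β * γ * δ := by rw [← hτα]
  have hxL : ∀ {k}, (k = 1 ∨ k = x q) → k ∈ L := fun {k} h => by
    rcases h with h | h <;> rw [h]
    · exact one_mem _
    · exact D.xL q hq
  -- auxiliary: distinct elements
  have xr_ne : ∀ {k : G}, (k = 1 ∨ k = x q) → x r ≠ k := fun {k} h e => by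
    have e3 := xc
    rw [e, mul_assoc, kc h xqs, ← mul_assoc, xs, one_mul] at e3
    exact D.x_ne q hq (mul_eq_left.1 e3.symm)
  have xs_ne : ∀ {k : G}, (k = 1 ∨ k = x q) → x s ≠ k := fun {k} h e => by
    have e3 := xc
    rw [e, kc h xqr, mul_assoc, ks h, mul_one] at e3
    exact D.x_ne q hq (mul_eq_left.1 e3.symm)
  -- conjugation by `y r`
  have yrα : y r * α * y r = α := by
    rcases hα with h | h <;> rw [h]
    · rw [mul_one, yr]
    · rw [← a8, mul_assoc, yr, mul_one]
  have yrγ : y r * γ * y r = γ := by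
    rw [← kc hγ a4, mul_assoc, yr, mul_one]
  have ysβ : y s * β * y s = β := by
    rcases hβ with h | h <;> rw [h]
    · rw [mul_one, ys]
    · rw [← a9, mul_assoc, ys, mul_one]
  have ysγ : y s * γ * y s = γ := by
    rw [← kc hγ a5, mul_assoc, ys, mul_one]
  obtain ⟨η, hη, yrτ⟩ : ∃ η, (η = 1 ∧ τ = 1 ∨ η = x r ∧ τ = t) ∧ y r * τ * y r = τ * η := by
    rcases hτ with h | h
    · exact ⟨1, Or.inl ⟨rfl, h⟩, by rw [h, mul_one, yr, mul_one]⟩
    · exact ⟨x r, Or.inr ⟨rfl, h⟩, by rw [h, D.ty r hr]⟩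
  obtain ⟨ζ, hζ, yrβ⟩ : ∃ ζ, (ζ = 1 ∧ β = 1 ∨ ζ = y q * κ ∧ β = x s) ∧ y r * β * y r = β * ζ := by
    rcases hβ with h | h
    · exact ⟨1, Or.inl ⟨rfl, h⟩, by rw [h, mul_one, yr, mul_one]⟩
    · exact ⟨y q * κ, Or.inr ⟨rfl, h⟩, by rw [h, m3]⟩
  have hηαβ : η * α * β * ζ = α * β * δ := by
    apply mul_right_cancel (b := γ)
    apply mul_left_cancel (a := τ)
    have e3 : y r * w * y r = (τ * η) * α * (β * ζ) * γ := by
      rw [← yrτ, ← yrβ]
      nth_rewrite 1 [he]
      calc y r * (τ * α * β * γ) * y r = y r * τ * 1 * α * 1 * β * 1 * γ * y r := by group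
        _ = y r * τ * (y r * y r) * α * (y r * y r) * β * (y r * y r) * γ * y r := by rw [yr]
        _ = (y r * τ * y r) * (y r * α * y r) * (y r * β * y r) * (y r * γ * y r) := by group
        _ = (y r * τ * y r) * α * (y r * β * y r) * γ := by rw [yrα, yrγ]
    have e4 : γ * δ = δ * γ := kc hγ (by rcases hδ with h | h <;> rw [h]; rw [mul_one, one_mul])
    calc τ * (η * α * β * ζ * γ) = (τ * η) * α * (β * ζ) * γ := by group
      _ = τ * α * β * (γ * δ) := by rw [← e3, hyrw, hwi]; group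
      _ = τ * (α * β * δ * γ) := by rw [e4]; group
  have hαL : α ∈ L := by rcases hα with h | h <;> rw [h]; exacts [one_mem _, D.xL r hr]
  have hβL : β ∈ L := by rcases hβ with h | h <;> rw [h]; exacts [one_mem _, D.xL s hs]
  have hηL : η ∈ L := by rcases hη with h | h <;> rw [h.1]; exacts [one_mem _, D.xL r hr]
  have hβ1 : β = 1 := by
    rcases hζ with h | h
    · exact h.2
    · exfalso
      have e3 : y q = (η * α * β)⁻¹ * (α * β * δ) * κ⁻¹ := by
        rw [← hηαβ, h.1]; group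
      exact D.y_mem R hq (by
        rw [e3]
        exact mul_mem (mul_mem (inv_mem (mul_mem (mul_mem hηL hαL) hβL)) (mul_mem (mul_mem hαL hβL) (hxL hδ)))
          (inv_mem (hxL hκ)))
  have hζ1 : ζ = 1 := by
    rcases hζ with h | h
    · exact h.1
    · exfalso
      rw [hβ1] at h
      exact D.x_ne s hs h.2.symm
  have hτ1 : τ = 1 := by
    rcases hη with h | h
    · exact h.2
    · exfalso
      rw [hβ1, hζ1, h.1, mul_one, mul_one, mul_one, ← hδα] at hηαβ
      exact xr_ne hδ (mul_right_cancel hηαβ)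
  -- conjugation by `y s`
  have hα1 : α = 1 := by
    rcases hα with h | h
    · exact h
    · exfalso
      have hδ1 : α = α * δ := by
        have e3 := hba
        rw [hβ1, one_mul, mul_one] at e3
        exact e3
      have hwe : w = x r * γ := by rw [he, hτ1, hβ1, h]; group
      have e3 : y s * w * y s = x r * (y q * κ') * γ := by
        rw [← m4, hwe]
        calc y s * (x r * γ) * y s = y s * x r * 1 * γ * y s := by group
          _ = y s * x r * (y s * y s) * γ * y s := by rw [ys]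
          _ = (y s * x r * y s) * (y s * γ * y s) := by group
          _ = y s * x r * y s * γ := by rw [ysγ]
      have e4 : y q = (x r)⁻¹ * w⁻¹ * γ⁻¹ * κ'⁻¹ := by
        rw [← hysw, e3]; group
      have hwL : w ∈ L := by rw [hwe]; exact mul_mem (D.xL r hr) (hxL hγ)
      exact D.y_mem R hq (by
        rw [e4]
        exact mul_mem (mul_mem (mul_mem (inv_mem (D.xL r hr)) (inv_mem hwL)) (inv_mem (hxL hγ))) (inv_mem (hxL hκ')))
  refine ⟨γ, ε, hγ, hε, ?_⟩
  rw [hτ1, hα1, hβ1, one_mul, one_mul, one_mul] at he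
  calc u = (u * ε) * ε := by rw [mul_assoc, hεs, mul_one]
    _ = γ * ε := by rw [← hw, he]

/-! ### The doubled root groups -/

/-- The four-group `⟨x_r, y_r⟩`. -/
def four (x y : E → G) (r : E) : Subgroup G := Subgroup.closure {x r, y r}

theorem x_mem_four (x y : E → G) (r : E) : x r ∈ four x y r := Subgroup.subset_closure (by simp)

theorem y_mem_four (x y : E → G) (r : E) : y r ∈ four x y r := Subgroup.subset_closure (by simp)

/-- The root group is `{1, x r}`. -/
theorem mem_X (D : Data ip Φ t L x y) {r : E} (hr : r ∈ Φ) {g : G} : g ∈ Subgroup.zpowers (x r) ↔ g = 1 ∨ g = x r := by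
  constructor
  · rintro ⟨k, rfl⟩
    have h2 : x r ^ (2 : ℤ) = 1 := by rw [zpow_ofNat, pow_two]; exact D.x_sq r hr
    rcases Int.even_or_odd' k with ⟨m, rfl | rfl⟩
    · left
      show x r ^ (2 * m) = 1
      rw [zpow_mul, h2, one_zpow]
    · right
      show x r ^ (2 * m + 1) = x r
      rw [zpow_add, zpow_mul, h2, one_zpow, one_mul, zpow_one]
  · rintro (rfl | rfl)
    · exact one_mem _
    · exact Subgroup.mem_zpowers _

theorem mem_four (D : Data ip Φ t L x y) (R : Root ip Φ) {r : E} (hr : r ∈ Φ) {g : G} :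
    g ∈ four x y r ↔ ∃ a b, (a = 1 ∨ a = x r) ∧ (b = 1 ∨ b = y r) ∧ g = a * b := by
  have xs := D.x_sq r hr
  have ys := D.y_sq r hr
  have c : x r * y r = y r * x r := D.yx hr hr (by rw [R.two r hr]; norm_num)
  constructor
  · intro hg
    unfold four at hg
    induction hg using Subgroup.closure_induction with
    | mem z hz =>
      rcases hz with rfl | hz
      · exact ⟨x r, 1, Or.inr rfl, Or.inl rfl, (mul_one _).symm⟩
      · rw [Set.mem_singleton_iff] at hz
        subst hz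
        exact ⟨1, y r, Or.inl rfl, Or.inr rfl, (one_mul _).symm⟩
    | one => exact ⟨1, 1, Or.inl rfl, Or.inl rfl, (one_mul _).symm⟩
    | mul z w _ _ h1 h2 =>
      obtain ⟨a, b, ha, hb, rfl⟩ := h1
      obtain ⟨a', b', ha', hb', rfl⟩ := h2
      have e : b * a' = a' * b := by
        rcases hb with h | h <;> rcases ha' with h' | h' <;> rw [h, h']
        · rw [mul_one, one_mul]
        · rw [mul_one, one_mul]
        · exact c.symm
      refine ⟨a * a', b * b', ?_, ?_, ?_⟩
      · rcases ha with h | h <;> rcases ha' with h' | h' <;> rw [h, h']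
        · left; rw [one_mul]
        · right; rw [one_mul]
        · right; rw [mul_one]
        · left; exact xs
      · rcases hb with h | h <;> rcases hb' with h' | h' <;> rw [h, h']
        · left; rw [one_mul]
        · right; rw [one_mul]
        · right; rw [mul_one]
        · left; exact ys
      · calc a * b * (a' * b') = a * (b * a') * b' := by group
          _ = a * a' * (b * b') := by rw [e]; group
    | inv z _ h1 =>
      obtain ⟨a, b, ha, hb, rfl⟩ := h1
      refine ⟨a, b, ha, hb, ?_⟩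
      rcases ha with h | h <;> rcases hb with h' | h' <;> rw [h, h']
      · group
      · rw [one_mul]; exact inv_eq_of_mul_eq_one_left ys
      · rw [mul_one]; exact inv_eq_of_mul_eq_one_left xs
      · rw [mul_inv_rev, inv_eq_of_mul_eq_one_left xs, inv_eq_of_mul_eq_one_left ys, c]
  · rintro ⟨a, b, ha, hb, rfl⟩
    refine mul_mem ?_ ?_
    · rcases ha with h | h <;> rw [h]
      · exact one_mem _
      · exact x_mem_four x y r
    · rcases hb with h | h <;> rw [h]
      · exact one_mem _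
      · exact y_mem_four x y r

/-- Two sets of generators which commute. -/
theorem comm_closure {A B : Set G} (h : ∀ a ∈ A, ∀ b ∈ B, a * b = b * a) :
    ∀ a ∈ Subgroup.closure A, ∀ b ∈ Subgroup.closure B, a * b = b * a := by
  have h1 : ∀ a ∈ A, ∀ b ∈ Subgroup.closure B, a * b = b * a := fun a ha b hb => by
    have e : Subgroup.closure B ≤ Subgroup.centralizer {a} := by
      rw [Subgroup.closure_le]
      intro b hb
      exact Subgroup.mem_centralizer_singleton_iff.2 (h a ha b hb).symm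
    exact (Subgroup.mem_centralizer_singleton_iff.1 (e hb)).symm
  intro a ha b hb
  have e : Subgroup.closure A ≤ Subgroup.centralizer {b} := by
    rw [Subgroup.closure_le]
    intro a ha
    exact Subgroup.mem_centralizer_singleton_iff.2 (h1 a ha b hb)
  exact Subgroup.mem_centralizer_singleton_iff.1 (e ha)

/-- Commutators of generators in a subgroup centralised by everything. -/
theorem commutator_closure {A B : Set G} {N : Subgroup G} (hA : ∀ a ∈ A, ∀ n ∈ N, a * n = n * a)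
    (hB : ∀ b ∈ B, ∀ n ∈ N, b * n = n * b) (h : ∀ a ∈ A, ∀ b ∈ B, a * b * a⁻¹ * b⁻¹ ∈ N) :
    ∀ a ∈ Subgroup.closure A, ∀ b ∈ Subgroup.closure B, a * b * a⁻¹ * b⁻¹ ∈ N := by
  have hA' : ∀ a ∈ Subgroup.closure A, ∀ n ∈ N, a * n = n * a := fun a ha n hn =>
    comm_closure (B := (N : Set G)) (fun a ha n hn => hA a ha n hn) a ha n (Subgroup.subset_closure hn)
  have hB' : ∀ a ∈ Subgroup.closure B, ∀ n ∈ N, a * n = n * a := fun a ha n hn =>
    comm_closure (B := (N : Set G)) (fun a ha n hn => hB a ha n hn) a ha n (Subgroup.subset_closure hn)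
  have h1 : ∀ a ∈ A, ∀ b ∈ Subgroup.closure B, a * b * a⁻¹ * b⁻¹ ∈ N := fun a ha b hb => by
    induction hb using Subgroup.closure_induction with
    | mem z hz => exact h a ha z hz
    | one => rw [mul_one, inv_one, mul_one, mul_inv_cancel]; exact one_mem _
    | mul z w hz hw h1 h2 =>
      have e : a * (z * w) * a⁻¹ * (z * w)⁻¹ = (a * z * a⁻¹ * z⁻¹) * (a * w * a⁻¹ * w⁻¹) := by
        have e1 := hB' z hz _ h2
        calc a * (z * w) * a⁻¹ * (z * w)⁻¹ = (a * z * a⁻¹ * z⁻¹) * (z * (a * w * a⁻¹ * w⁻¹)) * z⁻¹ := by group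
          _ = (a * z * a⁻¹ * z⁻¹) * (a * w * a⁻¹ * w⁻¹) := by rw [e1]; group
      rw [e]
      exact mul_mem h1 h2
    | inv z hz h1 =>
      have e : a * z⁻¹ * a⁻¹ * z⁻¹⁻¹ = (a * z * a⁻¹ * z⁻¹)⁻¹ := by
        have e1 := hB' z⁻¹ (inv_mem hz) _ (inv_mem h1)
        calc a * z⁻¹ * a⁻¹ * z⁻¹⁻¹ = z⁻¹ * (a * z * a⁻¹ * z⁻¹)⁻¹ * z := by group
          _ = (a * z * a⁻¹ * z⁻¹)⁻¹ := by rw [e1]; group
      rw [e]
      exact inv_mem h1
  intro a ha b hb
  induction ha using Subgroup.closure_induction with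
  | mem z hz => exact h1 z hz b hb
  | one => rw [one_mul, inv_one, mul_one, mul_inv_cancel]; exact one_mem _
  | mul z w hz hw h1 h2 =>
    have e : (z * w) * b * (z * w)⁻¹ * b⁻¹ = (w * b * w⁻¹ * b⁻¹) * (z * b * z⁻¹ * b⁻¹) := by
      have e1 := hA' z hz _ h2
      calc (z * w) * b * (z * w)⁻¹ * b⁻¹ = z * (w * b * w⁻¹ * b⁻¹) * (b * z⁻¹ * b⁻¹) := by group
        _ = (w * b * w⁻¹ * b⁻¹) * (z * b * z⁻¹ * b⁻¹) := by rw [e1]; group
    rw [e]
    exact mul_mem h2 h1
  | inv z hz h1 =>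
    have e : z⁻¹ * b * z⁻¹⁻¹ * b⁻¹ = (z * b * z⁻¹ * b⁻¹)⁻¹ := by
      have e1 := hA' z⁻¹ (inv_mem hz) _ (inv_mem h1)
      calc z⁻¹ * b * z⁻¹⁻¹ * b⁻¹ = z⁻¹ * (z * b * z⁻¹ * b⁻¹)⁻¹ * z := by group
        _ = (z * b * z⁻¹ * b⁻¹)⁻¹ := by rw [e1]; group
    rw [e]
    exact inv_mem h1

theorem mem_pair {a b z : G} (h : z ∈ ({a, b} : Set G)) : z = a ∨ z = b := by
  rcases h with h | h
  · exact Or.inl h
  · exact Or.inr h

/-- The doubled root groups of pairs with nonnegative inner product commute. -/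
theorem four_comm (D : Data ip Φ t L x y) (R : Root ip Φ) {r s : E} (hr : r ∈ Φ) (hs : s ∈ Φ) (h : 0 ≤ ip r s) :
    ∀ v ∈ four x y r, ∀ w ∈ four x y s, v * w = w * v := by
  have hy : y r * y s = y s * y r := by
    have hle := R.base.le r hr s hs
    have h3 : ip r s = 0 ∨ ip r s = 1 ∨ ip r s = 2 := by omega
    rcases h3 with h0 | h1 | h2
    · exact D.y_comm_zero R hr hs h0
    · exact D.y_comm_one R hr hs h1
    · rw [R.base.eq r hr s hs h2]
  refine comm_closure fun a ha b hb => ?_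
  rcases mem_pair ha with rfl | rfl <;> rcases mem_pair hb with rfl | rfl
  · exact D.x_comm r hr s hs h
  · exact D.yx hs hr (by rw [R.symm]; exact h)
  · exact (D.yx hr hs h).symm
  · exact hy

/-- The commutator relations of the doubled root groups. -/
theorem four_neg (D : Data ip Φ t L x y) (R : Root ip Φ) {r s : E} (hr : r ∈ Φ) (hs : s ∈ Φ) (h : ip r s = -1) :
    ∀ v ∈ four x y r, ∀ w ∈ four x y s, v * w * v⁻¹ * w⁻¹ ∈ four x y (r + s) := by
  have hq := R.add_mem r hr s hs h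
  have hsr : ip s r = -1 := by rw [R.symm, h]
  have i_rq : ip r (r + s) = 1 := by rw [R.add_right, R.two r hr, h]; norm_num
  have i_sq : ip s (r + s) = 1 := by rw [R.add_right, R.two s hs, hsr]; norm_num
  have hx := x_mem_four x y (r + s)
  have hy := y_mem_four x y (r + s)
  have c1 := D.four_comm R hr hq (by rw [i_rq]; norm_num)
  have c2 := D.four_comm R hs hq (by rw [i_sq]; norm_num)
  have xr := D.x_sq r hr
  have xs := D.x_sq s hs
  have yr := D.y_sq r hr
  have ys := D.y_sq s hs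
  have kin : ∀ {k : G}, (k = 1 ∨ k = x (r + s)) → k ∈ four x y (r + s) := fun {k} h => by
    rcases h with h | h <;> rw [h]
    · exact one_mem _
    · exact hx
  refine commutator_closure (fun a ha n hn => c1 a (Subgroup.subset_closure ha) n hn)
    (fun a ha n hn => c2 a (Subgroup.subset_closure ha) n hn) fun a ha b hb => ?_
  rcases mem_pair ha with rfl | rfl <;> rcases mem_pair hb with rfl | rfl
  · -- `[x r, x s]`
    rw [inv_eq_of_mul_eq_one_left xr, inv_eq_of_mul_eq_one_left xs]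
    have e : x r * x s * x r * x s = x (r + s) := by
      calc x r * x s * x r * x s = x r * (x s * x r * x s) := by group
        _ = (x r * x r) * x (r + s) := by rw [D.x_conj r hr s hs h]; group
        _ = x (r + s) := by rw [xr, one_mul]
    rw [e]
    exact hx
  · -- `[x r, y s]`
    obtain ⟨κ, hκ, e⟩ := D.lemA' R hs hr hsr
    rw [add_comm s r] at hκ e
    rw [inv_eq_of_mul_eq_one_left xr, inv_eq_of_mul_eq_one_left ys, e]
    have e2 : y (r + s) * y s * κ * y s = y (r + s) * κ := by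
      have e3 := c2 (y s) (y_mem_four x y s) κ (kin hκ)
      calc y (r + s) * y s * κ * y s = y (r + s) * (y s * κ) * y s := by group
        _ = y (r + s) * κ * (y s * y s) := by rw [e3]; group
        _ = y (r + s) * κ := by rw [ys, mul_one]
    rw [e2]
    exact mul_mem hy (kin hκ)
  · -- `[y r, x s]`
    obtain ⟨κ, hκ, e⟩ := D.lemA' R hr hs h
    rw [inv_eq_of_mul_eq_one_left yr, inv_eq_of_mul_eq_one_left xs]
    have e2 : y r * x s * y r * x s = y r * (y (r + s) * y r * κ) := by rw [← e]; group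
    have e3 : y r * (y (r + s) * y r * κ) = y (r + s) * κ := by
      have e4 := c1 (y r) (y_mem_four x y r) _ hy
      calc y r * (y (r + s) * y r * κ) = (y r * y (r + s)) * y r * κ := by group
        _ = y (r + s) * (y r * y r) * κ := by rw [e4]; group
        _ = y (r + s) * κ := by rw [yr, mul_one]
    rw [e2, e3]
    exact mul_mem hy (kin hκ)
  · -- `[y r, y s]`
    rw [inv_eq_of_mul_eq_one_left yr, inv_eq_of_mul_eq_one_left ys]
    obtain ⟨γ, ε, hγ, hε, e⟩ := D.spec R hr hs h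
    rw [e]
    refine mul_mem (kin hγ) ?_
    rcases hε with h | h <;> rw [h]
    · exact one_mem _
    · exact hy

/-- **The doubled root groups** in the form of `SL.Defs`. -/
theorem dbl (D : Data ip Φ t L x y) (R : Root ip Φ) :
    Dbl t ip Φ (fun r => Subgroup.zpowers (x r)) (four x y) where
  tt := D.tt
  XW := fun r _ => by
    rw [Subgroup.zpowers_le]
    exact x_mem_four x y r
  sq := fun r hr w hw => by
    obtain ⟨a, b, ha, hb, rfl⟩ := (D.mem_four R hr).1 hw
    have c : x r * y r = y r * x r := D.yx hr hr (by rw [R.two r hr]; norm_num)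
    have e : b * a = a * b := by
      rcases hb with h | h <;> rcases ha with h' | h' <;> rw [h, h']
      · rw [mul_one, one_mul]
      · rw [mul_one, one_mul]
      · exact c.symm
    have ea : a * a = 1 := by rcases ha with h | h <;> rw [h]; exacts [mul_one 1, D.x_sq r hr]
    have eb : b * b = 1 := by rcases hb with h | h <;> rw [h]; exacts [mul_one 1, D.y_sq r hr]
    calc a * b * (a * b) = a * (b * a) * b := by group
      _ = (a * a) * (b * b) := by rw [e]; group
      _ = 1 := by rw [ea, eb, one_mul]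
  conj_t := fun r hr w hw => by
    obtain ⟨a, b, ha, hb, rfl⟩ := (D.mem_four R hr).1 hw
    have e1 : t * a * t = a := by
      rcases ha with h | h <;> rw [h]
      · rw [mul_one, D.tt]
      · rw [D.tx hr, mul_assoc, D.tt, mul_one]
    have e2 : t * b * t ∈ four x y r := by
      rcases hb with h | h <;> rw [h]
      · rw [mul_one, D.tt]; exact one_mem _
      · rw [D.tyt R hr]; exact mul_mem (y_mem_four x y r) (x_mem_four x y r)
    have e3 : t * (a * b) * t = (t * a * t) * (t * b * t) := by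
      calc t * (a * b) * t = t * a * 1 * b * t := by group
        _ = t * a * (t * t) * b * t := by rw [D.tt]
        _ = (t * a * t) * (t * b * t) := by group
    rw [e3, e1]
    refine mul_mem ?_ e2
    rcases ha with h | h <;> rw [h]
    · exact one_mem _
    · exact x_mem_four x y r
  cent := fun r hr w hw => by
    have c : x r * y r = y r * x r := D.yx hr hr (by rw [R.two r hr]; norm_num)
    rw [D.mem_X hr]
    obtain ⟨a, b, ha, hb, rfl⟩ := (D.mem_four R hr).1 hw
    have e1 : t * a = a * t := by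
      rcases ha with h | h <;> rw [h]
      · rw [mul_one, one_mul]
      · exact D.tx hr
    rcases hb with h | h
    · rw [h, mul_one]
      exact ⟨fun _ => ha, fun _ => e1⟩
    · rw [h]
      constructor
      · intro h2
        exfalso
        rw [← mul_assoc, e1, mul_assoc, mul_assoc] at h2
        have h3 := mul_left_cancel h2
        have h4 := D.tyt R hr
        rw [h3, mul_assoc, D.tt, mul_one] at h4
        exact D.x_ne r hr (mul_eq_left.1 h4.symm)
      · intro h2
        exfalso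
        refine D.y_mem R hr ?_
        have h3 : a ∈ L := by rcases ha with h | h <;> rw [h]; exacts [one_mem _, D.xL r hr]
        have h4 : a * y r ∈ L := by rcases h2 with h | h <;> rw [h]; exacts [one_mem _, D.xL r hr]
        exact (Subgroup.mul_mem_cancel_left L h3).1 h4
  brk := fun r hr w hw => by
    show w⁻¹ * (t * w * t) ∈ Subgroup.zpowers (x r)
    rw [D.mem_X hr]
    obtain ⟨a, b, ha, hb, rfl⟩ := (D.mem_four R hr).1 hw
    have e1 : t * a * t = a := by
      rcases ha with h | h <;> rw [h]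
      · rw [mul_one, D.tt]
      · rw [D.tx hr, mul_assoc, D.tt, mul_one]
    have e3 : t * (a * b) * t = a * (t * b * t) := by
      calc t * (a * b) * t = t * a * 1 * b * t := by group
        _ = t * a * (t * t) * b * t := by rw [D.tt]
        _ = (t * a * t) * (t * b * t) := by group
        _ = a * (t * b * t) := by rw [e1]
    rw [e3]
    rcases hb with h | h <;> rw [h]
    · left; rw [mul_one, mul_one, D.tt, mul_one, inv_mul_cancel]
    · right; rw [D.tyt R hr]; group
  surj := fun r hr z hz => by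
    rcases (D.mem_X hr).1 hz with rfl | rfl
    · exact ⟨1, one_mem _, by rw [mul_one, D.tt]; group⟩
    · exact ⟨y r, y_mem_four x y r, by rw [D.tyt R hr]; group⟩
  pos := fun r hr s hs h => D.four_comm R hr hs h
  neg := fun r hr s hs h => D.four_neg R hr hs h

/-- **The end of the argument** over the field with two elements. -/
theorem exists_hom [Finite G] (D : Data ip Φ t L x y) (R : Root ip Φ) (ht : E →+ ℤ)
    (dir : ∀ a ∈ Φ, 0 < ht a →
      Subgroup.zpowers (x a) ⊓ (⨆ b : E, ⨆ _ : b ∈ Φ ∧ ht a ≤ ht b ∧ b ≠ a, Subgroup.zpowers (x b)) = ⊥)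
    (hodd : Odd ((Cfsg.Agent.OddHalf.SL.Bridge.pos ht Φ (fun r => Subgroup.zpowers (x r)) ⊔ Subgroup.zpowers t).relIndex
      (Subgroup.centralizer {t}))) :
    ∃ m : G →* ℤˣ, m t = -1 := by
  refine Cfsg.Agent.OddHalf.SL.Bridge.of_dbl R.base (D.dbl R) ht dir (fun h => D.t_notMem ?_) hodd
  refine (?_ : Cfsg.Agent.OddHalf.SL.Bridge.pos ht Φ (fun r => Subgroup.zpowers (x r)) ≤ L) h
  exact iSup₂_le fun a ha => by rw [Subgroup.zpowers_le]; exact D.xL a ha.1

end Data

end Cfsg.Agent.Doubling.Rel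
end

-- part: StdO8/D4Root
section
/-!
# The root system `D4`
-/

set_option autoImplicit false

namespace Cfsg.Agent.StdO8.D4Root

open Cfsg.Agent.OddHalf.SL.Defs (Roots)
open Cfsg.Agent.Doubling.Rel (Root)

/-- The root lattice is contained in `ℤ⁴`. -/
abbrev E := Fin 4 → ℤ

/-- The dot product. -/
def ip (a b : E) : ℤ := a 0 * b 0 + a 1 * b 1 + a 2 * b 2 + a 3 * b 3

/-- The twelve positive roots. -/
def pos : List E :=
  [![1, 1, 0, 0], ![1, -1, 0, 0], ![1, 0, 1, 0], ![1, 0, -1, 0], ![1, 0, 0, 1], ![1, 0, 0, -1],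
   ![0, 1, 1, 0], ![0, 1, -1, 0], ![0, 1, 0, 1], ![0, 1, 0, -1], ![0, 0, 1, 1], ![0, 0, 1, -1]]

/-- The twenty-four roots. -/
def roots : List E := pos ++ pos.map (fun v => -v)

/-- The root system. -/
def Φ : Set E := {v | v ∈ roots}

instance : DecidablePred (· ∈ Φ) := fun v => inferInstanceAs (Decidable (v ∈ roots))

theorem ip_symm (a b : E) : ip a b = ip b a := by unfold ip; ring

theorem ip_add_left (a b c : E) : ip (a + b) c = ip a c + ip b c := by
  unfold ip
  simp only [Pi.add_apply]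
  ring

theorem two : ∀ r ∈ roots, ip r r = 2 := by decide

theorem neg_mem : ∀ r ∈ roots, -r ∈ roots := by decide +kernel

theorem le : ∀ r ∈ roots, ∀ s ∈ roots, ip r s ≤ 2 := by decide +kernel

theorem eq : ∀ r ∈ roots, ∀ s ∈ roots, ip r s = 2 → r = s := by decide +kernel

theorem add : ∀ r ∈ roots, ∀ s ∈ roots, ip r s = -1 → r + s ∈ roots := by decide +kernel

theorem rank : ∀ r ∈ roots, ∀ s ∈ roots, ip r s = -1 → ∃ u ∈ roots, ip r u = -1 ∧ ip u s = 1 := by decide +kernel

theorem orth : ∀ r ∈ roots, ∀ s ∈ roots, ip r s = 0 → ∃ m ∈ roots, ip m s = -1 ∧ ip m r = 1 := by decide +kernel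

theorem isRoots : Roots ip Φ where
  fin := (List.finite_toSet roots)
  symm := ip_symm
  add_left := ip_add_left
  two := two
  neg_mem := neg_mem
  le := le
  eq := eq
  add := add

/-- `D4` satisfies the combinatorial hypotheses. -/
theorem root : Root ip Φ where
  base := isRoots
  rank := rank
  orth := orth

end Cfsg.Agent.StdO8.D4Root
end
end

-- part: StdO8/DoubRoot
section
prune_inst 0x312075447c4000000018009011003c66ae000192006b8001b0e00f4207cd8f41a0450f61bee01702113aae74283a8048115400d9423000002a008200411c0080042a32c61040b00021000040f885180c00000000000000000000000000000004000000000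
set_option linter.all false
open scoped Cfsg.Agent.FastGrp

-- part: StdO8/DoubRefl
section
/-!
# Doubling of a root element of `Ω₈⁺(2)`: reflections (S1734)

Seven commuting involutions `t, z, w, r, a, b, c` (`⟨z, w, r, a, b, c⟩` = the elementary abelian subgroup
`A_i` of `L`) and elements `e, u, n, m` of `L` normalising it. From an involution `y` moving `t` to `tz` we
get an element centralising `t` which acts on `A_i` as the transvection interchanging `a` and `b`.
-/

set_option autoImplicit false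
set_option linter.all false

namespace Cfsg.Agent.StdO8.DoubRefl

variable {G : Type*} [Group G]

/-- conjugation -/
def cj (g x : G) : G := g * x * g⁻¹

theorem cj_mul (g x y : G) : cj g (x * y) = cj g x * cj g y := by unfold cj; group

theorem cj_comp (g h x : G) : cj (g * h) x = cj g (cj h x) := by unfold cj; group

theorem cj_inv {g x y : G} (h : cj g x = y) : cj g⁻¹ y = x := by rw [← h]; unfold cj; group

theorem cj_one (x : G) : cj 1 x = x := by unfold cj; group

theorem lc {x y : G} (h : x * y = y * x) (u : G) : x * (y * u) = y * (x * u) := by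
  rw [← mul_assoc, h, mul_assoc]

theorem sq' {x : G} (h : x * x = 1) (u : G) : x * (x * u) = u := by
  rw [← mul_assoc, h, one_mul]

/-- The configuration. -/
structure Fr (t z w r a b c e u n m : G) : Prop where
  sq : ∀ p ∈ [t, z, w, r, a, b, c], p * p = 1
  cm : ∀ p ∈ [t, z, w, r, a, b, c], ∀ q ∈ [t, z, w, r, a, b, c], p * q = q * p
  et : cj e t = t
  ez : cj e z = r
  er : cj e r = r * z
  ew : cj e w = w * c
  ec : cj e c = w
  ea : cj e a = a
  eb : cj e b = b
  ut : cj u t = t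
  uz : cj u z = z
  ur : cj u r = r
  ua : cj u a = a
  ub : cj u b = b
  uw : cj u w = w * r
  uc : cj u c = c * z
  nt : cj n t = t
  nr : cj n r = r
  nc : cj n c = c
  nz : cj n z = a
  na : cj n a = z
  nw : cj n w = b
  nb : cj n b = w
  mt : cj m t = t
  mr : cj m r = r
  mc : cj m c = c
  mz : cj m z = b
  mb : cj m b = z
  mw : cj m w = a
  ma : cj m a = w

namespace Fr

variable {t z w r a b c e u n m : G}

/-- `v` centralises `t, z, w, r, c` and interchanges `a`, `b`. -/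
structure Refl (t z w r a b c v : G) : Prop where
  vt : cj v t = t
  vz : cj v z = z
  vw : cj v w = w
  vr : cj v r = r
  va : cj v a = b
  vb : cj v b = a
  vc : cj v c = c

/-- the permutation case -/
theorem perm (F : Fr t z w r a b c e u n m) {y : G} (yt : cj y t = t * z) (yz : cj y z = z) (yr : cj y r = r)
    (ya : cj y a = b) (yb : cj y b = a) (yc : cj y c = c) (yw : cj y w = w ∨ cj y w = w * z) :
    ∃ v, Refl t z w r a b c v := by
  have sz := F.sq z (by simp)
  have sw := F.sq w (by simp)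
  have sr := F.sq r (by simp)
  have sc := F.sq c (by simp)
  have zr := F.cm z (by simp) r (by simp)
  have wz := F.cm w (by simp) z (by simp)
  have wr := F.cm w (by simp) r (by simp)
  have cz := F.cm c (by simp) z (by simp)
  have crr := F.cm c (by simp) r (by simp)
  have cw := F.cm c (by simp) w (by simp)
  have ei_t : cj e⁻¹ t = t := cj_inv F.et
  have ei_r : cj e⁻¹ r = z := cj_inv F.ez
  have ei_z : cj e⁻¹ z = r * z := cj_inv (by rw [cj_mul, F.er, F.ez, mul_assoc, zr, sq' sr])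
  have ei_w : cj e⁻¹ w = c := cj_inv F.ec
  have ei_c : cj e⁻¹ c = c * w := cj_inv (by rw [cj_mul, F.ec, F.ew, sq' sw])
  have ei_a : cj e⁻¹ a = a := cj_inv F.ea
  have ei_b : cj e⁻¹ b = b := cj_inv F.eb
  set y1 := e * y * e⁻¹ with hy1
  set y2 := e * y1 * e⁻¹ with hy2
  have c1 : ∀ x, cj y1 x = cj e (cj y (cj e⁻¹ x)) := fun x => by rw [hy1, cj_comp, cj_comp]
  have c2 : ∀ x, cj y2 x = cj e (cj y1 (cj e⁻¹ x)) := fun x => by rw [hy2, cj_comp, cj_comp]
  have t1 : cj y1 t = t * r := by rw [c1, ei_t, yt, cj_mul, F.et, F.ez]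
  have z1 : cj y1 z = z := by rw [c1, ei_z, cj_mul, yr, yz, cj_mul, F.er, F.ez, mul_assoc, zr, sq' sr]
  have r1 : cj y1 r = r := by rw [c1, ei_r, yz, F.ez]
  have a1 : cj y1 a = b := by rw [c1, ei_a, ya, F.eb]
  have b1 : cj y1 b = a := by rw [c1, ei_b, yb, F.ea]
  have w1 : cj y1 w = w := by rw [c1, ei_w, yc, F.ec]
  have t2 : cj y2 t = t * (r * z) := by rw [c2, ei_t, t1, cj_mul, F.et, F.er]
  have z2 : cj y2 z = z := by rw [c2, ei_z, cj_mul, r1, z1, cj_mul, F.er, F.ez, mul_assoc, zr, sq' sr]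
  have r2 : cj y2 r = r := by rw [c2, ei_r, z1, F.ez]
  have a2 : cj y2 a = b := by rw [c2, ei_a, a1, F.eb]
  have b2 : cj y2 b = a := by rw [c2, ei_b, b1, F.ea]
  have c3 : ∀ x, cj (y2 * y1 * y) x = cj y2 (cj y1 (cj y x)) := fun x => by rw [cj_comp, cj_comp]
  have t3 : cj (y2 * y1 * y) t = t := by
    rw [c3, yt, cj_mul, t1, z1, cj_mul, cj_mul, t2, r2, z2]
    have : t * (r * z) * r * z = t * ((r * (z * r)) * z) := by group
    rw [this, zr, sq' sr, sz, mul_one]
  have z3 : cj (y2 * y1 * y) z = z := by rw [c3, yz, z1, z2]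
  have r3 : cj (y2 * y1 * y) r = r := by rw [c3, yr, r1, r2]
  have a3 : cj (y2 * y1 * y) a = b := by rw [c3, ya, b1, a2]
  have b3 : cj (y2 * y1 * y) b = a := by rw [c3, yb, a1, b2]
  rcases yw with yw | yw
  · have k1 : cj y1 c = c := by
      rw [c1, ei_c, cj_mul, yc, yw, cj_mul, F.ec, F.ew, sq' sw]
    have w2 : cj y2 w = w := by rw [c2, ei_w, k1, F.ec]
    have k2 : cj y2 c = c := by
      rw [c2, ei_c, cj_mul, k1, w1, cj_mul, F.ec, F.ew, sq' sw]
    have w3 : cj (y2 * y1 * y) w = w := by rw [c3, yw, w1, w2]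
    have k3 : cj (y2 * y1 * y) c = c := by rw [c3, yc, k1, k2]
    exact ⟨_, t3, z3, w3, r3, a3, b3, k3⟩
  · have k1 : cj y1 c = c * r := by
      rw [c1, ei_c, cj_mul, yc, yw, cj_mul, F.ec, cj_mul, F.ew, F.ez]
      rw [mul_assoc w, sq' sw]
    have w2 : cj y2 w = w * (r * z) := by rw [c2, ei_w, k1, cj_mul, F.ec, F.er]
    have k2 : cj y2 c = c * (r * z) := by
      rw [c2, ei_c, cj_mul, k1, w1, cj_mul, cj_mul, F.ec, F.er, F.ew]
      have h1 : w * (r * z) = r * z * w := by
        rw [← mul_assoc, wr, mul_assoc, wz, ← mul_assoc]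
      have h2 : c * (r * z) = r * z * c := by
        rw [← mul_assoc, crr, mul_assoc, cz, ← mul_assoc]
      rw [h1, mul_assoc, sq' sw, h2]
    have w3 : cj (y2 * y1 * y) w = w * r := by
      rw [c3, yw, cj_mul, w1, z1, cj_mul, w2, z2, mul_assoc, mul_assoc, sz, mul_one]
    have k3 : cj (y2 * y1 * y) c = c * z := by
      rw [c3, yc, k1, cj_mul, k2, r2, mul_assoc, mul_assoc, zr, sq' sr]
    have c4 : ∀ x, cj (u * (y2 * y1 * y)) x = cj u (cj (y2 * y1 * y) x) := fun x => cj_comp _ _ _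
    refine ⟨u * (y2 * y1 * y), ?_, ?_, ?_, ?_, ?_, ?_, ?_⟩
    · rw [c4, t3, F.ut]
    · rw [c4, z3, F.uz]
    · rw [c4, w3, cj_mul, F.uw, F.ur, mul_assoc, sr, mul_one]
    · rw [c4, r3, F.ur]
    · rw [c4, a3, F.ub]
    · rw [c4, b3, F.ua]
    · rw [c4, k3, cj_mul, F.uc, F.uz, mul_assoc, sz, mul_one]

/-- the sign case -/
theorem sign (F : Fr t z w r a b c e u n m) {y : G} (yt : cj y t = t * z) (yz : cj y z = z) (yr : cj y r = r)
    (ya : cj y a = a) (yb : cj y b = b) (yc : cj y c = c) (yw : cj y w = w * z) :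
    ∃ v, Refl t z w r a b c v := by
  have sa := F.sq a (by simp)
  have sb := F.sq b (by simp)
  have ab := F.cm a (by simp) b (by simp)
  have ta := F.cm t (by simp) a (by simp)
  have ni_t : cj n⁻¹ t = t := cj_inv F.nt
  have ni_r : cj n⁻¹ r = r := cj_inv F.nr
  have ni_c : cj n⁻¹ c = c := cj_inv F.nc
  have ni_z : cj n⁻¹ z = a := cj_inv F.na
  have ni_a : cj n⁻¹ a = z := cj_inv F.nz
  have ni_w : cj n⁻¹ w = b := cj_inv F.nb
  have ni_b : cj n⁻¹ b = w := cj_inv F.nw
  have mi_t : cj m⁻¹ t = t := cj_inv F.mt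
  have mi_r : cj m⁻¹ r = r := cj_inv F.mr
  have mi_c : cj m⁻¹ c = c := cj_inv F.mc
  have mi_z : cj m⁻¹ z = b := cj_inv F.mb
  have mi_b : cj m⁻¹ b = z := cj_inv F.mz
  have mi_w : cj m⁻¹ w = a := cj_inv F.ma
  have mi_a : cj m⁻¹ a = w := cj_inv F.mw
  set p := n * y * n⁻¹ with hp
  set q := m * y * m⁻¹ with hq
  have cp : ∀ x, cj p x = cj n (cj y (cj n⁻¹ x)) := fun x => by rw [hp, cj_comp, cj_comp]
  have cq : ∀ x, cj q x = cj m (cj y (cj m⁻¹ x)) := fun x => by rw [hq, cj_comp, cj_comp]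
  have p_t : cj p t = t * a := by rw [cp, ni_t, yt, cj_mul, F.nt, F.nz]
  have p_z : cj p z = z := by rw [cp, ni_z, ya, F.na]
  have p_w : cj p w = w := by rw [cp, ni_w, yb, F.nb]
  have p_r : cj p r = r := by rw [cp, ni_r, yr, F.nr]
  have p_c : cj p c = c := by rw [cp, ni_c, yc, F.nc]
  have p_a : cj p a = a := by rw [cp, ni_a, yz, F.nz]
  have p_b : cj p b = b * a := by rw [cp, ni_b, yw, cj_mul, F.nw, F.nz]
  have q_t : cj q t = t * b := by rw [cq, mi_t, yt, cj_mul, F.mt, F.mz]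
  have q_z : cj q z = z := by rw [cq, mi_z, yb, F.mb]
  have q_w : cj q w = w := by rw [cq, mi_w, ya, F.ma]
  have q_r : cj q r = r := by rw [cq, mi_r, yr, F.mr]
  have q_c : cj q c = c := by rw [cq, mi_c, yc, F.mc]
  have q_b : cj q b = b := by rw [cq, mi_b, yz, F.mz]
  have q_a : cj q a = a * b := by rw [cq, mi_a, yw, cj_mul, F.mw, F.mz]
  have c3 : ∀ x, cj (p * q * p) x = cj p (cj q (cj p x)) := fun x => by rw [cj_comp, cj_comp]
  refine ⟨p * q * p, ?_, ?_, ?_, ?_, ?_, ?_, ?_⟩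
  · rw [c3, p_t, cj_mul, q_t, q_a, cj_mul, cj_mul, cj_mul, p_t, p_b, p_a]
    have : t * a * (b * a) * (a * (b * a)) = t * (a * (b * ((a * a) * (b * a)))) := by group
    rw [this, sa, one_mul, sq' sb, sa, mul_one]
  · rw [c3, p_z, q_z, p_z]
  · rw [c3, p_w, q_w, p_w]
  · rw [c3, p_r, q_r, p_r]
  · rw [c3, p_a, q_a, cj_mul, p_a, p_b, ← mul_assoc, ab, mul_assoc, sa, mul_one]
  · rw [c3, p_b, cj_mul, q_b, q_a, cj_mul, cj_mul, p_a, p_b]
    have : b * a * (a * (b * a)) = b * ((a * a) * (b * a)) := by group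
    rw [this, sa, one_mul, sq' sb]
  · rw [c3, p_c, q_c, p_c]

end Fr

end Cfsg.Agent.StdO8.DoubRefl
end

-- part: StdO8/DoubRoot
section
/-!
# Doubling of a root element of `Ω₈⁺(2)`: root elements (S1734)

`XD`: the root elements `x s` (`s` in the root system `D4`) of `L`. `Core`, `Fr` in these coordinates:
`z = x (1,1,0,0)`, `r = x (1,0,1,0)`, `α = (1,-1,0,0), (0,0,1,-1), (0,0,1,1)`, `τ i = x (α i)`,
`d i = x (α i) x (-α i)`.
`exists_y`: the involution `y` with `t^y = tz` centralising `z, r, d i` and (mod `z`) `τ i`.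
-/

set_option autoImplicit false
set_option linter.all false

namespace Cfsg.Agent.StdO8.DoubRoot

open Subgroup Cfsg.Agent.StdO8.D4Root Cfsg.Agent.StdO8.DoubCore Cfsg.Agent.StdO8.DoubRefl

variable {G : Type*} [Group G]

/-- The root elements: the first eight fields of `Doubling.Rel.Data ip Φ t L x y`. -/
structure XD (t : G) (L : Subgroup G) (x : E → G) : Prop where
  tt : t * t = 1
  tL : ∀ g ∈ L, t * g = g * t
  t_notMem : t ∉ L
  xL : ∀ r ∈ Φ, x r ∈ L
  x_ne : ∀ r ∈ Φ, x r ≠ 1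
  x_sq : ∀ r ∈ Φ, x r * x r = 1
  x_comm : ∀ r ∈ Φ, ∀ s ∈ Φ, 0 ≤ ip r s → x r * x s = x s * x r
  x_conj : ∀ r ∈ Φ, ∀ s ∈ Φ, ip r s = -1 → x s * x r * x s = x r * x (r + s)

/-- the highest root -/
def zr : E := ![1, 1, 0, 0]

/-- the root `r` -/
def rr : E := ![1, 0, 1, 0]

/-- the three outer simple roots -/
def al : Fin 3 → E := ![![1, -1, 0, 0], ![0, 0, 1, -1], ![0, 0, 1, 1]]

/-- the central simple root -/
def ac : E := ![0, 1, -1, 0]

/-- `d i` -/
def dd (x : E → G) (i : Fin 3) : G := x (al i) * x (-al i)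

/-- `τ i` -/
def ta (x : E → G) (i : Fin 3) : G := x (al i)

/-- The Weyl element of the root `s`. -/
def nn (x : E → G) (s : E) : G := x s * x (-s) * x s

/-- The graph automorphism of `D4` fixing `al i` and interchanging `al j` and `al k`. -/
def gam (j k : Fin 3) (s : E) : E := s - (ip s (al j - al k) / 2) • (al j - al k)

/-- `v` centralises `t` and acts on the root elements of `L` as the graph automorphism. -/
structure Graph (t : G) (x : E → G) (j k : Fin 3) (v : G) : Prop where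
  vt : v * t = t * v
  vx : ∀ s ∈ Φ, v * x s * v⁻¹ = x (gam j k s)

/-- the conditions for `cj (x s) (x r) = x r * x q` -/
def CNeg (r s q : E) : Prop := r ∈ roots ∧ s ∈ roots ∧ ip r s = -1 ∧ r + s = q

/-- the conditions for `cj (x s) (x r) = x r` -/
def CFix (r s : E) : Prop := r ∈ roots ∧ s ∈ roots ∧ 0 ≤ ip r s

/-- the conditions for `cj (x s * x (-s)) (x r) = x q` -/
def EPos (r s q : E) : Prop :=
  CNeg r (-s) q ∧ CFix r s ∧ CNeg q s r ∧ q ∈ roots ∧ 0 ≤ ip q r

/-- the conditions for `cj (x s * x (-s)) (x r) = x r * x q` -/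
def ENeg (r s q : E) : Prop := CFix r (-s) ∧ CNeg r s q

/-- the conditions for `cj (nn x s) (x r) = x q` -/
def NPos (r s q : E) : Prop := CFix r s ∧ EPos r s q

/-- the conditions for `cj (nn x s) (x r) = x q` -/
def NNeg (r s q : E) : Prop :=
  CNeg r s q ∧ CFix r (-s) ∧ CNeg q (-s) r ∧ CFix q s ∧ 0 ≤ ip q r

/-- the conditions for `cj (nn x s) (x r) = x r` -/
def NZero (r s : E) : Prop := CFix r s ∧ CFix r (-s)

instance (r s q : E) : Decidable (CNeg r s q) := by unfold CNeg; infer_instance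
instance (r s : E) : Decidable (CFix r s) := by unfold CFix; infer_instance
instance (r s q : E) : Decidable (EPos r s q) := by unfold EPos; infer_instance
instance (r s q : E) : Decidable (ENeg r s q) := by unfold ENeg; infer_instance
instance (r s q : E) : Decidable (NPos r s q) := by unfold NPos; infer_instance
instance (r s q : E) : Decidable (NNeg r s q) := by unfold NNeg; infer_instance
instance (r s : E) : Decidable (NZero r s) := by unfold NZero; infer_instance

/-- the conditions of `frame` -/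
def FrOK (w a b c u n m : E) : Prop :=
  (∀ p ∈ [zr, w, rr, a, b, c], ∀ q ∈ [zr, w, rr, a, b, c], 0 ≤ ip p q) ∧
  (∀ p ∈ [zr, w, rr, a, b, c, u, n, m], p ∈ roots ∧ -p ∈ roots) ∧
  (EPos zr ac rr ∧ ENeg rr ac zr ∧ ENeg w ac c ∧ EPos c ac w ∧ NZero a ac ∧ NZero b ac) ∧
  (CFix zr u ∧ CFix rr u ∧ CFix a u ∧ CFix b u ∧ CNeg w u rr ∧ CNeg c u zr) ∧
  (NZero rr n ∧ NZero c n ∧ NPos zr n a ∧ NNeg a n zr ∧ NNeg w n b ∧ NPos b n w) ∧
  (NZero rr m ∧ NZero c m ∧ NPos zr m b ∧ NNeg b m zr ∧ NNeg w m a ∧ NPos a m w)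

instance (w a b c u n m : E) : Decidable (FrOK w a b c u n m) := by unfold FrOK; infer_instance

/-- the elements `u, n, m` -/
def fu : Fin 3 → E := ![![0, 1, 1, 0], ![1, 0, 0, 1], ![1, 0, 0, -1]]

/-- the elements `u, n, m` -/
def fn : Fin 3 → E := ![![0, 1, 0, -1], ![1, 0, -1, 0], ![1, 0, -1, 0]]

/-- the elements `u, n, m` -/
def fm : Fin 3 → E := ![![0, 1, 0, 1], ![0, 1, 0, 1], ![0, 1, 0, -1]]

/-- `j, k` -/
def oj : Fin 3 → Fin 3 := ![1, 0, 0]

/-- `j, k` -/
def ok : Fin 3 → Fin 3 := ![2, 2, 1]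

theorem frOK : ∀ i : Fin 3, FrOK (al i) (rr - al (oj i)) (rr - al (ok i)) (rr - al (oj i) - al (ok i))
    (fu i) (fn i) (fm i) := by decide +kernel

/-- `d j` on the roots of weight `+` -/
theorem dOK : ∀ i : Fin 3, EPos rr (al (oj i)) (rr - al (oj i)) ∧ EPos rr (al (ok i)) (rr - al (ok i)) ∧
    EPos (rr - al (oj i)) (al (ok i)) (rr - al (oj i) - al (ok i)) ∧
    EPos (rr - al (ok i)) (al (oj i)) (rr - al (oj i) - al (ok i)) := by decide +kernel

namespace XD

variable {t : G} {L : Subgroup G} {x : E → G} (X : XD t L x)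

include X

theorem inv {s : E} (hs : s ∈ Φ) : (x s)⁻¹ = x s := inv_eq_of_mul_eq_one_right (X.x_sq s hs)

/-- conjugation by a root element, special pair -/
theorem con {r s q : E} (h : CNeg r s q) : cj (x s) (x r) = x r * x q := by
  obtain ⟨hr, hs, h1, h2⟩ := h
  unfold cj
  rw [X.inv hs, X.x_conj r hr s hs h1, h2]

theorem fix {r s : E} (h : CFix r s) : cj (x s) (x r) = x r := by
  obtain ⟨hr, hs, h1⟩ := h
  unfold cj
  rw [← X.x_comm r hr s hs h1, mul_assoc, mul_inv_cancel, mul_one]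

theorem t_fix {g : G} (hg : g ∈ L) : cj g t = t := by
  unfold cj
  rw [← X.tL g hg, mul_assoc, mul_inv_cancel, mul_one]

theorem e_pos {r s q : E} (h : EPos r s q) : cj (x s * x (-s)) (x r) = x q := by
  obtain ⟨h1, h2, h3, hq, h4⟩ := h
  rw [cj_comp, X.con h1, cj_mul, X.fix h2, X.con h3, X.x_comm q hq r h1.1 h4, sq' (X.x_sq r h1.1)]

theorem e_neg {r s q : E} (h : ENeg r s q) : cj (x s * x (-s)) (x r) = x r * x q := by
  rw [cj_comp, X.fix h.1, X.con h.2]

theorem e_zero {r s : E} (h : NZero r s) : cj (x s * x (-s)) (x r) = x r := by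
  rw [cj_comp, X.fix h.2, X.fix h.1]

theorem n_pos {r s q : E} (h : NPos r s q) : cj (nn x s) (x r) = x q := by
  obtain ⟨h1, h2⟩ := h
  rw [nn, cj_comp, X.fix h1]
  exact X.e_pos h2

theorem n_neg {r s q : E} (h : NNeg r s q) : cj (nn x s) (x r) = x q := by
  obtain ⟨h1, h2, h3, h4, h5⟩ := h
  rw [nn, cj_comp, cj_comp, X.con h1, cj_mul, X.fix h2, X.con h3,
    X.x_comm q h3.1 r h1.1 h5, sq' (X.x_sq r h1.1), X.fix h4]

theorem n_zero {r s : E} (h : NZero r s) : cj (nn x s) (x r) = x r := by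
  rw [nn, cj_comp, X.fix h.1]
  exact X.e_zero h

theorem dL {s : E} (hs : s ∈ roots) (hs' : -s ∈ roots) : x s * x (-s) ∈ L :=
  L.mul_mem (X.xL s hs) (X.xL _ hs')

theorem nnL {s : E} (hs : s ∈ roots) (hs' : -s ∈ roots) : nn x s ∈ L :=
  L.mul_mem (X.dL hs hs') (X.xL s hs)

/-- the elements of the configuration `A_i` -/
theorem frame {w a b c u n m : E} (h : FrOK w a b c u n m) :
    Fr t (x zr) (x w) (x rr) (x a) (x b) (x c) (x ac * x (-ac)) (x u) (nn x n) (nn x m) := by
  obtain ⟨hc, hm, ⟨e1, e2, e3, e4, e5, e6⟩, ⟨u1, u2, u3, u4, u5, u6⟩, ⟨n1, n2, n3, n4, n5, n6⟩,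
    ⟨m1, m2, m3, m4, m5, m6⟩⟩ := h
  have mz := (hm zr (by simp)).1
  have mw := (hm w (by simp)).1
  have mr := (hm rr (by simp)).1
  have ma := (hm a (by simp)).1
  have mb := (hm b (by simp)).1
  have mc := (hm c (by simp)).1
  have mu := (hm u (by simp)).1
  have mn := hm n (by simp)
  have mm := hm m (by simp)
  have hmap : [t, x zr, x w, x rr, x a, x b, x c] = t :: ([zr, w, rr, a, b, c].map x) := rfl
  refine ⟨?_, ?_, X.t_fix (X.dL (by decide) (by decide)), X.e_pos e1, X.e_neg e2, X.e_neg e3, X.e_pos e4,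
    X.e_zero e5, X.e_zero e6, X.t_fix (X.xL u mu), X.fix u1, X.fix u2, X.fix u3, X.fix u4, X.con u5, X.con u6,
    X.t_fix (X.nnL mn.1 mn.2), X.n_zero n1, X.n_zero n2, X.n_pos n3, X.n_neg n4, X.n_neg n5, X.n_pos n6,
    X.t_fix (X.nnL mm.1 mm.2), X.n_zero m1, X.n_zero m2, X.n_pos m3, X.n_neg m4, X.n_neg m5, X.n_pos m6⟩
  · intro p hp
    rw [hmap, List.mem_cons] at hp
    rcases hp with rfl | hp
    · exact X.tt
    · obtain ⟨s, hs, rfl⟩ := List.mem_map.1 hp
      refine X.x_sq s (hm s ?_).1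
      simp only [List.mem_cons, List.not_mem_nil, or_false] at hs ⊢
      (clear * - hs; tauto)
  · intro p hp q hq
    rw [hmap, List.mem_cons] at hp hq
    have key : ∀ s ∈ [zr, w, rr, a, b, c], s ∈ roots := by
      intro s hs
      refine (hm s ?_).1
      simp only [List.mem_cons, List.not_mem_nil, or_false] at hs ⊢
      (clear * - hs; tauto)
    rcases hp with rfl | hp <;> rcases hq with rfl | hq
    · rfl
    · obtain ⟨s, hs, rfl⟩ := List.mem_map.1 hq
      exact X.tL _ (X.xL s (key s hs))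
    · obtain ⟨s, hs, rfl⟩ := List.mem_map.1 hp
      exact (X.tL _ (X.xL s (key s hs))).symm
    · obtain ⟨s, hs, rfl⟩ := List.mem_map.1 hp
      obtain ⟨s', hs', rfl⟩ := List.mem_map.1 hq
      exact X.x_comm s (key s hs) s' (key s' hs') (hc s hs s' hs')

theorem frame_i (i : Fin 3) : Fr t (x zr) (ta x i) (x rr) (x (rr - al (oj i))) (x (rr - al (ok i)))
    (x (rr - al (oj i) - al (ok i))) (x ac * x (-ac)) (x (fu i)) (nn x (fn i)) (nn x (fm i)) :=
  X.frame (frOK i)

theorem d_j (i : Fin 3) : cj (dd x (oj i)) (x rr) = x (rr - al (oj i)) := X.e_pos (dOK i).1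

theorem d_k (i : Fin 3) : cj (dd x (ok i)) (x rr) = x (rr - al (ok i)) := X.e_pos (dOK i).2.1

theorem d_kj (i : Fin 3) : cj (dd x (ok i)) (x (rr - al (oj i))) = x (rr - al (oj i) - al (ok i)) :=
  X.e_pos (dOK i).2.2.1

theorem d_jk (i : Fin 3) : cj (dd x (oj i)) (x (rr - al (ok i))) = x (rr - al (oj i) - al (ok i)) :=
  X.e_pos (dOK i).2.2.2

end XD

theorem cj_cj (y g x : G) : cj y (cj g x) = cj (cj y g) (cj y x) := by unfold cj; group

/-- correction to an involution -/
theorem act_inv {t z r : G} {L : Subgroup G} {d τ : Fin 3 → G} (K : Core t z r L d τ)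
    {π : Equiv.Perm (Fin 3)} {y : G} (A : Core.Act t z r d τ π y) (hπ : π * π = 1) :
    ∃ y', Core.Act t z r d τ π y' ∧ y' * y' = 1 := by
  rcases A.sq K hπ with h | h
  · exact ⟨_, A, h⟩
  · refine ⟨_, A.mul_t K, ?_⟩
    have h3 : y * t * (y * t) = (y * y) * (y⁻¹ * t * y) * t := by group
    have h4 : y⁻¹ * t * y = t * z := by
      have := A.ctz K
      have h5 : y * (t * z) = t * y := mul_inv_eq_iff_eq_mul.1 this
      rw [mul_assoc, ← h5, inv_mul_cancel_left]
    rw [h3, h, h4, K.tz]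
    have : z * (z * t) * t = (z * z) * (t * t) := by group
    rw [this, K.zz, K.tt, one_mul]

theorem perm_cases : ∀ π : Equiv.Perm (Fin 3), π * π = 1 → π = 1 ∨
    ∃ i : Fin 3, π i = i ∧ π (oj i) = ok i ∧ π (ok i) = oj i := by decide +kernel

/-- the root `al i` under the graph automorphism -/
theorem gam_al : ∀ i : Fin 3, gam (oj i) (ok i) (al i) = al i ∧ gam (oj i) (ok i) (-al i) = -al i ∧
    gam (oj i) (ok i) (al (oj i)) = al (ok i) ∧ gam (oj i) (ok i) (-al (oj i)) = -al (ok i) ∧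
    gam (oj i) (ok i) (al (ok i)) = al (oj i) ∧ gam (oj i) (ok i) (-al (ok i)) = -al (oj i) ∧
    gam (oj i) (ok i) zr = zr ∧ gam (oj i) (ok i) rr = rr := by decide +kernel

theorem al_mem : ∀ i : Fin 3, al i ∈ roots ∧ -al i ∈ roots := by decide +kernel

theorem fin_cases' : ∀ i l : Fin 3, l = i ∨ l = oj i ∨ l = ok i := by decide +kernel

/-- **The involution `y`.** -/
structure YZ (t : G) (x : E → G) (y : G) : Prop where
  yy : y * y = 1
  yt : y * t * y⁻¹ = t * x zr
  yz : y * x zr = x zr * y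
  yr : y * x rr = x rr * y
  yd : ∀ i, y * dd x i = dd x i * y
  yτ : ∀ i, y * ta x i * y⁻¹ = ta x i ∨
    (y * ta x i * y⁻¹ = ta x i * x zr ∧ ∃ v, Graph t x (oj i) (ok i) v)

theorem exists_y [Finite G] {t : G} {L : Subgroup G} {x : E → G} (X : XD t L x)
    (K : Core t (x zr) (x rr) L (dd x) (ta x))
    (f8 : ∀ i v, Fr.Refl t (x zr) (ta x i) (x rr) (x (rr - al (oj i))) (x (rr - al (ok i)))
      (x (rr - al (oj i) - al (ok i))) v → ∃ v', Graph t x (oj i) (ok i) v')
    {g : G} (hz : g * x zr * g⁻¹ = x zr) (ht : g * t * g⁻¹ = t * x zr) : ∃ y, YZ t x y := by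
  obtain ⟨π, y, A, yy, hπ⟩ := K.exists_inv hz ht
  -- reduction to `π = 1`
  obtain ⟨y, A, yy⟩ : ∃ y, Core.Act t (x zr) (x rr) (dd x) (ta x) 1 y ∧ y * y = 1 := by
    rcases perm_cases π hπ with rfl | ⟨i, hi, hj, hk⟩
    · exact ⟨y, A, yy⟩
    · have cd : ∀ l, cj y (dd x l) = dd x (π l) := A.cd
      have cr : cj y (x rr) = x rr := A.cr
      have ya : cj y (x (rr - al (oj i))) = x (rr - al (ok i)) := by
        rw [← X.d_j, cj_cj, cd, cr, hj, X.d_k]
      have yb : cj y (x (rr - al (ok i))) = x (rr - al (oj i)) := by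
        rw [← X.d_k, cj_cj, cd, cr, hk, X.d_j]
      have yc : cj y (x (rr - al (oj i) - al (ok i))) = x (rr - al (oj i) - al (ok i)) := by
        rw [← X.d_kj, cj_cj, cd, ya, hk, X.d_jk, X.d_kj]
      obtain ⟨v, hv⟩ := (X.frame_i i).perm A.ct A.cz cr ya yb yc (K.fix_τ A yy hi)
      obtain ⟨v', hv'⟩ := f8 i v hv
      have ginv := gam_al i
      have vx : ∀ s ∈ Φ, cj v' (x s) = x (gam (oj i) (ok i) s) := hv'.vx
      have vt : cj v' t = t := by unfold cj; rw [hv'.vt, mul_inv_cancel_right]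
      have hA : Core.Act t (x zr) (x rr) (dd x) (ta x) 1 (v' * y) := by
        have e : ∀ u, v' * y * u * (v' * y)⁻¹ = cj v' (cj y u) := by intro u; unfold cj; group
        have vz : cj v' (x zr) = x zr := by
          rw [vx zr (by decide), ginv.2.2.2.2.2.2.1]
        have vta : ∀ l, cj v' (x (al l)) = ta x (π l) := by
          intro l
          rw [vx _ (al_mem l).1]
          rcases fin_cases' i l with rfl | rfl | rfl
          · rw [ginv.1, hi]; rfl
          · rw [ginv.2.2.1, hj]; rfl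
          · rw [ginv.2.2.2.2.1, hk]; rfl
        have vta' : ∀ l, cj v' (x (-al l)) = x (-al (π l)) := by
          intro l
          rw [vx _ (al_mem l).2]
          rcases fin_cases' i l with rfl | rfl | rfl
          · rw [ginv.2.1, hi]
          · rw [ginv.2.2.2.1, hj]
          · rw [ginv.2.2.2.2.2.1, hk]
        have hππ : ∀ l, π (π l) = l := fun l => by
          have := congrArg (fun p : Equiv.Perm (Fin 3) => p l) hπ
          simpa using this
        refine ⟨?_, ?_, ?_, ?_, ?_⟩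
        · rw [e, show cj y (x zr) = x zr from A.cz, vz]
        · rw [e, show cj y t = t * x zr from A.ct, cj_mul, vt, vz]
        · rw [e, cr, vx rr (by decide), ginv.2.2.2.2.2.2.2]
        · intro l
          rw [e, cd, dd, cj_mul, vta, vta']
          change x (al (π (π l))) * x (-al (π (π l))) = x (al l) * x (-al l)
          rw [hππ]
        · intro l
          obtain ⟨s, hs, h1⟩ := A.cτ l
          refine ⟨cj v' s, ?_, ?_⟩
          · rcases hs with rfl | rfl | rfl | rfl
            · left; unfold cj; group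
            · right; left; exact vt
            · right; right; left; exact vz
            · right; right; right; rw [cj_mul, vt, vz]
          · rw [e, show cj y (ta x l) = ta x (π l) * s from h1, cj_mul]
            congr 1
            rw [show ta x (π l) = x (al (π l)) from rfl, vta]
            change ta x (π (π l)) = ta x l
            rw [hππ]
      exact act_inv K hA (by simp)
  have yinv : y⁻¹ = y := inv_eq_of_mul_eq_one_right yy
  have cd : ∀ l, cj y (dd x l) = dd x l := A.cd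
  have cr : cj y (x rr) = x rr := A.cr
  refine ⟨y, yy, A.ct, mul_inv_eq_iff_eq_mul.1 A.cz, mul_inv_eq_iff_eq_mul.1 A.cr,
    fun i => mul_inv_eq_iff_eq_mul.1 (A.cd i), fun i => ?_⟩
  rcases K.fix_τ A yy (i := i) rfl with h | h
  · left; exact h
  · right
    refine ⟨h, ?_⟩
    have ya : cj y (x (rr - al (oj i))) = x (rr - al (oj i)) := by
      rw [← X.d_j, cj_cj, cd, cr]
    have yb : cj y (x (rr - al (ok i))) = x (rr - al (ok i)) := by
      rw [← X.d_k, cj_cj, cd, cr]
    have yc : cj y (x (rr - al (oj i) - al (ok i))) = x (rr - al (oj i) - al (ok i)) := by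
      rw [← X.d_kj, cj_cj, cd, ya]
    obtain ⟨v, hv⟩ := (X.frame_i i).sign A.ct A.cz cr ya yb yc h
    exact f8 i v hv

private noncomputable def _root_.Cfsg.Agent.LsF.f04638a_0 : {f // @Cfsg.Agent.StdO8.D4Root.pos = f} := ⟨_, by first | (delta Cfsg.Agent.StdO8.D4Root.pos; rewrite [Cfsg.Agent.LsF.ineg_pat, Cfsg.Agent.LsF.vecCons_eq]; exact rfl) | exact rfl⟩
private noncomputable def _root_.Cfsg.Agent.LsF.f04638a_1 : {f // @Cfsg.Agent.StdO8.D4Root.roots = f} := ⟨_, by first | (delta Cfsg.Agent.StdO8.D4Root.roots; rewrite [Cfsg.Agent.LsF.pneg_pat, Cfsg.Agent.LsF.f04638a_0.2, Cfsg.Agent.LsF.ineg_pat, Cfsg.Agent.LsF.lappend_pat, Cfsg.Agent.LsF.map_eq]; exact rfl) | exact rfl⟩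
private noncomputable def _root_.Cfsg.Agent.LsF.f04638a_2 : {f // @Cfsg.Agent.StdO8.D4Root.ip = f} := ⟨_, by first | (delta Cfsg.Agent.StdO8.D4Root.ip; rewrite [Cfsg.Agent.LsF.iadd_pat, Cfsg.Agent.LsF.imul_pat]; exact rfl) | exact rfl⟩
theorem npos_of : ∀ p ∈ roots, ∀ q ∈ roots, ip p q = 1 → NPos p (p - q) q ∧ -(p - q) ∈ roots := by (refine of_decide_eq_true ?_; (try (delta Cfsg.Agent.StdO8.DoubRoot.CFix Cfsg.Agent.StdO8.DoubRoot.CNeg Cfsg.Agent.StdO8.DoubRoot.EPos Cfsg.Agent.StdO8.DoubRoot.NPos Cfsg.Agent.StdO8.DoubRoot.instDecidableCFix Cfsg.Agent.StdO8.DoubRoot.instDecidableCNeg Cfsg.Agent.StdO8.DoubRoot.instDecidableEPos Cfsg.Agent.StdO8.DoubRoot.instDecidableNPos; rewrite [Cfsg.Agent.LsF.padd_pat, Cfsg.Agent.LsF.psub_pat, Cfsg.Agent.LsF.pneg_pat, Cfsg.Agent.LsF.dMemE_pat, Cfsg.Agent.LsF.f04638a_1.2, Cfsg.Agent.LsF.f04638a_2.2, Cfsg.Agent.LsF.iadd_pat, Cfsg.Agent.LsF.isub_pat, Cfsg.Agent.LsF.ineg_pat, Cfsg.Agent.LsF.finFintype_eq, Cfsg.Agent.LsF.dPi_eq,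 Cfsg.Agent.LsF.instIDecEq_eq, Cfsg.Agent.LsF.idecLe_eq, Cfsg.Agent.LsF.dAnd_eq, Cfsg.Agent.LsF.dBAll_eq, Cfsg.Agent.LsF.dAllP_eq, Cfsg.Agent.LsF.decide_eq])); decide +kernel)

theorem trans' : ∀ s ∈ roots, ∃ u ∈ roots, ∃ v ∈ roots, ip zr u = 1 ∧ ip u v = 1 ∧ ip v s = 1 := by
  decide +kernel

/-- `L` is transitive on the root elements. -/
theorem exists_conj {t : G} {L : Subgroup G} {x : E → G} (X : XD t L x) {s : E} (hs : s ∈ Φ) :
    ∃ g ∈ L, g * x zr * g⁻¹ = x s := by
  have step : ∀ p ∈ roots, ∀ q ∈ roots, ip p q = 1 → ∃ g ∈ L, g * x p * g⁻¹ = x q := by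
    intro p hp q hq h
    obtain ⟨h1, h2⟩ := npos_of p hp q hq h
    exact ⟨nn x (p - q), X.nnL h1.1.2.1 h2, X.n_pos h1⟩
  obtain ⟨u, hu, v, hv, h1, h2, h3⟩ := trans' s hs
  obtain ⟨a, ha, ha'⟩ := step zr (by decide) u hu h1
  obtain ⟨b, hb, hb'⟩ := step u hu v hv h2
  obtain ⟨c, hc, hc'⟩ := step v hv s hs h3
  refine ⟨c * b * a, L.mul_mem (L.mul_mem hc hb) ha, ?_⟩
  rw [← hc', ← hb', ← ha']
  group

/-- The doubling involutions when `y` centralises `C_L(z)`. -/
theorem exists_Y {t : G} {L : Subgroup G} {x : E → G} (X : XD t L x)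
    (f7 : ∀ g ∈ L, g * x zr = x zr * g → g ∈ closure ({x zr, x rr} ∪ Set.range (dd x) ∪ Set.range (ta x)))
    {y : G} (Y : YZ t x y) (h0 : ∀ i, y * ta x i * y⁻¹ = ta x i) :
    ∃ Y : E → G, (∀ r ∈ Φ, Y r * Y r = 1) ∧ (∀ r ∈ Φ, Y r * t * Y r = t * x r) ∧
      (∀ r ∈ Φ, ∀ g ∈ L, g * x r = x r * g → g * Y r = Y r * g) := by
  classical
  have hy : ∀ g ∈ L, g * x zr = x zr * g → g * y = y * g := by
    intro g hg hgz
    have : closure ({x zr, x rr} ∪ Set.range (dd x) ∪ Set.range (ta x)) ≤ centralizer {y} := by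
      rw [closure_le]
      rintro _ (((rfl | rfl) | ⟨i, rfl⟩) | ⟨i, rfl⟩)
      · exact mem_centralizer_singleton_iff.2 Y.yz.symm
      · exact mem_centralizer_singleton_iff.2 Y.yr.symm
      · exact mem_centralizer_singleton_iff.2 (Y.yd i).symm
      · exact mem_centralizer_singleton_iff.2 (mul_inv_eq_iff_eq_mul.1 (h0 i)).symm
    exact mem_centralizer_singleton_iff.1 (this (f7 g hg hgz))
  have yinv : y⁻¹ = y := inv_eq_of_mul_eq_one_right Y.yy
  have hex : ∀ s, s ∈ Φ → ∃ g ∈ L, g * x zr * g⁻¹ = x s := fun s hs => exists_conj X hs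
  refine ⟨fun s => if hs : s ∈ Φ then (hex s hs).choose * y * (hex s hs).choose⁻¹ else 1, ?_, ?_, ?_⟩
  · intro s hs
    simp only [dif_pos hs]
    generalize (hex s hs).choose = c
    calc c * y * c⁻¹ * (c * y * c⁻¹) = c * (y * y) * c⁻¹ := by group
      _ = 1 := by rw [Y.yy]; group
  · intro s hs
    simp only [dif_pos hs]
    obtain ⟨hL, hc⟩ := (hex s hs).choose_spec
    revert hL hc
    generalize (hex s hs).choose = c
    intro hL hc
    have h1 : c⁻¹ * t * c = t := by
      rw [mul_assoc, X.tL c hL, inv_mul_cancel_left]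
    have h2 : y * t * y = t * x zr := by
      have := Y.yt
      rwa [yinv] at this
    calc c * y * c⁻¹ * t * (c * y * c⁻¹) = c * (y * (c⁻¹ * t * c) * y) * c⁻¹ := by group
      _ = c * t * x zr * c⁻¹ := by rw [h1, h2]; group
      _ = t * (c * x zr * c⁻¹) := by rw [← X.tL c hL]; group
      _ = t * x s := by rw [hc]
  · intro s hs g hg hgs
    simp only [dif_pos hs]
    obtain ⟨hL, hc⟩ := (hex s hs).choose_spec
    revert hL hc
    generalize (hex s hs).choose = c
    intro hL hc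
    rw [← hc] at hgs
    have h1 : c⁻¹ * g * c * x zr = x zr * (c⁻¹ * g * c) := by
      calc c⁻¹ * g * c * x zr = c⁻¹ * (g * (c * x zr * c⁻¹)) * c := by group
        _ = c⁻¹ * ((c * x zr * c⁻¹) * g) * c := by rw [hgs]
        _ = x zr * (c⁻¹ * g * c) := by group
    have h2 := hy _ (L.mul_mem (L.mul_mem (L.inv_mem hL) hg) hL) h1
    calc g * (c * y * c⁻¹) = c * (c⁻¹ * g * c * y) * c⁻¹ := by group
      _ = c * (y * (c⁻¹ * g * c)) * c⁻¹ := by rw [h2]
      _ = c * y * c⁻¹ * g := by group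

end Cfsg.Agent.StdO8.DoubRoot
end

private theorem dce_6dfbf1dcab3c : _root_.True := by
  try have : _root_.True := by simp only [_root_.Cfsg.Agent.StdO8.DoubRoot.nn.eq_1]
  try have : _root_.True := by simp only [_root_.Cfsg.Agent.StdO8.DoubRoot.dd.eq_1]
  exact _root_.True.intro
end

-- part: StdO8/ShadowDefs_mg
section
set_option linter.all false
open scoped Cfsg.Agent.FastGrp

-- part: StdO8/ShadowDefs
section
/-!
# The input of the Fi22.2 shadow (S1734, `L` of type Ω₈⁺(2), `ε = (1,1,1)`)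

`z` = highest root element, `e S` (`S < 8`, bit `i` of `S`) = root element of `α₂ + ∑_{i ∈ S} αᵢ`, `s i`, `n i` = root elements
of `αᵢ`, `-αᵢ` (the three outer nodes), `x` = the involution over `z`, `x'` the involution over `e 7`.
-/

set_option autoImplicit false

namespace Cfsg.Agent.StdO8.Shadow

/-- Equality up to the factor `z`. -/
def E {G : Type*} [Group G] (z a b : G) : Prop := a = b ∨ a = b * z

structure Base {G : Type*} [Group G] (t x z : G) (e s n : ℕ → G) (x' : G) : Prop where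
  tt : t * t = 1
  xx : x * x = 1
  zz : z * z = 1
  z_ne : z ≠ 1
  zt : z * t = t * z
  zx : z * x = x * z
  ze : ∀ S < 8, z * e S = e S * z
  zs : ∀ i < 3, z * s i = s i * z
  zn : ∀ i < 3, z * n i = n i * z
  zx' : z * x' = x' * z
  tx : t * x = x * t * z
  te : ∀ S < 8, t * e S = e S * t
  xe : ∀ S < 8, x * e S = e S * x
  ee : ∀ S < 8, e S * e S = 1
  ec : ∀ S < 8, ∀ R < 8, R ≠ 7 - S → e S * e R = e R * e S
  ed : ∀ S < 8, e S * e (7 - S) = e (7 - S) * e S * z
  cQ : ∀ g, g * t = t * g → (∀ S < 8, g * e S = e S * g) → g = 1 ∨ g = t ∨ g = z ∨ g = t * z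
  ts : ∀ i < 3, t * s i = s i * t
  tn : ∀ i < 3, t * n i = n i * t
  xs : ∀ i < 3, E z ((s i)⁻¹ * x * s i) x
  xn : ∀ i < 3, E z ((n i)⁻¹ * x * n i) x
  es : ∀ i < 3, ∀ S < 8, E z ((s i)⁻¹ * e S * s i) (if S.testBit i then e S else e S * e (S + 2 ^ i))
  en : ∀ i < 3, ∀ S < 8, E z ((n i)⁻¹ * e S * n i) (if S.testBit i then e S * e (S - 2 ^ i) else e S)
  tx' : E z (x'⁻¹ * t * x') (t * e 7)
  e1' : ∀ S, (S = 1 ∨ S = 2 ∨ S = 4) → E z (x'⁻¹ * e S * x') (e S * e 7)
  e3' : ∀ S, (S = 3 ∨ S = 5 ∨ S = 6 ∨ S = 7) → E z (x'⁻¹ * e S * x') (e S)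

/-- The data with `δ = 0`. -/
structure Data {G : Type*} [Group G] (t x z : G) (e s n : ℕ → G) (x' : G) : Prop extends Base t x z e s n x' where
  xx' : E z (x'⁻¹ * x * x') x
  e0' : E z (x'⁻¹ * e 0 * x') (e 0 * x * e 3 * e 5 * e 6)
  nz : ¬ IsConj t z
  cardC : ¬ 2 ^ 15 ∣ Nat.card (Subgroup.centralizer ({t} : Set G))
  five : ∀ g, g * t = t * g → g * z = z * g → g ^ 5 = 1 → g = 1
  norm : ∀ g, g * t = t * g → g * z = z * g → ∀ S < 8, g⁻¹ * e S * g ∈ Subgroup.closure (e '' Set.Iio 8)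

/-- The data with `δ = 1`. -/
structure Data1 {G : Type*} [Group G] (t x z : G) (e s n : ℕ → G) (x' : G) : Prop extends Base t x z e s n x' where
  xx' : E z (x'⁻¹ * x * x') (x * e 7)
  e0' : E z (x'⁻¹ * e 0 * x') (e 0 * x * t * e 3 * e 5 * e 6 * e 7)
  nr : ∀ g, g * t = t * g → g * z = z * g → ¬ E z (g⁻¹ * e 0 * g) (e 1 * e 3 * e 5)

end Cfsg.Agent.StdO8.Shadow
end

-- part: StdO8/ShadowComp
section
/-!
# The 128 matrices of the Fi22.2 shadow (`L` of type Ω₈⁺(2))

`V10 = M/⟨z⟩` with basis `t, x, e_S` (`S ⊆ {0,1,2}`); vectors are 10-bit numbers, matrices are lists of the images of the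
basis vectors (row convention).
-/

set_option autoImplicit false

namespace Cfsg.Agent.StdO8.Shadow

/-- Action of a matrix on a vector. -/
def ap : List ℕ → ℕ → ℕ
  | [], _ => 0
  | a :: l, v => (if v % 2 = 1 then a else 0) ^^^ ap l (v / 2)

theorem ap_zero (m : List ℕ) : ap m 0 = 0 := by
  induction m with
  | nil => rfl
  | cons a l ih => simp [ap, ih]

theorem ap_xor (m : List ℕ) (u v : ℕ) : ap m (u ^^^ v) = ap m u ^^^ ap m v := by
  induction m generalizing u v with
  | nil => exact (Nat.xor_self 0).symm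
  | cons a l ih =>
    simp only [ap, Nat.xor_div_two, ih, Nat.xor_mod_two_eq_one]
    by_cases h1 : u % 2 = 1 <;> by_cases h2 : v % 2 = 1
    · simp only [h1, h2, iff_self, not_true_eq_false, if_false, if_true, Nat.zero_xor]
      rw [Nat.xor_assoc, Nat.xor_left_comm (ap l (u / 2)), ← Nat.xor_assoc a a, Nat.xor_self, Nat.zero_xor]
    · simp only [h1, h2, iff_false, not_true_eq_false, not_false_eq_true, if_false, if_true, Nat.zero_xor]
      rw [Nat.xor_assoc]
    · simp only [h1, h2, false_iff, not_true_eq_false, not_false_eq_true, if_false, if_true, Nat.zero_xor]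
      rw [Nat.xor_left_comm]
    · simp only [h1, h2, iff_self, not_true_eq_false, if_false, Nat.zero_xor]

/-- Product (first `a`, then `b`). -/
def mulM (a b : List ℕ) : List ℕ := a.map (ap b)

theorem ap_mulM (a b : List ℕ) (v : ℕ) : ap (mulM a b) v = ap b (ap a v) := by
  induction a generalizing v with
  | nil => exact (ap_zero b).symm
  | cons c l ih =>
    have h : mulM (c :: l) b = ap b c :: mulM l b := rfl
    rw [h]
    simp only [ap]
    rw [ap_xor, ih]
    by_cases h1 : v % 2 = 1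
    · simp [h1]
    · simp [h1, ap_zero]

theorem mulM_assoc (a b c : List ℕ) : mulM (mulM a b) c = mulM a (mulM b c) := by
  simp only [mulM, List.map_map]
  apply List.map_congr_left
  intro v _
  exact (ap_mulM b c v).symm

def idM : List ℕ := [1, 2, 4, 8, 16, 32, 64, 128, 256, 512]

private noncomputable def _root_.Cfsg.Agent.KOdcecf9e.k0 : ((x0 : Prop) → ((@Decidable @x0) → @Bool)) := @(fun (x0 : Prop) (x1 : @Decidable @x0) => @Decidable.rec.{1} @x0 @(fun (x2 : @Decidable @x0) => @Bool) @(fun (x2 : @Not @x0) => @Bool.false) @(fun (x2 : x0) => @Bool.true) @x1)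
private theorem _root_.Cfsg.Agent.KOdcecf9e.e0 : @Decidable.decide = @_root_.Cfsg.Agent.KOdcecf9e.k0 := by delta _root_.Cfsg.Agent.KOdcecf9e.k0; rfl'
private noncomputable def _root_.Cfsg.Agent.KOdcecf9e.oEq.{ku} (α : Sort ku) (a b : Nat) (f t : α) : α := @Decidable.rec (a = b) (fun _ => α) (fun _ => f) (fun _ => t) (Nat.decEq a b)
private noncomputable def _root_.Cfsg.Agent.KOdcecf9e.k1.{ku} (α : Sort ku) (a b : Nat) (f t : α) : α := @Bool.rec (fun _ => α) f t (Nat.beq a b)
private theorem _root_.Cfsg.Agent.KOdcecf9e.e1.{ku} : @_root_.Cfsg.Agent.KOdcecf9e.oEq.{ku} = @_root_.Cfsg.Agent.KOdcecf9e.k1.{ku} := funext fun α => funext fun a => funext fun b => funext fun f => funext fun t => by delta _root_.Cfsg.Agent.KOdcecf9e.oEq _root_.Cfsg.Agent.KOdcecf9e.k1; cases h : Nat.beq a b <;> cases Nat.decEq a b <;> rename_i g <;> first | rfl | exact absurd g (Nat.ne_of_beq_eq_false h) | exact absurd (Nat.eq_of_beq_eq_true h) g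
private theorem _root_.Cfsg.Agent.KOdcecf9e.e2.{ku, kv} {α : Type kv} {M : List α → Sort ku} (φ : ∀ l, M l) {z : M List.nil} {s : ∀ a l, M l → M (List.cons a l)} (h0 : φ List.nil = z) (hs : ∀ a l, φ (List.cons a l) = s a l (φ l)) (l : List α) : φ l = @List.rec α M z s l := List.rec h0 (fun a l ih => (hs a l).trans (congrArg (s a l) ih)) l
private noncomputable def _root_.Cfsg.Agent.KOdcecf9e.k3 : (by first | exact type_of% @Cfsg.Agent.StdO8.Shadow.ap | exact Unit : Sort _) := by first | (refine @Subtype.val _ (fun g => @Cfsg.Agent.StdO8.Shadow.ap = @g) (@Subtype.mk _ _ (@(fun (x0 : @List.{0} @Nat) (x1 : @Nat) => @List.rec.{1, 0} @Nat @(fun (x2 : @List.{0} @Nat) => (@Nat → @Nat)) @(fun (x2 : @Nat) => nat_lit 0) @(fun (x2 : @Nat) (x3 : @List.{0} @Nat) (x4 : (@Nat → @Nat)) (x5 : @Nat) => @Nat.xor (@Cfsg.Agent.KOdcecf9e.k1.{1} @Nat (@Nat.mod @x5 (nat_lit 2)) (nat_lit 1) (nat_lit 0) @x2) (@x4 (@Nat.div @x5 (nat_lit 2)))) @x0 @x1)) ?_); rewrite [← Cfsg.Agent.KOdcecf9e.e1.{1}];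 funext a0 a1; refine (congrFun (_root_.Cfsg.Agent.KOdcecf9e.e2 (fun a0 a1 => @Cfsg.Agent.StdO8.Shadow.ap a0 a1) ?_ (fun c0 c1 => ?_) a0) a1 :) <;> (rfl')) | exact @Cfsg.Agent.StdO8.Shadow.ap | exact ()
private theorem _root_.Cfsg.Agent.KOdcecf9e.e3 : (by first | exact @Cfsg.Agent.StdO8.Shadow.ap = @_root_.Cfsg.Agent.KOdcecf9e.k3 | exact True : Prop) := by first | (delta _root_.Cfsg.Agent.KOdcecf9e.k3; exact @Subtype.property _ (fun g => @Cfsg.Agent.StdO8.Shadow.ap = @g) _) | rfl | trivial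
private noncomputable def _root_.Cfsg.Agent.KOdcecf9e.k4l (n : Nat) (P : ∀ k, k < n → Prop) (H : ∀ k h, Decidable (P k h)) (m : Nat) : m ≤ n → Bool := @Nat.rec (fun m => m ≤ n → Bool) (fun _ => true) (fun k ih h => @Decidable.rec (P k h) (fun _ => Bool) (fun _ => false) (fun _ => ih (Nat.le_of_succ_le h)) (H k h)) m
private theorem _root_.Cfsg.Agent.KOdcecf9e.k4ls (n : Nat) (P : ∀ k, k < n → Prop) (H : ∀ k h, Decidable (P k h)) (m : Nat) : ∀ h : m ≤ n, _root_.Cfsg.Agent.KOdcecf9e.k4l n P H m h = true ↔ ∀ k (g : k < m), P k (Nat.lt_of_lt_of_le g h) := by induction m with | zero => exact fun _ => ⟨fun _ _ g => absurd g (Nat.not_lt_zero _), fun _ => rfl⟩ | succ m ih => intro h; show @Decidable.rec (P m h) (fun _ => Bool) (fun _ => false) (fun _ => _root_.Cfsg.Agent.KOdcecf9e.k4l n P H m (Nat.le_of_succ_le h)) (H m h) = true ↔ _; cases H m h with | isFalse q => exact ⟨fun g => absurd g Bool.false_ne_true, fun g => absurd (g m (Nat.lt_succ_self m)) q⟩ | isTrue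 q => exact ⟨fun g k hk => (Nat.lt_succ_iff_lt_or_eq.1 hk).elim ((ih _).1 g k) fun e => by subst e; exact q, fun g => (ih _).2 fun k hk => g k (Nat.lt_succ_of_lt hk)⟩
private noncomputable def _root_.Cfsg.Agent.KOdcecf9e.k4 (n : Nat) (P : ∀ k, k < n → Prop) (H : ∀ k h, Decidable (P k h)) : Decidable (∀ k h, P k h) := @Bool.rec (fun b => _root_.Cfsg.Agent.KOdcecf9e.k4l n P H n (Nat.le_refl n) = b → Decidable (∀ k h, P k h)) (fun g => isFalse fun q => Bool.false_ne_true (g.symm.trans ((_root_.Cfsg.Agent.KOdcecf9e.k4ls n P H n _).2 fun k h => q k h))) (fun g => isTrue fun k h => (_root_.Cfsg.Agent.KOdcecf9e.k4ls n P H n _).1 g k h) (_root_.Cfsg.Agent.KOdcecf9e.k4l n P H n (Nat.le_refl n)) rfl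
private theorem _root_.Cfsg.Agent.KOdcecf9e.e4 : @Nat.decidableBallLT = @_root_.Cfsg.Agent.KOdcecf9e.k4 := funext fun _ => funext fun _ => funext fun _ => Subsingleton.elim _ _
private noncomputable def _root_.Cfsg.Agent.KOdcecf9e.k5 : ((x0 : @Nat) → ((x1 : @Nat) → @Decidable (@Eq.{1} @Nat @x0 @x1))) := @(fun (x0 : @Nat) (x1 : @Nat) => @Bool.rec.{1} @(fun (x2 : @Bool) => ((@Eq.{1} @Bool (@Nat.beq @x0 @x1) @x2) → @Decidable (@Eq.{1} @Nat @x0 @x1))) @(fun (x2 : @Eq.{1} @Bool (@Nat.beq @x0 @x1) @Bool.false) => @Decidable.isFalse (@Eq.{1} @Nat @x0 @x1) (@Nat.ne_of_beq_eq_false @x0 @x1 @x2)) @(fun (x2 : @Eq.{1} @Bool (@Nat.beq @x0 @x1) @Bool.true) => @Decidable.isTrue (@Eq.{1} @Nat @x0 @x1) (@Nat.eq_of_beq_eq_true @x0 @x1 @x2)) (@Nat.beq @x0 @x1) (@Eq.refl.{1} @Bool (@Nat.beq @x0 @x1)))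
private theorem _root_.Cfsg.Agent.KOdcecf9e.e5 : @Nat.decEq = @_root_.Cfsg.Agent.KOdcecf9e.k5 := by delta _root_.Cfsg.Agent.KOdcecf9e.k5; rfl'
private noncomputable def _root_.Cfsg.Agent.KOdcecf9e.k6 : @DecidableEq.{1} @Nat := @Cfsg.Agent.KOdcecf9e.k5
private theorem _root_.Cfsg.Agent.KOdcecf9e.e6 : @instDecidableEqNat = @_root_.Cfsg.Agent.KOdcecf9e.k6 := by delta _root_.Cfsg.Agent.KOdcecf9e.k6; rewrite [← Cfsg.Agent.KOdcecf9e.e5]; rfl'

theorem ap_idM (v : ℕ) (hv : v < 1024) : ap idM v = v := by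
  have : ∀ v < 1024, ap idM v = v := by (first | (refine of_decide_eq_true ?_; rewrite [Cfsg.Agent.KOdcecf9e.e0, Cfsg.Agent.KOdcecf9e.e3, Cfsg.Agent.KOdcecf9e.e4, Cfsg.Agent.KOdcecf9e.e6]; decide +kernel) | decide +kernel)
  exact this v hv

/-- Generators of the 2-group. -/
def gs : List (List ℕ) := [
  [1, 2, 12, 8, 48, 32, 192, 128, 768, 512],
  [1, 2, 20, 40, 16, 32, 320, 640, 256, 512],
  [1, 2, 68, 136, 272, 544, 64, 128, 256, 512],
  [1, 2, 4, 8, 64, 128, 16, 32, 256, 512],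
  [513, 2, 422, 520, 528, 32, 576, 128, 256, 512],
  [769, 2, 502, 762, 784, 800, 832, 896, 256, 512],
  [545, 2, 446, 560, 552, 32, 986, 800, 672, 512]]

/-- The 2-group of order 128. -/
def SL : List (List ℕ) := [[1, 2, 4, 8, 16, 32, 64, 128, 256, 512], [1, 2, 12, 8, 48, 32, 192, 128, 768, 512],
  [1, 2, 20, 40, 16, 32, 320, 640, 256, 512], [1, 2, 68, 136, 272, 544, 64, 128, 256, 512],
  [1, 2, 4, 8, 64, 128, 16, 32, 256, 512], [513, 2, 422, 520, 528, 32, 576, 128, 256, 512],
  [769, 2, 502, 762, 784, 800, 832, 896, 256, 512], [545, 2, 446, 560, 552, 32, 986, 800, 672, 512],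
  [1, 2, 60, 40, 48, 32, 960, 640, 768, 512], [1, 2, 204, 136, 816, 544, 192, 128, 768, 512],
  [1, 2, 12, 8, 192, 128, 48, 32, 768, 512], [513, 2, 942, 520, 560, 32, 704, 128, 768, 512],
  [769, 2, 780, 762, 48, 800, 192, 896, 768, 512], [545, 2, 910, 560, 520, 32, 250, 800, 160, 512],
  [1, 2, 340, 680, 272, 544, 320, 640, 256, 512], [1, 2, 68, 136, 64, 128, 272, 544, 256, 512],
  [513, 2, 950, 552, 528, 32, 832, 640, 256, 512], [769, 2, 742, 474, 784, 800, 576, 384, 256, 512],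
  [545, 2, 918, 528, 552, 32, 378, 288, 672, 512], [1, 2, 20, 40, 320, 640, 16, 32, 256, 512],
  [513, 2, 998, 648, 784, 544, 576, 128, 256, 512], [769, 2, 694, 378, 528, 288, 832, 896, 256, 512],
  [545, 2, 612, 272, 136, 544, 986, 800, 672, 512], [513, 2, 422, 520, 576, 128, 528, 32, 256, 512],
  [769, 2, 502, 762, 832, 896, 784, 800, 256, 512], [545, 2, 446, 560, 986, 800, 552, 32, 672, 512],
  [257, 2, 84, 250, 272, 800, 320, 896, 256, 512], [33, 2, 28, 48, 40, 32, 474, 800, 672, 512],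
  [257, 2, 862, 602, 304, 288, 448, 384, 768, 512], [641, 2, 494, 704, 648, 128, 890, 896, 672, 512],
  [33, 2, 638, 304, 168, 544, 602, 288, 160, 512], [1, 2, 1020, 680, 816, 544, 960, 640, 768, 512],
  [1, 2, 204, 136, 192, 128, 816, 544, 768, 512], [513, 2, 414, 552, 560, 32, 448, 640, 768, 512],
  [769, 2, 828, 474, 48, 800, 960, 384, 768, 512], [545, 2, 390, 528, 520, 32, 90, 288, 160, 512],
  [1, 2, 60, 40, 960, 640, 48, 32, 768, 512], [513, 2, 366, 648, 304, 544, 704, 128, 768, 512],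
  [769, 2, 972, 378, 816, 288, 192, 896, 768, 512], [545, 2, 884, 272, 680, 544, 250, 800, 160, 512],
  [513, 2, 942, 520, 704, 128, 560, 32, 768, 512], [769, 2, 780, 762, 192, 896, 48, 800, 768, 512],
  [545, 2, 910, 560, 250, 800, 520, 32, 160, 512], [257, 2, 174, 250, 560, 800, 704, 896, 768, 512],
  [33, 2, 44, 48, 8, 32, 762, 800, 160, 512], [257, 2, 260, 602, 16, 288, 64, 384, 256, 512],
  [641, 2, 814, 704, 520, 128, 250, 896, 160, 512], [33, 2, 846, 304, 648, 544, 890, 288, 672, 512],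
  [1, 2, 340, 680, 320, 640, 272, 544, 256, 512], [513, 2, 246, 168, 784, 544, 832, 640, 256, 512],
  [769, 2, 166, 90, 528, 288, 576, 384, 256, 512], [545, 2, 748, 816, 136, 544, 378, 288, 672, 512],
  [513, 2, 998, 648, 576, 128, 784, 544, 256, 512], [769, 2, 694, 378, 832, 896, 528, 288, 256, 512],
  [545, 2, 612, 272, 986, 800, 136, 544, 672, 512], [257, 2, 324, 986, 272, 800, 64, 384, 256, 512],
  [33, 2, 52, 16, 40, 32, 890, 288, 672, 512], [257, 2, 622, 890, 304, 288, 704, 896, 768, 512],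
  [641, 2, 870, 576, 648, 128, 474, 384, 672, 512], [33, 2, 726, 784, 168, 544, 762, 800, 160, 512],
  [513, 2, 950, 552, 832, 640, 528, 32, 256, 512], [769, 2, 742, 474, 576, 384, 784, 800, 256, 512],
  [545, 2, 918, 528, 378, 288, 552, 32, 672, 512], [257, 2, 276, 890, 16, 288, 320, 896, 256, 512],
  [33, 2, 454, 784, 648, 544, 474, 800, 672, 512], [257, 2, 670, 986, 560, 800, 448, 384, 768, 512],
  [641, 2, 660, 320, 40, 640, 890, 896, 672, 512], [33, 2, 36, 16, 8, 32, 602, 288, 160, 512],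
  [257, 2, 84, 250, 320, 896, 272, 800, 256, 512], [33, 2, 28, 48, 474, 800, 40, 32, 672, 512],
  [257, 2, 862, 602, 448, 384, 304, 288, 768, 512], [641, 2, 494, 704, 890, 896, 648, 128, 672, 512],
  [33, 2, 638, 304, 602, 288, 168, 544, 160, 512], [769, 2, 252, 90, 816, 288, 960, 384, 768, 512],
  [129, 2, 76, 192, 136, 128, 378, 896, 672, 512], [545, 2, 476, 816, 680, 544, 90, 288, 160, 512],
  [513, 2, 94, 168, 304, 544, 448, 640, 768, 512], [129, 2, 734, 448, 168, 640, 602, 384, 160, 512],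
  [1, 2, 1020, 680, 960, 640, 816, 544, 768, 512], [513, 2, 366, 648, 704, 128, 304, 544, 768, 512],
  [769, 2, 972, 378, 192, 896, 816, 288, 768, 512], [545, 2, 884, 272, 250, 800, 680, 544, 160, 512],
  [641, 2, 294, 576, 520, 128, 90, 384, 160, 512], [513, 2, 414, 552, 448, 640, 560, 32, 768, 512],
  [769, 2, 828, 474, 960, 384, 48, 800, 768, 512], [545, 2, 390, 528, 90, 288, 520, 32, 160, 512],
  [641, 2, 980, 320, 680, 640, 250, 896, 160, 512], [257, 2, 174, 250, 704, 896, 560, 800, 768, 512],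
  [33, 2, 44, 48, 762, 800, 8, 32, 160, 512], [257, 2, 260, 602, 64, 384, 16, 288, 256, 512],
  [641, 2, 814, 704, 250, 896, 520, 128, 160, 512], [33, 2, 846, 304, 890, 288, 648, 544, 672, 512],
  [129, 2, 140, 192, 8, 128, 762, 896, 160, 512], [129, 2, 798, 448, 552, 640, 986, 384, 672, 512],
  [513, 2, 246, 168, 832, 640, 784, 544, 256, 512], [769, 2, 166, 90, 576, 384, 528, 288, 256, 512],
  [545, 2, 748, 816, 378, 288, 136, 544, 672, 512], [641, 2, 700, 960, 40, 640, 474, 384, 672, 512],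
  [257, 2, 276, 890, 320, 896, 16, 288, 256, 512], [33, 2, 454, 784, 474, 800, 648, 544, 672, 512],
  [257, 2, 670, 986, 448, 384, 560, 800, 768, 512], [641, 2, 660, 320, 890, 896, 40, 640, 672, 512],
  [33, 2, 36, 16, 602, 288, 8, 32, 160, 512], [129, 2, 196, 64, 136, 128, 986, 384, 672, 512],
  [129, 2, 630, 832, 168, 640, 762, 896, 160, 512], [257, 2, 324, 986, 64, 384, 272, 800, 256, 512],
  [33, 2, 52, 16, 890, 288, 40, 32, 672, 512], [257, 2, 622, 890, 704, 896, 304, 288, 768, 512],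
  [641, 2, 870, 576, 474, 384, 648, 128, 672, 512], [33, 2, 726, 784, 762, 800, 168, 544, 160, 512],
  [129, 2, 310, 832, 552, 640, 378, 896, 672, 512], [129, 2, 132, 64, 8, 128, 602, 384, 160, 512],
  [769, 2, 252, 90, 960, 384, 816, 288, 768, 512], [129, 2, 76, 192, 378, 896, 136, 128, 672, 512],
  [545, 2, 476, 816, 90, 288, 680, 544, 160, 512], [513, 2, 94, 168, 448, 640, 304, 544, 768, 512],
  [129, 2, 734, 448, 602, 384, 168, 640, 160, 512], [641, 2, 380, 960, 680, 640, 90, 384, 160, 512],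
  [641, 2, 980, 320, 250, 896, 680, 640, 160, 512], [641, 2, 294, 576, 90, 384, 520, 128, 160, 512],
  [129, 2, 140, 192, 762, 896, 8, 128, 160, 512], [129, 2, 798, 448, 986, 384, 552, 640, 672, 512],
  [641, 2, 700, 960, 474, 384, 40, 640, 672, 512], [129, 2, 310, 832, 378, 896, 552, 640, 672, 512],
  [129, 2, 132, 64, 602, 384, 8, 128, 160, 512], [129, 2, 196, 64, 986, 384, 136, 128, 672, 512],
  [129, 2, 630, 832, 762, 896, 168, 640, 160, 512], [641, 2, 380, 960, 90, 384, 680, 640, 160, 512]]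

/-- Spanning tree: element `k + 1` is the product of element `p` and generator `j`. -/
def tree : List (ℕ × ℕ) := [(0, 0), (0, 1), (0, 2), (0, 3), (0, 4), (0, 5), (0, 6), (1, 1), (1, 2), (1, 3), (1, 4), (1, 5), (1, 6), (2,
  2), (2, 3), (2, 4), (2, 5), (2, 6), (3, 3), (3, 4), (3, 5), (3, 6), (4, 4), (4, 5), (4, 6), (5, 5), (5, 6),
  (6, 0), (6, 6), (7, 2), (8, 2), (8, 3), (8, 4), (8, 5), (8, 6), (9, 3), (9, 4), (9, 5), (9, 6), (10, 4),
  (10, 5), (10, 6), (11, 5), (11, 6), (12, 0), (12, 6), (13, 2), (14, 3), (14, 4), (14, 5), (14, 6), (15, 4),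
  (15, 5), (15, 6), (16, 5), (16, 6), (17, 0), (17, 6), (18, 2), (19, 4), (19, 5), (19, 6), (20, 5), (20, 6),
  (21, 0), (21, 6), (22, 2), (23, 5), (23, 6), (24, 0), (24, 6), (25, 2), (26, 0), (26, 6), (27, 2), (28, 5),
  (28, 6), (31, 3), (32, 4), (32, 5), (32, 6), (34, 6), (36, 4), (36, 5), (36, 6), (38, 6), (40, 5), (40, 6),
  (41, 0), (41, 6), (42, 2), (43, 6), (45, 6), (48, 4), (48, 5), (48, 6), (50, 6), (52, 5), (52, 6), (53, 0),
  (53, 6), (54, 2), (55, 6), (57, 6), (60, 5), (60, 6), (61, 0), (61, 6), (62, 2), (63, 6), (65, 6), (68, 0),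
  (68, 6), (69, 2), (70, 5), (70, 6), (73, 6), (80, 6), (84, 6), (87, 6), (89, 6), (95, 6), (98, 6), (100, 6),
  (105, 6), (107, 6), (112, 6)]

theorem SL_len : SL.length = 128 := by decide +kernel

private noncomputable def apF (m : List ℕ) : ℕ → ℕ :=
  @List.rec ℕ (fun _ => ℕ → ℕ) (fun _ => 0) (fun a _ ih v => Nat.xor (Nat.mul (Nat.mod v 2) a) (ih (Nat.div v 2))) m

private theorem apF_eq (m : List ℕ) : ∀ v, ap m v = apF m v := by
  induction m with
  | nil => intro v; rfl
  | cons a l ih =>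
    intro v
    show (if v % 2 = 1 then a else 0) ^^^ ap l (v / 2) = (v % 2 * a) ^^^ apF l (v / 2)
    rw [ih]
    rcases Nat.mod_two_eq_zero_or_one v with h | h
    · rw [h, if_neg Nat.zero_ne_one, Nat.zero_mul]
    · rw [h, if_pos rfl, Nat.one_mul]

private noncomputable def mulF (a g : List ℕ) : List ℕ := @List.rec ℕ (fun _ => List ℕ) [] (fun x _ ih => apF g x :: ih) a

private theorem mulF_eq (a g : List ℕ) : mulM a g = mulF a g := by
  induction a with
  | nil => rfl
  | cons x l ih => exact congrArg₂ List.cons (apF_eq g x) ih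

private noncomputable def cdF (l : List ℕ) : ℕ := @List.rec ℕ (fun _ => ℕ) 0 (fun a _ ih => Nat.add a (Nat.shiftLeft ih 10)) l

private noncomputable def eqF (a : List ℕ) : List ℕ → Bool :=
  @List.rec ℕ (fun _ => List ℕ → Bool) (fun b => @List.rec ℕ (fun _ => Bool) true (fun _ _ _ => false) b)
    (fun x _ ih b => @List.rec ℕ (fun _ => Bool) false (fun y t _ => @Bool.rec (fun _ => Bool) false (ih t) (Nat.beq x y)) b) a

private theorem eqF_spec : ∀ a b : List ℕ, eqF a b = true → a = b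
  | [], [], _ => rfl
  | [], _ :: _, h => nomatch h
  | _ :: _, [], h => nomatch h
  | x :: a, y :: b, h => by
    have h1 : @Bool.rec (fun _ => Bool) false (eqF a b) (Nat.beq x y) = true := h
    cases h2 : Nat.beq x y
    · rw [h2] at h1
      cases h1
    · rw [h2] at h1
      exact congrArg₂ List.cons (Nat.eq_of_beq_eq_true h2) (eqF_spec a b h1)

private noncomputable def memF (p : List ℕ) (c : ℕ) (L : List (List ℕ)) : Bool :=
  @List.rec (List ℕ) (fun _ => Bool) false (fun m _ ih => @Bool.rec (fun _ => Bool) ih (eqF p m) (Nat.beq (cdF m) c)) L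

private theorem memF_spec (p : List ℕ) (c : ℕ) : ∀ L, memF p c L = true → p ∈ L
  | [], h => nomatch h
  | m :: L, h => by
    have h1 : @Bool.rec (fun _ => Bool) (memF p c L) (eqF p m) (Nat.beq (cdF m) c) = true := h
    revert h1
    cases Nat.beq (cdF m) c
    · exact fun h1 => List.mem_cons_of_mem _ (memF_spec p c L h1)
    · exact fun h1 => eqF_spec p m h1 ▸ List.mem_cons_self

theorem SL_closed_gen : ∀ a ∈ SL, ∀ g ∈ gs, mulM a g ∈ SL := by
  have h : (SL.all fun a => gs.all fun g =>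
      @Nat.rec (fun _ => Bool) false (fun c _ => memF (mulF a g) c SL) (Nat.succ (cdF (mulF a g)))) = true := by decide +kernel
  intro a ha g hg
  rw [mulF_eq]
  exact memF_spec _ (cdF (mulF a g)) SL (List.all_eq_true.1 (List.all_eq_true.1 h a ha) g hg)

private noncomputable def _root_.Cfsg.Agent.KOdcecf9e.k7.{ku0, ku1} : ((x0 : Sort (ku0+1)) → ((x1 : Sort (ku1+1)) → ((x0 → x1) → ((@List.{ku0} @x0) → @List.{ku1} @x1)))) := @(fun (x0 : Sort (ku0+1)) (x1 : Sort (ku1+1)) (x2 : (x0 → x1)) (x3 : @List.{ku0} @x0) => @List.rec.{(ku1+1), ku0} @x0 @(fun (x4 : @List.{ku0} @x0) => @List.{ku1} @x1) (@List.nil.{ku1} @x1) @(fun (x4 : x0) (x5 : @List.{ku0} @x0) (x6 : @List.{ku1} @x1) => @List.cons.{ku1} @x1 (@x2 @x4) @x6) @x3)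
private theorem _root_.Cfsg.Agent.KOdcecf9e.e7.{ku0, ku1} : @List.map.{ku0, ku1} = @_root_.Cfsg.Agent.KOdcecf9e.k7.{ku0, ku1} := by delta _root_.Cfsg.Agent.KOdcecf9e.k7; funext a0 a1 a2 a3; refine (_root_.Cfsg.Agent.KOdcecf9e.e2 (fun a3 => @List.map.{ku0, ku1} a0 a1 a2 a3) ?_ (fun c0 c1 => ?_) a3 :) <;> (rfl')
private noncomputable def _root_.Cfsg.Agent.KOdcecf9e.k8 : (by first | exact type_of% @Cfsg.Agent.StdO8.Shadow.mulM | exact Unit : Sort _) := by first | (refine @Subtype.val _ (fun g => @Cfsg.Agent.StdO8.Shadow.mulM = @g) (@Subtype.mk _ _ (@(fun (x0 : @List.{0} @Nat) (x1 : @List.{0} @Nat) => @Cfsg.Agent.KOdcecf9e.k7.{0, 0} @Nat @Nat (@Cfsg.Agent.KOdcecf9e.k3 @x1) @x0)) ?_); rewrite [← Cfsg.Agent.KOdcecf9e.e7.{0, 0}, ← Cfsg.Agent.KOdcecf9e.e3]; (try delta Cfsg.Agent.StdO8.Shadow.mulM); (try generalize @Cfsg.Agent.StdO8.Shadow.ap = g0); rfl') | exact @Cfsg.Agent.StdO8.Shadow.mulM | exact ()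
private theorem _root_.Cfsg.Agent.KOdcecf9e.e8 : (by first | exact @Cfsg.Agent.StdO8.Shadow.mulM = @_root_.Cfsg.Agent.KOdcecf9e.k8 | exact True : Prop) := by first | (delta _root_.Cfsg.Agent.KOdcecf9e.k8; exact @Subtype.property _ (fun g => @Cfsg.Agent.StdO8.Shadow.mulM = @g) _) | rfl | trivial
private noncomputable def _root_.Cfsg.Agent.KOdcecf9e.k11.{ku0} : ((x0 : Sort ku0) → ((x1 : @Bool) → ((x2 : @Bool) → ((@Eq.{1} @Bool @x1 @x2) → @Bool.noConfusionType.{ku0} @x0 @x1 @x2)))) := @(fun (x0 : Sort ku0) (x1 : @Bool) (x2 : @Bool) (x3 : @Eq.{1} @Bool @x1 @x2) => @Eq.rec.{ku0, 1} @Bool @x1 @(fun (x4 : @Bool) (x5 : @Eq.{1} @Bool @x1 @x4) => @Bool.noConfusionType.{ku0} @x0 @x1 @x4) (@Bool.rec.{ku0} @(fun (x4 : @Bool) => @Bool.noConfusionType.{ku0} @x0 @x4 @x4) @(fun (x4 : x0) => x4) @(fun (x4 : x0) => x4) @x1) @x2 @x3)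
private theorem _root_.Cfsg.Agent.KOdcecf9e.e11.{ku0} : @Bool.noConfusion.{ku0} = @_root_.Cfsg.Agent.KOdcecf9e.k11.{ku0} := by delta _root_.Cfsg.Agent.KOdcecf9e.k11; rfl'
private noncomputable def _root_.Cfsg.Agent.KOdcecf9e.k12 : ((x0 : @Bool) → ((x1 : @Bool) → @Decidable (@Eq.{1} @Bool @x0 @x1))) := @(fun (x0 : @Bool) (x1 : @Bool) => @Bool.rec.{1} @(fun (x2 : @Bool) => @Decidable (@Eq.{1} @Bool @x2 @x1)) (@Bool.rec.{1} @(fun (x2 : @Bool) => @Decidable (@Eq.{1} @Bool @Bool.false @x2)) (@Decidable.isTrue (@Eq.{1} @Bool @Bool.false @Bool.false) (@rfl.{1} @Bool @Bool.false)) (@Decidable.isFalse (@Eq.{1} @Bool @Bool.false @Bool.true) @(fun (x2 : @Eq.{1} @Bool @Bool.false @Bool.true) => @Cfsg.Agent.KOdcecf9e.k11.{0} @False @Bool.false @Bool.true @x2)) @x1) (@Bool.rec.{1} @(fun (x2 : @Bool) => @Decidable (@Eq.{1} @Bool @Bool.true @x2)) (@Decidable.isFalse (@Eq.{1} @Bool @Bool.true @Bool.false) @(fun (x2 : @Eq.{1} @Bool @Bool.true @Bool.false) => @Cfsg.Agent.KOdcecf9e.k11.{0}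 @False @Bool.true @Bool.false @x2)) (@Decidable.isTrue (@Eq.{1} @Bool @Bool.true @Bool.true) (@rfl.{1} @Bool @Bool.true)) @x1) @x0)
private theorem _root_.Cfsg.Agent.KOdcecf9e.e12 : @Bool.decEq = @_root_.Cfsg.Agent.KOdcecf9e.k12 := by delta _root_.Cfsg.Agent.KOdcecf9e.k12; rewrite [← Cfsg.Agent.KOdcecf9e.e11.{0}]; rfl'
private noncomputable def _root_.Cfsg.Agent.KOdcecf9e.k15.{ku0} : ((x0 : Sort (ku0+1)) → ((@List.{ku0} @x0) → (@Nat → @Option.{ku0} @x0))) := @(fun (x0 : Sort (ku0+1)) (x1 : @List.{ku0} @x0) (x2 : @Nat) => @List.rec.{(ku0+1), ku0} @x0 @(fun (x3 : @List.{ku0} @x0) => (@Nat → @Option.{ku0} @x0)) @(fun (x3 : @Nat) => @Option.none.{ku0} @x0) @(fun (x3 : x0) (x4 : @List.{ku0} @x0) (x5 : (@Nat → @Option.{ku0} @x0)) (x6 : @Nat) => @Nat.rec.{(ku0+1)} @(fun (x7 : @Nat) => @Option.{ku0} @x0) (@Option.some.{ku0} @x0 @x3) @(fun (x7 : @Nat) (x8 : @Option.{ku0} @x0) => @x5 @x7) @x6) @x1 @x2)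
private theorem _root_.Cfsg.Agent.KOdcecf9e.e15.{ku0} : @List.get?Internal.{ku0} = @_root_.Cfsg.Agent.KOdcecf9e.k15.{ku0} := by delta _root_.Cfsg.Agent.KOdcecf9e.k15; funext a0 a1 a2; refine (congrFun (_root_.Cfsg.Agent.KOdcecf9e.e2 (fun a1 a2 => @List.get?Internal.{ku0} a0 a1 a2) ?_ (fun c0 c1 => ?_) a1) a2 :) <;> [(funext b0; (rfl')); (funext b0; (cases b0 with | @zero  => (rfl') | @succ b0_0 => (rfl')))]
private noncomputable def _root_.Cfsg.Agent.KOdcecf9e.k16.{ku0} : ((x0 : Sort (ku0+1)) → ((@List.{ku0} @x0) → (@Nat → (x0 → x0)))) := @(fun (x0 : Sort (ku0+1)) (x1 : @List.{ku0} @x0) (x2 : @Nat) (x3 : x0) => @Option.rec.{(ku0+1), ku0} @x0 @(fun (x4 : @Option.{ku0} @x0) => x0) @x3 @(fun (x4 : x0) => x4) (@Cfsg.Agent.KOdcecf9e.k15.{ku0} @x0 @x1 @x2))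
private theorem _root_.Cfsg.Agent.KOdcecf9e.e16.{ku0} : @List.getD.{ku0} = @_root_.Cfsg.Agent.KOdcecf9e.k16.{ku0} := by delta _root_.Cfsg.Agent.KOdcecf9e.k16; rewrite [← Cfsg.Agent.KOdcecf9e.e15.{ku0}]; rfl'
private noncomputable def _root_.Cfsg.Agent.KOdcecf9e.k17 : ((x0 : Prop) → ((x1 : Prop) → ((@Decidable @x0) → ((@Decidable @x1) → @Decidable (@And @x0 @x1))))) := @(fun (x0 : Prop) (x1 : Prop) (x2 : @Decidable @x0) (x3 : @Decidable @x1) => @Decidable.rec.{1} @x0 @(fun (x4 : @Decidable @x0) => @Decidable (@And @x0 @x1)) @(fun (x4 : @Not @x0) => @Decidable.isFalse (@And @x0 @x1) (@instDecidableAnd._proof_2 @x0 @x1 @x4)) @(fun (x4 : x0) => @Decidable.rec.{1} @x1 @(fun (x5 : @Decidable @x1) => @Decidable (@And @x0 @x1)) @(fun (x5 : @Not @x1) => @Decidable.isFalse (@And @x0 @x1) (@instDecidableAnd._proof_1 @x0 @x1 @x5)) @(fun (x5 : x1) => @Decidable.isTrue (@And @x0 @x1) (@And.intro @x0 @x1 @x4 @x5)) @x3) @x2)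
private theorem _root_.Cfsg.Agent.KOdcecf9e.e17 : @instDecidableAnd = @_root_.Cfsg.Agent.KOdcecf9e.k17 := by delta _root_.Cfsg.Agent.KOdcecf9e.k17; rfl'
private noncomputable def _root_.Cfsg.Agent.KOdcecf9e.k18 : ((x0 : @Nat) → ((x1 : @Nat) → @Decidable (@LE.le.{0} @Nat @instLENat @x0 @x1))) := @(fun (x0 : @Nat) (x1 : @Nat) => @Decidable.rec.{1} (@Eq.{1} @Bool (@Nat.ble @x0 @x1) @Bool.true) @(fun (x2 : @Decidable (@Eq.{1} @Bool (@Nat.ble @x0 @x1) @Bool.true)) => @Decidable (@LE.le.{0} @Nat @instLENat @x0 @x1)) @(fun (x2 : @Not (@Eq.{1} @Bool (@Nat.ble @x0 @x1) @Bool.true)) => @Decidable.isFalse (@LE.le.{0} @Nat @instLENat @x0 @x1) (@Nat.not_le_of_not_ble_eq_true @x0 @x1 @x2)) @(fun (x2 : @Eq.{1} @Bool (@Nat.ble @x0 @x1) @Bool.true) => @Decidable.isTrue (@LE.le.{0} @Nat @instLENat @x0 @x1) (@Nat.le_of_ble_eq_true @x0 @x1 @x2)) (@Cfsg.Agent.KOdcecf9e.k12 (@Nat.ble @x0 @x1) @Bool.true))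
private theorem _root_.Cfsg.Agent.KOdcecf9e.e18 : @Nat.decLe = @_root_.Cfsg.Agent.KOdcecf9e.k18 := by delta _root_.Cfsg.Agent.KOdcecf9e.k18; rewrite [← Cfsg.Agent.KOdcecf9e.e12]; rfl'
private noncomputable def _root_.Cfsg.Agent.KOdcecf9e.k19 : ((x0 : @Nat) → ((x1 : @Nat) → @Decidable (@LT.lt.{0} @Nat @instLTNat @x0 @x1))) := @(fun (x0 : @Nat) (x1 : @Nat) => @Cfsg.Agent.KOdcecf9e.k18 (@Nat.succ @x0) @x1)
private theorem _root_.Cfsg.Agent.KOdcecf9e.e19 : @Nat.decLt = @_root_.Cfsg.Agent.KOdcecf9e.k19 := by delta _root_.Cfsg.Agent.KOdcecf9e.k19; rewrite [← Cfsg.Agent.KOdcecf9e.e18]; rfl'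
private noncomputable def _root_.Cfsg.Agent.KOdcecf9e.k21.{ku0} : ((x0 : Sort (ku0+1)) → ((@DecidableEq.{(ku0+1)} @x0) → ((x2 : @List.{ku0} @x0) → ((x3 : @List.{ku0} @x0) → @Decidable (@Eq.{(ku0+1)} (@List.{ku0} @x0) @x2 @x3))))) := @(fun (x0 : Sort (ku0+1)) (x1 : @DecidableEq.{(ku0+1)} @x0) (x2 : @List.{ku0} @x0) (x3 : @List.{ku0} @x0) => @List.rec.{(ku0+1), ku0} @x0 @(fun (x4 : @List.{ku0} @x0) => ((x5 : @List.{ku0} @x0) → @Decidable (@Eq.{(ku0+1)} (@List.{ku0} @x0) @x4 @x5))) @(fun (x4 : @List.{ku0} @x0) => @List.rec.{1, ku0} @x0 @(fun (x5 : @List.{ku0} @x0) => @Decidable (@Eq.{(ku0+1)} (@List.{ku0} @x0) (@List.nil.{ku0} @x0) @x5)) (@Decidable.isTrue (@Eq.{(ku0+1)} (@List.{ku0} @x0) (@List.nil.{ku0} @x0) (@List.nil.{ku0} @x0)) (@List.hasDecEq._proof_1.{ku0} @x0)) @(fun (x5 : x0) (x6 : @List.{ku0} @x0) (x7 : @Decidable (@Eq.{(ku0+1)} (@List.{ku0} @x0) (@List.nil.{ku0} @x0) @x6)) => @Decidable.isFalse (@Eq.{(ku0+1)} (@List.{ku0} @x0) (@List.nil.{ku0} @x0)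 (@List.cons.{ku0} @x0 @x5 @x6)) (@List.hasDecEq._proof_3.{ku0} @x0 @x5 @x6)) @x4) @(fun (x4 : x0) (x5 : @List.{ku0} @x0) (x6 : ((x6 : @List.{ku0} @x0) → @Decidable (@Eq.{(ku0+1)} (@List.{ku0} @x0) @x5 @x6))) (x7 : @List.{ku0} @x0) => @List.rec.{1, ku0} @x0 @(fun (x8 : @List.{ku0} @x0) => @Decidable (@Eq.{(ku0+1)} (@List.{ku0} @x0) (@List.cons.{ku0} @x0 @x4 @x5) @x8)) (@Decidable.isFalse (@Eq.{(ku0+1)} (@List.{ku0} @x0) (@List.cons.{ku0} @x0 @x4 @x5) (@List.nil.{ku0} @x0)) (@List.hasDecEq._proof_2.{ku0} @x0 @x4 @x5)) @(fun (x8 : x0) (x9 : @List.{ku0} @x0) (x10 : @Decidable (@Eq.{(ku0+1)} (@List.{ku0} @x0) (@List.cons.{ku0} @x0 @x4 @x5) @x9)) => @Decidable.rec.{1} (@Eq.{(ku0+1)} @x0 @x4 @x8) @(fun (x11 : @Decidable (@Eq.{(ku0+1)} @x0 @x4 @x8)) => @Decidable (@Eq.{(ku0+1)} (@List.{ku0} @x0) (@List.cons.{ku0} @x0 @x4 @x5) (@List.cons.{ku0} @x0 @x8 @x9))) @(fun (x11 : @Not (@Eq.{(ku0+1)} @x0 @x4 @x8)) => @Decidable.isFalse (@Eq.{(ku0+1)} (@List.{ku0} @x0) (@List.cons.{ku0}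 @x0 @x4 @x5) (@List.cons.{ku0} @x0 @x8 @x9)) (@List.hasDecEq._proof_6.{ku0} @x0 @x4 @x5 @x8 @x9 @x11)) @(fun (x11 : @Eq.{(ku0+1)} @x0 @x4 @x8) => @Decidable.rec.{1} (@Eq.{(ku0+1)} (@List.{ku0} @x0) @x5 @x9) @(fun (x12 : @Decidable (@Eq.{(ku0+1)} (@List.{ku0} @x0) @x5 @x9)) => @Decidable (@Eq.{(ku0+1)} (@List.{ku0} @x0) (@List.cons.{ku0} @x0 @x4 @x5) (@List.cons.{ku0} @x0 @x8 @x9))) @(fun (x12 : @Not (@Eq.{(ku0+1)} (@List.{ku0} @x0) @x5 @x9)) => @Decidable.isFalse (@Eq.{(ku0+1)} (@List.{ku0} @x0) (@List.cons.{ku0} @x0 @x4 @x5) (@List.cons.{ku0} @x0 @x8 @x9)) (@List.hasDecEq._proof_5.{ku0} @x0 @x4 @x5 @x8 @x9 @x12)) @(fun (x12 : @Eq.{(ku0+1)} (@List.{ku0} @x0) @x5 @x9) => @Decidable.isTrue (@Eq.{(ku0+1)} (@List.{ku0} @x0) (@List.cons.{ku0} @x0 @x4 @x5) (@List.cons.{ku0} @x0 @x8 @x9)) (@List.hasDecEq._proof_4.{ku0} @x0 @x4 @x5 @x8 @x9 @x11 @x12)) (@x6 @x9)) (@x1 @x4 @x8)) @x7) @x2 @x3)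
private theorem _root_.Cfsg.Agent.KOdcecf9e.e21.{ku0} : @List.hasDecEq.{ku0} = @_root_.Cfsg.Agent.KOdcecf9e.k21.{ku0} := by delta _root_.Cfsg.Agent.KOdcecf9e.k21; funext a0 a1 a2 a3; refine (congrFun (_root_.Cfsg.Agent.KOdcecf9e.e2 (fun a2 a3 => @List.hasDecEq.{ku0} a0 a1 a2 a3) ?_ (fun c0 c1 => ?_) a2) a3 :) <;> [(funext b0; (cases b0 with | @nil  => (rfl') | @cons b0_0 b0_1 => (rfl'))); (funext b0; (cases b0 with | @nil  => (rfl') | @cons b0_0 b0_1 => (rfl')))]
private noncomputable def _root_.Cfsg.Agent.KOdcecf9e.k22.{ku0} : ((x0 : Sort (ku0+1)) → ((@DecidableEq.{(ku0+1)} @x0) → @DecidableEq.{(ku0+1)} (@List.{ku0} @x0))) := @(fun (x0 : Sort (ku0+1)) (x1 : @DecidableEq.{(ku0+1)} @x0) (x2 : @List.{ku0} @x0) (x3 : @List.{ku0} @x0) => @List.rec.{1, ku0} @x0 @(fun (x4 : @List.{ku0} @x0) => @Decidable (@Eq.{(ku0+1)} (@List.{ku0} @x0) @x4 @x3)) (@List.rec.{1, ku0} @x0 @(fun (x4 : @List.{ku0} @x0) => @Decidable (@Eq.{(ku0+1)} (@List.{ku0} @x0) (@List.nil.{ku0}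 @x0) @x4)) (@Decidable.isTrue (@Eq.{(ku0+1)} (@List.{ku0} @x0) (@List.nil.{ku0} @x0) (@List.nil.{ku0} @x0)) (@List.hasDecEq._proof_1.{ku0} @x0)) @(fun (x4 : x0) (x5 : @List.{ku0} @x0) (x6 : @Decidable (@Eq.{(ku0+1)} (@List.{ku0} @x0) (@List.nil.{ku0} @x0) @x5)) => @Decidable.isFalse (@Eq.{(ku0+1)} (@List.{ku0} @x0) (@List.nil.{ku0} @x0) (@List.cons.{ku0} @x0 @x4 @x5)) (@List.hasDecEq._proof_3.{ku0} @x0 @x4 @x5)) @x3) @(fun (x4 : x0) (x5 : @List.{ku0} @x0) (x6 : @Decidable (@Eq.{(ku0+1)} (@List.{ku0} @x0) @x5 @x3)) => @List.rec.{1, ku0} @x0 @(fun (x7 : @List.{ku0} @x0) => @Decidable (@Eq.{(ku0+1)} (@List.{ku0} @x0) (@List.cons.{ku0} @x0 @x4 @x5) @x7)) (@Decidable.isFalse (@Eq.{(ku0+1)} (@List.{ku0} @x0) (@List.cons.{ku0} @x0 @x4 @x5) (@List.nil.{ku0} @x0)) (@List.hasDecEq._proof_2.{ku0} @x0 @x4 @x5)) @(fun (x7 : x0) (x8 : @List.{ku0} @x0) (x9 : @Decidable (@Eq.{(ku0+1)} (@List.{ku0} @x0) (@List.cons.{ku0} @x0 @x4 @x5) @x8)) => @Decidable.rec.{1} (@Eq.{(ku0+1)}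 @x0 @x4 @x7) @(fun (x10 : @Decidable (@Eq.{(ku0+1)} @x0 @x4 @x7)) => @Decidable (@Eq.{(ku0+1)} (@List.{ku0} @x0) (@List.cons.{ku0} @x0 @x4 @x5) (@List.cons.{ku0} @x0 @x7 @x8))) @(fun (x10 : @Not (@Eq.{(ku0+1)} @x0 @x4 @x7)) => @Decidable.isFalse (@Eq.{(ku0+1)} (@List.{ku0} @x0) (@List.cons.{ku0} @x0 @x4 @x5) (@List.cons.{ku0} @x0 @x7 @x8)) (@List.hasDecEq._proof_6.{ku0} @x0 @x4 @x5 @x7 @x8 @x10)) @(fun (x10 : @Eq.{(ku0+1)} @x0 @x4 @x7) => @Decidable.rec.{1} (@Eq.{(ku0+1)} (@List.{ku0} @x0) @x5 @x8) @(fun (x11 : @Decidable (@Eq.{(ku0+1)} (@List.{ku0} @x0) @x5 @x8)) => @Decidable (@Eq.{(ku0+1)} (@List.{ku0} @x0) (@List.cons.{ku0} @x0 @x4 @x5) (@List.cons.{ku0} @x0 @x7 @x8))) @(fun (x11 : @Not (@Eq.{(ku0+1)} (@List.{ku0} @x0) @x5 @x8)) => @Decidable.isFalse (@Eq.{(ku0+1)} (@List.{ku0} @x0) (@List.cons.{ku0} @x0 @x4 @x5) (@List.cons.{ku0} @x0 @x7 @x8)) (@List.hasDecEq._proof_5.{ku0} @x0 @x4 @x5 @x7 @x8 @x11)) @(fun (x11 : @Eq.{(ku0+1)} (@List.{ku0} @x0) @x5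 @x8) => @Decidable.isTrue (@Eq.{(ku0+1)} (@List.{ku0} @x0) (@List.cons.{ku0} @x0 @x4 @x5) (@List.cons.{ku0} @x0 @x7 @x8)) (@List.hasDecEq._proof_4.{ku0} @x0 @x4 @x5 @x7 @x8 @x10 @x11)) (@Cfsg.Agent.KOdcecf9e.k21.{ku0} @x0 @x1 @x5 @x8)) (@x1 @x4 @x7)) @x3) @x2)
private theorem _root_.Cfsg.Agent.KOdcecf9e.e22.{ku0} : @instDecidableEqList.{ku0} = @_root_.Cfsg.Agent.KOdcecf9e.k22.{ku0} := by delta _root_.Cfsg.Agent.KOdcecf9e.k22; rewrite [← Cfsg.Agent.KOdcecf9e.e21.{ku0}]; rfl'

theorem tree_ok : ∀ k < 127, (tree.getD k (0, 0)).1 ≤ k ∧ (tree.getD k (0, 0)).2 < 7 ∧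
    SL.getD (k + 1) [] = mulM (SL.getD (tree.getD k (0, 0)).1 []) (gs.getD (tree.getD k (0, 0)).2 []) := by
  (first | (refine of_decide_eq_true ?_; rewrite [Cfsg.Agent.KOdcecf9e.e0, Cfsg.Agent.KOdcecf9e.e16.{0}, Cfsg.Agent.KOdcecf9e.e8, Cfsg.Agent.KOdcecf9e.e4, Cfsg.Agent.KOdcecf9e.e17, Cfsg.Agent.KOdcecf9e.e18, Cfsg.Agent.KOdcecf9e.e19, Cfsg.Agent.KOdcecf9e.e22.{0}, Cfsg.Agent.KOdcecf9e.e6]; decide +kernel) | decide +kernel)

/-- The five involutions with `|C(a)| = 256`. -/
def i256 : List (List ℕ) := [[1, 2, 4, 8, 64, 128, 16, 32, 256, 512], [513, 2, 422, 520, 528, 32, 576, 128, 256, 512], [769, 2, 502,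
  762, 784, 800, 832, 896, 256, 512], [257, 2, 260, 602, 16, 288, 64, 384, 256, 512], [1, 2, 340, 680, 320,
  640, 272, 544, 256, 512]]

/-- The 38 involutions with `|C(a)| = 64`, with a basis of `C(a)`. -/
def i64 : List (List ℕ × List ℕ) := [([1, 2, 12, 8, 48, 32, 192, 128, 768, 512], [1, 2, 8, 32, 128, 512]), ([1, 2, 20, 40, 16, 32, 320, 640,
  256, 512], [1, 2, 16, 32, 256, 512]), ([1, 2, 68, 136, 272, 544, 64, 128, 256, 512], [1, 2, 64, 128, 256,
  512]), ([545, 2, 446, 560, 552, 32, 986, 800, 672, 512], [2, 24, 32, 69, 384, 512]), ([1, 2, 60, 40, 48, 32,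
  960, 640, 768, 512], [1, 2, 24, 32, 384, 512]), ([1, 2, 204, 136, 816, 544, 192, 128, 768, 512], [1, 2, 72,
  128, 288, 512]), ([1, 2, 12, 8, 192, 128, 48, 32, 768, 512], [1, 2, 8, 112, 160, 512]), ([513, 2, 942, 520,
  560, 32, 704, 128, 768, 512], [2, 9, 32, 128, 257, 512]), ([1, 2, 340, 680, 272, 544, 320, 640, 256, 512],
  [1, 2, 80, 160, 256, 512]), ([513, 2, 950, 552, 528, 32, 832, 640, 256, 512], [2, 17, 32, 129, 256, 512]),
  ([769, 2, 742, 474, 784, 800, 576, 384, 256, 512], [2, 17, 33, 193, 256, 512]), ([513, 2, 998, 648, 784,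
  544, 576, 128, 256, 512], [2, 33, 65, 128, 256, 512]), ([769, 2, 694, 378, 528, 288, 832, 896, 256, 512],
  [2, 49, 65, 129, 256, 512]), ([513, 2, 422, 520, 576, 128, 528, 32, 256, 512], [2, 9, 80, 160, 256, 512]),
  ([769, 2, 502, 762, 832, 896, 784, 800, 256, 512], [2, 13, 80, 160, 256, 512]), ([257, 2, 84, 250, 272, 800,
  320, 896, 256, 512], [2, 17, 65, 160, 256, 512]), ([33, 2, 28, 48, 40, 32, 474, 800, 672, 512], [2, 13, 21,
  32, 384, 512]), ([1, 2, 1020, 680, 816, 544, 960, 640, 768, 512], [1, 2, 120, 160, 288, 512]), ([513, 2,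
  414, 552, 560, 32, 448, 640, 768, 512], [2, 24, 32, 129, 257, 512]), ([545, 2, 390, 528, 520, 32, 90, 288,
  160, 512], [2, 24, 32, 205, 333, 512]), ([513, 2, 366, 648, 304, 544, 704, 128, 768, 512], [2, 33, 72, 128,
  257, 512]), ([513, 2, 942, 520, 704, 128, 560, 32, 768, 512], [2, 9, 112, 160, 257, 512]), ([513, 2, 246,
  168, 784, 544, 832, 640, 256, 512], [2, 33, 80, 129, 256, 512]), ([769, 2, 166, 90, 528, 288, 576, 384, 256,
  512], [2, 49, 80, 145, 256, 512]), ([257, 2, 324, 986, 272, 800, 64, 384, 256, 512], [2, 17, 64, 129, 256,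
  512]), ([257, 2, 276, 890, 16, 288, 320, 896, 256, 512], [2, 16, 33, 65, 256, 512]), ([33, 2, 36, 16, 8, 32,
  602, 288, 160, 512], [2, 5, 24, 32, 384, 512]), ([257, 2, 84, 250, 320, 896, 272, 800, 256, 512], [2, 21,
  69, 160, 256, 512]), ([641, 2, 494, 704, 890, 896, 648, 128, 672, 512], [2, 21, 72, 128, 288, 512]), ([513,
  2, 94, 168, 304, 544, 448, 640, 768, 512], [2, 33, 88, 129, 257, 512]), ([1, 2, 1020, 680, 960, 640, 816,
  544, 768, 512], [1, 2, 40, 136, 344, 512]), ([257, 2, 260, 602, 64, 384, 16, 288, 256, 512], [2, 5, 80, 160,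
  256, 512]), ([513, 2, 246, 168, 832, 640, 784, 544, 256, 512], [2, 41, 80, 137, 256, 512]), ([769, 2, 166,
  90, 576, 384, 528, 288, 256, 512], [2, 61, 80, 157, 256, 512]), ([129, 2, 76, 192, 378, 896, 136, 128, 672,
  512], [2, 13, 69, 128, 288, 512]), ([513, 2, 94, 168, 448, 640, 304, 544, 768, 512], [2, 41, 88, 137, 257,
  512]), ([641, 2, 294, 576, 90, 384, 520, 128, 160, 512], [2, 61, 72, 128, 285, 512]), ([129, 2, 132, 64,
  602, 384, 8, 128, 160, 512], [2, 5, 72, 128, 288, 512])]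

/-- All involutions. -/
def invs : List (List ℕ) := i256 ++ i64.map Prod.fst

theorem SL_lt : ∀ m ∈ SL, m.length = 10 ∧ ∀ a ∈ m, a < 1024 := by decide +kernel

theorem SL_inv : ∀ m ∈ SL, mulM m m = idM → m = idM ∨ m ∈ i256 ∨ m ∈ i64.map Prod.fst := by decide +kernel

private noncomputable def _root_.Cfsg.Agent.KOdcecf9e.k9.{ku0} : ((x0 : Sort (ku0+1)) → ((x1 : (x0 → Prop)) → ((@DecidablePred.{(ku0+1)} @x0 @x1) → ((x3 : @List.{ku0} @x0) → @Decidable ((x4 : x0) → ((@Membership.mem.{ku0, ku0} @x0 (@List.{ku0} @x0) (@List.instMembership.{ku0} @x0) @x3 @x4) → @x1 @x4)))))) := @(fun (x0 : Sort (ku0+1)) (x1 : (x0 → Prop)) (x2 : @DecidablePred.{(ku0+1)} @x0 @x1) (x3 : @List.{ku0} @x0) => @List.rec.{1, ku0} @x0 @(fun (x4 : @List.{ku0} @x0) => @Decidable ((x5 : x0) → ((@Membership.mem.{ku0, ku0} @x0 (@List.{ku0} @x0) (@List.instMembership.{ku0} @x0) @x4 @x5) → @x1 @x5))) (@Decidable.isTrue ((x4 : x0) → ((@Membership.mem.{ku0, ku0} @x0 (@List.{ku0} @x0) (@List.instMembership.{ku0}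 @x0) (@List.nil.{ku0} @x0) @x4) → @x1 @x4)) (@List.decidableBAll._proof_1.{ku0} @x0 @x1)) @(fun (x4 : x0) (x5 : @List.{ku0} @x0) (x6 : @Decidable ((x6 : x0) → ((@Membership.mem.{ku0, ku0} @x0 (@List.{ku0} @x0) (@List.instMembership.{ku0} @x0) @x5 @x6) → @x1 @x6))) => @Decidable.rec.{1} (@x1 @x4) @(fun (x7 : @Decidable (@x1 @x4)) => @Decidable ((x8 : x0) → ((@Membership.mem.{ku0, ku0} @x0 (@List.{ku0} @x0) (@List.instMembership.{ku0} @x0) (@List.cons.{ku0} @x0 @x4 @x5) @x8) → @x1 @x8))) @(fun (x7 : @Not (@x1 @x4)) => @Decidable.isFalse ((x8 : x0) → ((@Membership.mem.{ku0, ku0} @x0 (@List.{ku0} @x0) (@List.instMembership.{ku0} @x0) (@List.cons.{ku0} @x0 @x4 @x5) @x8) → @x1 @x8)) (@List.decidableBAll._proof_4.{ku0} @x0 @x1 @x4 @x5 @x7)) @(fun (x7 : @x1 @x4) => @Decidable.rec.{1} ((x8 : x0) → ((@Membership.mem.{ku0, ku0} @x0 (@List.{ku0} @x0) (@List.instMembership.{ku0} @x0) @x5 @x8) → @x1 @x8)) @(fun (x8 : @Decidable ((x8 : x0) → ((@Membership.mem.{ku0, ku0}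 @x0 (@List.{ku0} @x0) (@List.instMembership.{ku0} @x0) @x5 @x8) → @x1 @x8))) => @Decidable ((x9 : x0) → ((@Membership.mem.{ku0, ku0} @x0 (@List.{ku0} @x0) (@List.instMembership.{ku0} @x0) (@List.cons.{ku0} @x0 @x4 @x5) @x9) → @x1 @x9))) @(fun (x8 : @Not ((x8 : x0) → ((@Membership.mem.{ku0, ku0} @x0 (@List.{ku0} @x0) (@List.instMembership.{ku0} @x0) @x5 @x8) → @x1 @x8))) => @Decidable.isFalse ((x9 : x0) → ((@Membership.mem.{ku0, ku0} @x0 (@List.{ku0} @x0) (@List.instMembership.{ku0} @x0) (@List.cons.{ku0} @x0 @x4 @x5) @x9) → @x1 @x9)) (@List.decidableBAll._proof_3.{ku0} @x0 @x1 @x4 @x5 @x8)) @(fun (x8 : ((x8 : x0) → ((@Membership.mem.{ku0, ku0} @x0 (@List.{ku0} @x0) (@List.instMembership.{ku0} @x0) @x5 @x8) → @x1 @x8))) => @Decidable.isTrue ((x9 : x0) → ((@Membership.mem.{ku0, ku0} @x0 (@List.{ku0} @x0) (@List.instMembership.{ku0} @x0) (@List.cons.{ku0} @x0 @x4 @x5) @x9) → @x1 @x9)) (@List.decidableBAll._proof_2.{ku0} @x0 @x1 @x4 @x5 @x7 @x8)) @x6) (@x2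 @x4)) @x3)
private theorem _root_.Cfsg.Agent.KOdcecf9e.e9.{ku0} : @List.decidableBAll.{ku0} = @_root_.Cfsg.Agent.KOdcecf9e.k9.{ku0} := by delta _root_.Cfsg.Agent.KOdcecf9e.k9; funext a0 a1 a2 a3; refine (_root_.Cfsg.Agent.KOdcecf9e.e2 (fun a3 => @List.decidableBAll.{ku0} a0 a1 a2 a3) ?_ (fun c0 c1 => ?_) a3 :) <;> (rfl')

theorem SL_exp : ∀ m ∈ SL, mulM (mulM (mulM m m) (mulM m m)) (mulM (mulM m m) (mulM m m)) = idM := by (first | (refine of_decide_eq_true ?_; rewrite [Cfsg.Agent.KOdcecf9e.e0, Cfsg.Agent.KOdcecf9e.e8, Cfsg.Agent.KOdcecf9e.e9.{0}, Cfsg.Agent.KOdcecf9e.e22.{0}, Cfsg.Agent.KOdcecf9e.e6]; decide +kernel) | decide +kernel)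

/-- Number of fixed vectors. -/
def nf (m : List ℕ) : ℕ := (List.range 1024).countP (fun v => ap m v == v)

def nf2 (m m' : List ℕ) : ℕ := (List.range 1024).countP (fun v => ap m v == v && ap m' v == v)

private noncomputable def _root_.Cfsg.Agent.KOdcecf9e.k25.{ku0} : ((x0 : Sort (ku0+1)) → ((x0 → @Bool) → ((@List.{ku0} @x0) → (@Nat → @Nat)))) := @(fun (x0 : Sort (ku0+1)) (x1 : (x0 → @Bool)) (x2 : @List.{ku0} @x0) (x3 : @Nat) => @List.rec.{1, ku0} @x0 @(fun (x4 : @List.{ku0} @x0) => (@Nat → @Nat)) @(fun (x4 : @Nat) => x4) @(fun (x4 : x0) (x5 : @List.{ku0} @x0) (x6 : (@Nat → @Nat)) (x7 : @Nat) => @Bool.rec.{1} @(fun (x8 : @Bool) => @Nat) (@x6 @x7) (@x6 (@Nat.add @x7 (nat_lit 1))) (@x1 @x4)) @x2 @x3)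
private theorem _root_.Cfsg.Agent.KOdcecf9e.e25.{ku0} : @List.countP.go.{ku0} = @_root_.Cfsg.Agent.KOdcecf9e.k25.{ku0} := by delta _root_.Cfsg.Agent.KOdcecf9e.k25; funext a0 a1 a2 a3; refine (congrFun (_root_.Cfsg.Agent.KOdcecf9e.e2 (fun a2 a3 => @List.countP.go.{ku0} a0 a1 a2 a3) ?_ (fun c0 c1 => ?_) a2) a3 :) <;> (rfl')
private theorem _root_.Cfsg.Agent.KOdcecf9e.e26.{ku} {M : Nat → Sort ku} (φ : ∀ n, M n) {z : M Nat.zero} {s : ∀ n, M n → M (Nat.succ n)} (h0 : φ Nat.zero = z) (hs : ∀ n, φ (Nat.succ n) = s n (φ n)) (n : Nat) : φ n = @Nat.rec M z s n := Nat.rec h0 (fun n ih => (hs n).trans (congrArg (s n) ih)) n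
private noncomputable def _root_.Cfsg.Agent.KOdcecf9e.k27 : (@Nat → ((@List.{0} @Nat) → @List.{0} @Nat)) := @(fun (x0 : @Nat) (x1 : @List.{0} @Nat) => @Nat.rec.{1} @(fun (x2 : @Nat) => ((@List.{0} @Nat) → @List.{0} @Nat)) @(fun (x2 : @List.{0} @Nat) => x2) @(fun (x2 : @Nat) (x3 : ((@List.{0} @Nat) → @List.{0} @Nat)) (x4 : @List.{0} @Nat) => @x3 (@List.cons.{0} @Nat @x2 @x4)) @x0 @x1)
private theorem _root_.Cfsg.Agent.KOdcecf9e.e27 : @List.range.loop = @_root_.Cfsg.Agent.KOdcecf9e.k27 := by delta _root_.Cfsg.Agent.KOdcecf9e.k27; funext a0 a1; refine (congrFun (_root_.Cfsg.Agent.KOdcecf9e.e26 (fun a0 a1 => @List.range.loop a0 a1) ?_ (fun c0 => ?_) a0) a1 :) <;> (rfl')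

private noncomputable def czF (l : List ℕ) : ℕ → ℕ :=
  @List.rec ℕ (fun _ => ℕ → ℕ) (fun d => @Bool.rec (fun _ => ℕ) 0 1 (Nat.beq 0 d))
    (fun a _ ih d => Nat.add (ih d) (@Nat.rec (fun _ => ℕ) 0 (fun e _ => ih e) (Nat.succ (Nat.xor d a)))) l

private theorem cnt_two (p : ℕ → Bool) (k : ℕ) : (List.range (k * 2)).countP p =
    (List.range k).countP (fun u => p (2 * u)) + (List.range k).countP (fun u => p (2 * u + 1)) := by
  induction k with
  | zero => rfl
  | succ k ih =>
    rw [show (k + 1) * 2 = k * 2 + 1 + 1 by omega]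
    simp only [List.range_succ, List.countP_append, ih, List.countP_singleton]
    rw [Nat.mul_comm k 2]
    omega

private theorem czF_eq (l : List ℕ) : ∀ d, (List.range (2 ^ l.length)).countP (fun v => ap l v == d) = czF l d := by
  induction l with
  | nil =>
    intro d
    cases d <;> rfl
  | cons a l ih =>
    intro d
    rw [List.length_cons, Nat.pow_succ, cnt_two]
    show _ = czF l d + czF l (d ^^^ a)
    rw [← ih, ← ih]
    refine congrArg₂ (· + ·) (List.countP_congr fun u _ => ?_) (List.countP_congr fun u _ => ?_)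
    · show ((if 2 * u % 2 = 1 then a else 0) ^^^ ap l (2 * u / 2) == d) = true ↔ _
      rw [if_neg (by omega), Nat.zero_xor, show 2 * u / 2 = u by omega]
    · show ((if (2 * u + 1) % 2 = 1 then a else 0) ^^^ ap l ((2 * u + 1) / 2) == d) = true ↔ _
      rw [if_pos (by omega), show (2 * u + 1) / 2 = u by omega, beq_iff_eq, beq_iff_eq]
      constructor
      · rintro rfl
        rw [Nat.xor_comm a, Nat.xor_assoc, Nat.xor_self, Nat.xor_zero]
      · intro h
        rw [h, Nat.xor_comm d, ← Nat.xor_assoc, Nat.xor_self, Nat.zero_xor]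

private theorem ap_zip : ∀ (m n : List ℕ) (v : ℕ), m.length = n.length →
    ap (List.zipWith Nat.xor m n) v = ap m v ^^^ ap n v
  | [], [], _, _ => (Nat.xor_self 0).symm
  | [], _ :: _, _, h => nomatch h
  | _ :: _, [], _, h => nomatch h
  | a :: m, b :: n, v, h => by
    show (if v % 2 = 1 then a ^^^ b else 0) ^^^ ap (List.zipWith Nat.xor m n) (v / 2) =
      ((if v % 2 = 1 then a else 0) ^^^ ap m (v / 2)) ^^^ ((if v % 2 = 1 then b else 0) ^^^ ap n (v / 2))
    rw [ap_zip m n _ (Nat.succ.inj h)]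
    by_cases h1 : v % 2 = 1
    · rw [if_pos h1, if_pos h1, if_pos h1, Nat.xor_assoc, Nat.xor_assoc, Nat.xor_left_comm b]
    · rw [if_neg h1, if_neg h1, if_neg h1, Nat.zero_xor, Nat.zero_xor, Nat.zero_xor]

private theorem nf_fast {m : List ℕ} (h : m.length = 10) : nf m = czF (List.zipWith Nat.xor m idM) 0 := by
  rw [← czF_eq, List.length_zipWith, h]
  refine List.countP_congr fun v hv => ?_
  rw [ap_zip m idM v h, ap_idM v (List.mem_range.1 hv), beq_iff_eq, beq_iff_eq, Nat.xor_eq_zero_iff]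

theorem nf_256 : ∀ m ∈ i256, nf m = 256 := by
  have h : ∀ m ∈ i256, m.length = 10 ∧ czF (List.zipWith Nat.xor m idM) 0 = 256 := by decide +kernel
  exact fun m hm => (nf_fast (h m hm).1).trans (h m hm).2

theorem nf_64 : ∀ p ∈ i64, nf p.1 = 64 := by
  have h : ∀ p ∈ i64, p.1.length = 10 ∧ czF (List.zipWith Nat.xor p.1 idM) 0 = 64 := by decide +kernel
  exact fun p hp => (nf_fast (h p hp).1).trans (h p hp).2

private noncomputable def _root_.Cfsg.Agent.KOdcecf9e.k24 : ((x0 : Prop) → ((x1 : Prop) → ((@Decidable @x0) → ((@Decidable @x1) → @Decidable (@Or @x0 @x1))))) := @(fun (x0 : Prop) (x1 : Prop) (x2 : @Decidable @x0) (x3 : @Decidable @x1) => @Decidable.rec.{1} @x0 @(fun (x4 : @Decidable @x0) => @Decidable (@Or @x0 @x1)) @(fun (x4 : @Not @x0) => @Decidable.rec.{1} @x1 @(fun (x5 : @Decidable @x1) => @Decidable (@Or @x0 @x1)) @(fun (x5 : @Not @x1) => @Decidable.isFalse (@Or @x0 @x1) (@instDecidableOr._proof_1 @x0 @x1 @x4 @x5)) @(fun (x5 : x1) => @Decidable.isTrue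 (@Or @x0 @x1) (@Or.inr @x0 @x1 @x5)) @x3) @(fun (x4 : x0) => @Decidable.isTrue (@Or @x0 @x1) (@Or.inl @x0 @x1 @x4)) @x2)
private theorem _root_.Cfsg.Agent.KOdcecf9e.e24 : @instDecidableOr = @_root_.Cfsg.Agent.KOdcecf9e.k24 := by delta _root_.Cfsg.Agent.KOdcecf9e.k24; rfl'
private noncomputable def _root_.Cfsg.Agent.KOdcecf9e.k29 : (by first | exact type_of% @Cfsg.Agent.StdO8.Shadow.nf2 | exact Unit : Sort _) := by first | (refine @Subtype.val _ (fun g => @Cfsg.Agent.StdO8.Shadow.nf2 = @g) (@Subtype.mk _ _ (@(fun (x0 : @List.{0} @Nat) (x1 : @List.{0} @Nat) => @Cfsg.Agent.KOdcecf9e.k25.{0} @Nat @(fun (x2 : @Nat) => @Bool.rec.{1} @(fun (x3 : @Bool) => @Bool) @Bool.false (@Cfsg.Agent.KOdcecf9e.k1.{1} @Bool (@Cfsg.Agent.KOdcecf9e.k3 @x1 @x2) @x2 @Bool.false @Bool.true) (@Cfsg.Agent.KOdcecf9e.k1.{1} @Bool (@Cfsg.Agent.KOdcecf9e.k3 @x0 @x2) @x2 @Bool.false @Bool.true)) (@Cfsg.Agent.KOdcecf9e.k27 (nat_lit 1024) (@List.nil.{0} @Nat)) (nat_lit 0))) ?_); rewrite [←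 Cfsg.Agent.KOdcecf9e.e25.{0}, ← Cfsg.Agent.KOdcecf9e.e1.{1}, ← Cfsg.Agent.KOdcecf9e.e3, ← Cfsg.Agent.KOdcecf9e.e27]; (try delta Cfsg.Agent.StdO8.Shadow.nf2); (try generalize @Cfsg.Agent.StdO8.Shadow.ap = g0); rfl') | exact @Cfsg.Agent.StdO8.Shadow.nf2 | exact ()
private theorem _root_.Cfsg.Agent.KOdcecf9e.e29 : (by first | exact @Cfsg.Agent.StdO8.Shadow.nf2 = @_root_.Cfsg.Agent.KOdcecf9e.k29 | exact True : Prop) := by first | (delta _root_.Cfsg.Agent.KOdcecf9e.k29; exact @Subtype.property _ (fun g => @Cfsg.Agent.StdO8.Shadow.nf2 = @g) _) | rfl | trivial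

theorem nf2_256 : ∀ m ∈ i256, ∀ m' ∈ i256, m = m' ∨ nf2 m m' ≤ 64 := by (first | (refine of_decide_eq_true ?_; rewrite [Cfsg.Agent.KOdcecf9e.e0, Cfsg.Agent.KOdcecf9e.e29, Cfsg.Agent.KOdcecf9e.e9.{0}, Cfsg.Agent.KOdcecf9e.e24, Cfsg.Agent.KOdcecf9e.e22.{0}, Cfsg.Agent.KOdcecf9e.e6, Cfsg.Agent.KOdcecf9e.e18]; decide +kernel) | decide +kernel)

private noncomputable def _root_.Cfsg.Agent.KOdcecf9e.k30.{ku0} : ((x0 : Sort (ku0+1)) → ((@List.{ku0} @x0) → @Nat)) := @(fun (x0 : Sort (ku0+1)) (x1 : @List.{ku0} @x0) => @List.rec.{1, ku0} @x0 @(fun (x2 : @List.{ku0} @x0) => @Nat) (nat_lit 0) @(fun (x2 : x0) (x3 : @List.{ku0} @x0) (x4 : @Nat) => @Nat.add @x4 (nat_lit 1)) @x1)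
private theorem _root_.Cfsg.Agent.KOdcecf9e.e30.{ku0} : @List.length.{ku0} = @_root_.Cfsg.Agent.KOdcecf9e.k30.{ku0} := by delta _root_.Cfsg.Agent.KOdcecf9e.k30; funext a0 a1; refine (_root_.Cfsg.Agent.KOdcecf9e.e2 (fun a1 => @List.length.{ku0} a0 a1) ?_ (fun c0 c1 => ?_) a1 :) <;> (rfl')
private noncomputable def _root_.Cfsg.Agent.KOdcecf9e.k31.{ku0} : ((x0 : Sort (ku0+1)) → ((x0 → @Bool) → ((@List.{ku0} @x0) → @List.{ku0} @x0))) := @(fun (x0 : Sort (ku0+1)) (x1 : (x0 → @Bool)) (x2 : @List.{ku0} @x0) => @List.rec.{(ku0+1), ku0} @x0 @(fun (x3 : @List.{ku0} @x0) => @List.{ku0} @x0) (@List.nil.{ku0} @x0) @(fun (x3 : x0) (x4 : @List.{ku0} @x0) (x5 : @List.{ku0} @x0) => @Bool.rec.{(ku0+1)} @(fun (x6 : @Bool) => @List.{ku0} @x0) @x5 (@List.cons.{ku0} @x0 @x3 @x5) (@x1 @x3)) @x2)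
private theorem _root_.Cfsg.Agent.KOdcecf9e.e31.{ku0} : @List.filter.{ku0} = @_root_.Cfsg.Agent.KOdcecf9e.k31.{ku0} := by delta _root_.Cfsg.Agent.KOdcecf9e.k31; funext a0 a1 a2; refine (_root_.Cfsg.Agent.KOdcecf9e.e2 (fun a2 => @List.filter.{ku0} a0 a1 a2) ?_ (fun c0 c1 => ?_) a2 :) <;> (rfl')
private noncomputable def _root_.Cfsg.Agent.KOdcecf9e.k32.{ku0} : ((x0 : Sort (ku0+1)) → ((@List.{ku0} @x0) → ((x0 → @Bool) → @Bool))) := @(fun (x0 : Sort (ku0+1)) (x1 : @List.{ku0} @x0) (x2 : (x0 → @Bool)) => @List.rec.{(ku0+1), ku0} @x0 @(fun (x3 : @List.{ku0} @x0) => ((x0 → @Bool) → @Bool)) @(fun (x3 : (x0 → @Bool)) => @Bool.true) @(fun (x3 : x0) (x4 : @List.{ku0} @x0) (x5 : ((x0 → @Bool) → @Bool)) (x6 : (x0 → @Bool)) => @Bool.rec.{1} @(fun (x7 : @Bool) => @Bool) @Bool.false (@x5 @x6) (@x6 @x3)) @x1 @x2)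
private theorem _root_.Cfsg.Agent.KOdcecf9e.e32.{ku0} : @List.all.{ku0} = @_root_.Cfsg.Agent.KOdcecf9e.k32.{ku0} := by delta _root_.Cfsg.Agent.KOdcecf9e.k32; funext a0 a1 a2; refine (congrFun (_root_.Cfsg.Agent.KOdcecf9e.e2 (fun a1 a2 => @List.all.{ku0} a0 a1 a2) ?_ (fun c0 c1 => ?_) a1) a2 :) <;> (rfl')

theorem bas_64 : ∀ p ∈ i64, (∀ u ∈ p.2, u < 1024 ∧ ap p.1 u = u) ∧
    (invs.filter (fun b => p.2.all (fun u => ap b u == u))).length ≤ 3 := by (first | (refine of_decide_eq_true ?_; delta Cfsg.Agent.StdO8.Shadow.invs; rewrite [Cfsg.Agent.KOdcecf9e.e0, Cfsg.Agent.KOdcecf9e.e3, Cfsg.Agent.KOdcecf9e.e30.{0}, Cfsg.Agent.KOdcecf9e.e31.{0}, Cfsg.Agent.KOdcecf9e.e32.{0}, Cfsg.Agent.KOdcecf9e.e6, Cfsg.Agent.KOdcecf9e.e7.{0, 0}, Cfsg.Agent.KOdcecf9e.e9.{0}, Cfsg.Agent.KOdcecf9e.e17, Cfsg.Agent.KOdcecf9e.e19, Cfsg.Agent.KOdcecf9e.e18]; decide +kernel) | decide +kernel)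

private noncomputable def _root_.Cfsg.Agent.KOdcecf9e.k33.{ku0} : ((x0 : Sort (ku0+1)) → ((x0 → @Bool) → ((@List.{ku0} @x0) → @Nat))) := @(fun (x0 : Sort (ku0+1)) (x1 : (x0 → @Bool)) (x2 : @List.{ku0} @x0) => @Cfsg.Agent.KOdcecf9e.k25.{ku0} @x0 @x1 @x2 (nat_lit 0))
private theorem _root_.Cfsg.Agent.KOdcecf9e.e33.{ku0} : @List.countP.{ku0} = @_root_.Cfsg.Agent.KOdcecf9e.k33.{ku0} := by delta _root_.Cfsg.Agent.KOdcecf9e.k33; rewrite [← Cfsg.Agent.KOdcecf9e.e25.{ku0}]; rfl'

theorem com_inv : (invs.filter (fun a => Nat.ble 31 (invs.countP (fun b => mulM a b == mulM b a)))).length ≤ 3 := by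
  (first | (refine of_decide_eq_true ?_; delta Cfsg.Agent.StdO8.Shadow.invs; rewrite [Cfsg.Agent.KOdcecf9e.e0, Cfsg.Agent.KOdcecf9e.e30.{0}, Cfsg.Agent.KOdcecf9e.e31.{0}, Cfsg.Agent.KOdcecf9e.e33.{0}, Cfsg.Agent.KOdcecf9e.e6, Cfsg.Agent.KOdcecf9e.e8, Cfsg.Agent.KOdcecf9e.e7.{0, 0}, Cfsg.Agent.KOdcecf9e.e18]; decide +kernel) | decide +kernel)

end Cfsg.Agent.StdO8.Shadow
end

private theorem dce_c220362a6aea : _root_.True := by
  try have : _root_.True := by simp only [_root_.Cfsg.Agent.StdO8.Shadow.mulM.eq_1]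
  try have : _root_.True := by simp only [_root_.Cfsg.Agent.StdO8.Shadow.ap.eq_2]
  try have : _root_.True := by simp only [_root_.Cfsg.Agent.StdO8.Shadow.ap.eq_1]
  try have : _root_.True := by simp only [_root_.Cfsg.Agent.StdO8.Shadow.ap.eq_def]
  exact _root_.True.intro
end

-- part: StdO8/ShadowInC
section
prune_inst 0x212044401840000000000090110020244c0001900020000190e00d4202048300000001400c801400100aa20000000000004400d04000000000000000000400000028120410400000200000003085180c00000000000000000000000000000004000000000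
set_option linter.all false
open scoped Cfsg.Agent.FastGrp

-- part: StdO8/ShadowRep
section
/-!
# Elementary abelian groups with a basis, actions by matrices, weak closure
-/

set_option autoImplicit false

namespace Cfsg.Agent.StdO8.Shadow

section Ph

variable {H : Type*} [Group H]

/-- The product of the members of the list at the bits of `v`. -/
def ph : List H → ℕ → H
  | [], _ => 1
  | g :: l, v => (if v % 2 = 1 then g else 1) * ph l (v / 2)

/-- Commuting involutions. -/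
structure El (W : List H) : Prop where
  sq : ∀ a ∈ W, a * a = 1
  comm : ∀ a ∈ W, ∀ b ∈ W, a * b = b * a

theorem ph_zero (W : List H) : ph W 0 = 1 := by
  induction W with
  | nil => rfl
  | cons a l ih => simp [ph, ih]

theorem comm_ph {g : H} {L : List H} (h : ∀ a ∈ L, g * a = a * g) (v : ℕ) : g * ph L v = ph L v * g := by
  induction L generalizing v with
  | nil => simp [ph]
  | cons a l ih =>
    have h1 := ih (fun b hb => h b (List.mem_cons_of_mem _ hb)) (v / 2)
    have h2 : g * (if v % 2 = 1 then a else 1) = (if v % 2 = 1 then a else 1) * g := by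
      split
      · exact h a List.mem_cons_self
      · rw [mul_one, one_mul]
    simp only [ph]
    rw [← mul_assoc, h2, mul_assoc, h1, mul_assoc]

theorem El.tail {a : H} {l : List H} (h : El (a :: l)) : El l :=
  ⟨fun b hb => h.sq b (List.mem_cons_of_mem _ hb),
    fun b hb c hc => h.comm b (List.mem_cons_of_mem _ hb) c (List.mem_cons_of_mem _ hc)⟩

theorem El.ph_xor {W : List H} (h : El W) (u v : ℕ) : ph W (u ^^^ v) = ph W u * ph W v := by
  induction W generalizing u v with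
  | nil => simp [ph]
  | cons a l ih =>
    have ha : ∀ b ∈ l, a * b = b * a := fun b hb => h.comm a List.mem_cons_self b (List.mem_cons_of_mem _ hb)
    have hsq := h.sq a List.mem_cons_self
    have hc := comm_ph ha (u / 2)
    simp only [ph, Nat.xor_div_two, ih h.tail, Nat.xor_mod_two_eq_one]
    by_cases h1 : u % 2 = 1 <;> by_cases h2 : v % 2 = 1
    · simp only [h1, h2, iff_self, not_true_eq_false, if_false, if_true, one_mul]
      calc ph l (u / 2) * ph l (v / 2) = (a * a) * ph l (u / 2) * ph l (v / 2) := by rw [hsq, one_mul]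
        _ = a * (a * ph l (u / 2)) * ph l (v / 2) := by simp only [mul_assoc]
        _ = a * (ph l (u / 2) * a) * ph l (v / 2) := by rw [← hc]
        _ = a * ph l (u / 2) * (a * ph l (v / 2)) := by simp only [mul_assoc]
    · simp only [h1, h2, iff_false, not_true_eq_false, not_false_eq_true, if_false, if_true, one_mul]
      rw [mul_assoc]
    · simp only [h1, h2, false_iff, not_true_eq_false, not_false_eq_true, if_false, if_true, one_mul]
      rw [← mul_assoc, hc, mul_assoc]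
    · simp only [h1, h2, iff_self, not_true_eq_false, if_false, one_mul]

theorem El.ph_comm {W : List H} (h : El W) (u v : ℕ) : ph W u * ph W v = ph W v * ph W u := by
  rw [← h.ph_xor, ← h.ph_xor, Nat.xor_comm]

theorem El.ph_sq {W : List H} (h : El W) (u : ℕ) : ph W u * ph W u = 1 := by
  rw [← h.ph_xor, Nat.xor_self, ph_zero]

/-- `h` acts (by `a ↦ h⁻¹ a h`) with the matrix `m`. -/
def ActH (W : List H) (h : H) (m : List ℕ) : Prop :=
  List.Forall₂ (fun a b => h⁻¹ * a * h = ph W b) W m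

theorem act_aux {W : List H} (hW : El W) {h : H} {L : List H} {m : List ℕ}
    (hf : List.Forall₂ (fun a b => h⁻¹ * a * h = ph W b) L m) (v : ℕ) :
    h⁻¹ * ph L v * h = ph W (ap m v) := by
  induction hf generalizing v with
  | nil => simp [ph, ap, ph_zero]
  | @cons a b l l' hab _ ih =>
    simp only [ph, ap]
    rw [hW.ph_xor, ← ih]
    have h2 : h⁻¹ * (if v % 2 = 1 then a else 1) * h = ph W (if v % 2 = 1 then b else 0) := by
      split
      · exact hab
      · rw [ph_zero]; group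
    rw [← h2]
    group

theorem ActH.conj_ph {W : List H} (hW : El W) {h : H} {m : List ℕ} (hf : ActH W h m) (v : ℕ) :
    h⁻¹ * ph W v * h = ph W (ap m v) := act_aux hW hf v

theorem ActH.mul {W : List H} (hW : El W) {g h : H} {a b : List ℕ} (ha : ActH W g a) (hb : ActH W h b) :
    ActH W (g * h) (mulM a b) := by
  unfold ActH mulM
  rw [List.forall₂_map_right_iff]
  refine List.Forall₂.imp ?_ ha
  intro w c hwc
  rw [← hb.conj_ph hW c, ← hwc]
  group

theorem ActH.length {W : List H} {h : H} {m : List ℕ} (hf : ActH W h m) : W.length = m.length :=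
  List.Forall₂.length_eq hf

theorem forall2_uniq {W : List H} (inj : ∀ u < 1024, ∀ v < 1024, ph W u = ph W v → u = v) {h : H} :
    ∀ {L : List H} {a b : List ℕ}, (∀ c ∈ a, c < 1024) → (∀ c ∈ b, c < 1024) →
    List.Forall₂ (fun x y => h⁻¹ * x * h = ph W y) L a → List.Forall₂ (fun x y => h⁻¹ * x * h = ph W y) L b → a = b
  | [], [], [], _, _, _, _ => rfl
  | x :: l, c :: a, d :: b, ha, hb, h1, h2 => by
    rw [List.forall₂_cons] at h1 h2
    have e1 : c = d := inj c (ha c List.mem_cons_self) d (hb d List.mem_cons_self) (by rw [← h1.1, ← h2.1])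
    have e2 := forall2_uniq inj (fun y hy => ha y (List.mem_cons_of_mem _ hy))
      (fun y hy => hb y (List.mem_cons_of_mem _ hy)) h1.2 h2.2
    rw [e1, e2]

theorem ActH.uniq {W : List H} (inj : ∀ u < 1024, ∀ v < 1024, ph W u = ph W v → u = v) {h : H} {a b : List ℕ}
    (ha : ∀ c ∈ a, c < 1024) (hb : ∀ c ∈ b, c < 1024) (h1 : ActH W h a) (h2 : ActH W h b) : a = b :=
  forall2_uniq inj ha hb h1 h2

theorem ph_pow63 : ∀ W : List H, List.Forall₂ (fun a b => a = ph W b) W ((List.range W.length).map (2 ^ ·))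
  | [] => List.Forall₂.nil
  | a :: l => by
    rw [List.length_cons, List.range_succ_eq_map, List.map_cons, List.map_map]
    refine List.Forall₂.cons ?_ ?_
    · show a = (if 2 ^ 0 % 2 = 1 then a else 1) * ph l (2 ^ 0 / 2)
      rw [if_pos (by decide), show 2 ^ 0 / 2 = 0 from rfl, ph_zero, mul_one]
    · have h := ph_pow63 l
      rw [List.forall₂_map_right_iff] at h ⊢
      refine h.imp fun x k hk => ?_
      show x = (if 2 ^ (k + 1) % 2 = 1 then a else 1) * ph l (2 ^ (k + 1) / 2)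
      have e1 : ¬ 2 ^ (k + 1) % 2 = 1 := by rw [pow_succ, Nat.mul_mod_left]; decide
      have e2 : 2 ^ (k + 1) / 2 = 2 ^ k := by rw [pow_succ, Nat.mul_div_cancel _ (by decide)]
      rw [if_neg e1, one_mul, e2]
      exact hk

theorem ph_idM {W : List H} (hl : W.length = 10) : List.Forall₂ (fun a b => a = ph W b) W idM := by
  have h := ph_pow63 W
  rw [hl] at h
  exact h

theorem actH_idM_iff {W : List H} (hl : W.length = 10) {h : H} : ActH W h idM ↔ ∀ a ∈ W, h⁻¹ * a * h = a := by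
  have k : ∀ {L : List H} {M : List ℕ}, List.Forall₂ (fun a b => a = ph W b) L M →
      (List.Forall₂ (fun a b => h⁻¹ * a * h = ph W b) L M ↔ ∀ a ∈ L, h⁻¹ * a * h = a) := fun hf => by
    induction hf with
    | nil => exact ⟨fun _ _ ha => absurd ha List.not_mem_nil, fun _ => List.Forall₂.nil⟩
    | cons h1 _ ih => rw [List.forall₂_cons, List.forall_mem_cons, ih, ← h1]
  exact k (ph_idM hl)

theorem ap_lt {m : List ℕ} (hm : ∀ a ∈ m, a < 1024) (v : ℕ) : ap m v < 1024 := by
  induction m generalizing v with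
  | nil => simp [ap]
  | cons a l ih =>
    simp only [ap]
    have h1 : (if v % 2 = 1 then a else 0) < 2 ^ 10 := by
      split
      · exact hm a List.mem_cons_self
      · norm_num
    exact Nat.xor_lt_two_pow h1 (ih (fun b hb => hm b (List.mem_cons_of_mem _ hb)) _)

theorem mulM_lt {a b : List ℕ} (hb : ∀ c ∈ b, c < 1024) : ∀ c ∈ mulM a b, c < 1024 := by
  intro c hc
  obtain ⟨d, _, rfl⟩ := List.mem_map.1 hc
  exact ap_lt hb d

theorem mulM_idM {m : List ℕ} (hm : ∀ a ∈ m, a < 1024) : mulM m idM = m := by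
  unfold mulM
  conv_rhs => rw [← List.map_id m]
  apply List.map_congr_left
  intro a ha
  exact ap_idM a (hm a ha)

/-- The group spanned by the basis. -/
def MH (W : List H) (hW : El W) : Subgroup H where
  carrier := {h | ∃ v < 1024, h = ph W v}
  one_mem' := ⟨0, by norm_num, (ph_zero W).symm⟩
  mul_mem' := by
    rintro a b ⟨u, hu, rfl⟩ ⟨v, hv, rfl⟩
    exact ⟨u ^^^ v, Nat.xor_lt_two_pow (n := 10) hu hv, (hW.ph_xor u v).symm⟩
  inv_mem' := by
    rintro a ⟨u, hu, rfl⟩
    exact ⟨u, hu, inv_eq_of_mul_eq_one_left (hW.ph_sq u)⟩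

/-- The fixed points of a matrix. -/
def FH (W : List H) (hW : El W) (p : ℕ → Bool) (hp : p 0 = true)
    (hp2 : ∀ u v, p u = true → p v = true → p (u ^^^ v) = true) : Subgroup H where
  carrier := {h | ∃ v < 1024, h = ph W v ∧ p v = true}
  one_mem' := ⟨0, by norm_num, (ph_zero W).symm, hp⟩
  mul_mem' := by
    rintro a b ⟨u, hu, rfl, h1⟩ ⟨v, hv, rfl, h2⟩
    exact ⟨u ^^^ v, Nat.xor_lt_two_pow (n := 10) hu hv, (hW.ph_xor u v).symm, hp2 u v h1 h2⟩
  inv_mem' := by
    rintro a ⟨u, hu, rfl, h1⟩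
    exact ⟨u, hu, inv_eq_of_mul_eq_one_left (hW.ph_sq u), h1⟩

theorem card_FH {W : List H} {hW : El W} {p : ℕ → Bool} {hp : p 0 = true}
    {hp2 : ∀ u v, p u = true → p v = true → p (u ^^^ v) = true}
    (inj : ∀ u < 1024, ∀ v < 1024, ph W u = ph W v → u = v) :
    Nat.card (FH W hW p hp hp2) = (List.range 1024).countP p := by
  have h1 : ((List.range 1024).filter p).toFinset.card = (List.range 1024).countP p := by
    rw [List.countP_eq_length_filter, List.toFinset_card_of_nodup (List.nodup_range.filter _)]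
  have h2 : Nat.card (((List.range 1024).filter p).toFinset : Finset ℕ) = ((List.range 1024).filter p).toFinset.card := by
    rw [Nat.card_eq_fintype_card, Fintype.card_coe]
  have hmem : ∀ v, v ∈ ((List.range 1024).filter p).toFinset ↔ v < 1024 ∧ p v = true := by
    intro v
    rw [List.mem_toFinset, List.mem_filter, List.mem_range]
  rw [← h1, ← h2]
  symm
  refine Nat.card_congr (Equiv.ofBijective (fun v => ⟨ph W v.1, v.1, ((hmem _).1 v.2).1, rfl, ((hmem _).1 v.2).2⟩) ⟨?_, ?_⟩)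
  · intro u v huv
    have h3 : ph W u.1 = ph W v.1 := congrArg Subtype.val huv
    exact Subtype.ext (inj _ ((hmem _).1 u.2).1 _ ((hmem _).1 v.2).1 h3)
  · rintro ⟨h, v, hv, rfl, hpv⟩
    exact ⟨⟨v, (hmem v).2 ⟨hv, hpv⟩⟩, rfl⟩

theorem card_le_of_subset_list {α : Type*} [DecidableEq α] {A : Finset α} {l : List α} (h : ∀ a ∈ A, a ∈ l) :
    A.card ≤ l.length :=
  (Finset.card_le_card (fun a ha => List.mem_toFinset.2 (h a ha))).trans (List.toFinset_card_le l)

/-- The combinatorial end: numbers. -/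
theorem comb {A : Finset (List ℕ)} {f : ℕ} (hid : idM ∈ A) (hcard : A.card * f = 1024) (hA : ∀ m ∈ A, m ∈ SL)
    (hsq : ∀ m ∈ A, mulM m m = idM) (hcomm : ∀ a ∈ A, ∀ b ∈ A, mulM a b = mulM b a)
    (hdvd : ∀ m ∈ A, f ∣ nf m) (hle : ∀ a ∈ A, ∀ b ∈ A, f ≤ nf2 a b)
    (hfix : ∀ a ∈ A, nf a = f → ∀ b ∈ A, ∀ u < 1024, ap a u = u → ap b u = u) : A = {idM} := by
  classical
  by_contra hne
  have hcl : ∀ m ∈ A, m ≠ idM → m ∈ i256 ∨ m ∈ i64.map Prod.fst := by
    intro m hm h1
    rcases SL_inv m (hA m hm) (hsq m hm) with h | h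
    · exact absurd h h1
    · exact h
  have hinv : ∀ m ∈ A.erase idM, m ∈ invs := by
    intro m hm
    rw [Finset.mem_erase] at hm
    exact List.mem_append.2 (hcl m hm.2 hm.1)
  have hce : (A.erase idM).card = A.card - 1 := Finset.card_erase_of_mem hid
  have hne2 : (A.erase idM).Nonempty := by
    rw [Finset.nonempty_iff_ne_empty]
    intro h
    apply hne
    rw [← Finset.insert_erase hid, h]
    rfl
  by_cases h64 : ∃ q ∈ i64, q.1 ∈ A
  · obtain ⟨q, hq, hqA⟩ := h64
    have hf : f ∣ 64 := by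
      have := hdvd q.1 hqA
      rwa [nf_64 q hq] at this
    by_cases hf64 : f = 64
    · have hn : A.card = 16 := by rw [hf64] at hcard; omega
      obtain ⟨hb1, hb2⟩ := bas_64 q hq
      have h3 : (A.erase idM).card ≤ (invs.filter (fun b => q.2.all (fun u => ap b u == u))).length := by
        apply card_le_of_subset_list
        intro b hb
        rw [List.mem_filter]
        refine ⟨hinv b hb, ?_⟩
        rw [List.all_eq_true]
        intro u hu
        rw [beq_iff_eq]
        exact hfix q.1 hqA (by rw [nf_64 q hq, hf64]) b (Finset.mem_of_mem_erase hb) u (hb1 u hu).1 (hb1 u hu).2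
      omega
    · have hf32 : f ≤ 32 := by
        have h1 : f ≤ 64 := Nat.le_of_dvd (by norm_num) hf
        obtain ⟨k, hk⟩ := hf
        have hk2 : 2 ≤ k := by
          by_contra hk3
          have : k = 0 ∨ k = 1 := by omega
          rcases this with rfl | rfl <;> omega
        nlinarith only [hk, hk2]
      have hn : 32 ≤ A.card := by
        by_contra h
        have h1 : A.card ≤ 31 := by omega
        have : A.card * f ≤ 31 * 32 := Nat.mul_le_mul h1 hf32
        omega
      have h3 : (A.erase idM).card ≤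
          (invs.filter (fun a => Nat.ble 31 (invs.countP (fun b => mulM a b == mulM b a)))).length := by
        apply card_le_of_subset_list
        intro a ha
        rw [List.mem_filter]
        refine ⟨hinv a ha, ?_⟩
        rw [Nat.ble_eq]
        have h4 : (A.erase idM).card ≤ (invs.filter (fun b => mulM a b == mulM b a)).length := by
          apply card_le_of_subset_list
          intro b hb
          rw [List.mem_filter]
          refine ⟨hinv b hb, ?_⟩
          rw [beq_iff_eq]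
          exact hcomm a (Finset.mem_of_mem_erase ha) b (Finset.mem_of_mem_erase hb)
        rw [List.countP_eq_length_filter]
        omega
      have := com_inv
      omega
  · have h256 : ∀ m ∈ A.erase idM, m ∈ i256 := by
      intro m hm
      rw [Finset.mem_erase] at hm
      rcases hcl m hm.2 hm.1 with h | h
      · exact h
      · obtain ⟨q, hq, rfl⟩ := List.mem_map.1 h
        exact absurd ⟨q, hq, hm.2⟩ h64
    have hn : (A.erase idM).card ≤ 5 := card_le_of_subset_list h256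
    obtain ⟨m, hm⟩ := hne2
    have hf : f ∣ 256 := by
      have := hdvd m (Finset.mem_of_mem_erase hm)
      rwa [nf_256 m (h256 m hm)] at this
    have hA6 : A.card ≤ 6 := by omega
    have hf1 : 171 ≤ f := by
      by_contra h
      have h1 : f ≤ 170 := by omega
      have : A.card * f ≤ 6 * 170 := Nat.mul_le_mul hA6 h1
      omega
    have hf256 : f = 256 := by
      obtain ⟨k, hk⟩ := hf
      have : k = 1 := by
        have : k < 2 := by nlinarith only [hf1, hk]
        have : k ≠ 0 := by rintro rfl; omega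
        omega
      rw [this] at hk; omega
    have hA4 : A.card = 4 := by rw [hf256] at hcard; omega
    have h2 : ((A.erase idM).erase m).card = 2 := by
      rw [Finset.card_erase_of_mem hm]; omega
    have h3 : ((A.erase idM).erase m).Nonempty := by
      rw [← Finset.card_pos]; omega
    obtain ⟨m', hm'⟩ := h3
    rw [Finset.mem_erase] at hm'
    rcases nf2_256 m (h256 m hm) m' (h256 m' hm'.2) with h | h
    · exact hm'.1 h.symm
    · have := hle m (Finset.mem_of_mem_erase hm) m' (Finset.mem_of_mem_erase hm'.2)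
      omega

theorem SL_getlt {m : List ℕ} (hm : m ∈ SL) : ∀ c ∈ m, c < 1024 := (SL_lt m hm).2

theorem idM_lt : ∀ c ∈ idM, c < 1024 := by decide

theorem idM_mem : idM ∈ SL := by decide +kernel

/-- Weak closure in the quotient. -/
theorem weak {W : List H} (hW : El W) (hl : W.length = 10)
    (inj : ∀ u < 1024, ∀ v < 1024, ph W u = ph W v → u = v)
    (hker : ∀ h, ActH W h idM → ∃ v < 1024, h = ph W v) (K : Subgroup H)
    (hK : ∀ h ∈ K, ∃ m ∈ SL, ActH W h m) (hab : ∀ a ∈ K, ∀ b ∈ K, a * b = b * a) (hsq : ∀ a ∈ K, a * a = 1)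
    (hcard : Nat.card K = 1024) : K ≤ MH W hW := by
  classical
  have hfin : Finite K := Nat.finite_of_card_ne_zero (by rw [hcard]; norm_num)
  choose! ρ hρ1 hρ2 using hK
  have hρ : ∀ h ∈ K, ∀ m ∈ SL, ActH W h m → m = ρ h := fun h hh m hm ha =>
    ha.uniq inj (SL_getlt hm) (SL_getlt (hρ1 h hh)) (hρ2 h hh)
  set A : Finset (List ℕ) := SL.toFinset.filter (fun m => ∃ h ∈ K, ActH W h m) with hAdef
  have hA : ∀ m, m ∈ A ↔ m ∈ SL ∧ ∃ h ∈ K, ActH W h m := by
    intro m; rw [hAdef, Finset.mem_filter, List.mem_toFinset]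
  set F : Subgroup H := K ⊓ MH W hW with hF
  have hone : ActH W 1 idM := (actH_idM_iff hl).2 (fun a _ => by group)
  have hFact : ∀ f ∈ F, ActH W f idM := by
    intro f hf
    obtain ⟨v, _, rfl⟩ := hf.2
    rw [actH_idM_iff hl]
    intro a ha
    have := comm_ph (g := a) (L := W) (fun b hb => hW.comm a ha b hb) v
    rw [mul_assoc, this, inv_mul_cancel_left]
  -- the index
  have hidx : Nat.card (K ⧸ F.subgroupOf K) = A.card := by
    have h1 : Nat.card (A : Finset (List ℕ)) = A.card := by rw [Nat.card_eq_fintype_card, Fintype.card_coe]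
    rw [← h1]
    have key : ∀ a b : K, (a : H)⁻¹ * b ∈ F → ρ a = ρ b := by
      intro a b hab'
      have h3 : ActH W b (mulM (ρ a) idM) := by
        have := (hρ2 a a.2).mul hW (hFact _ hab')
        rwa [mul_inv_cancel_left] at this
      rw [mulM_idM (SL_getlt (hρ1 a a.2))] at h3
      exact hρ b b.2 _ (hρ1 a a.2) h3
    refine Nat.card_congr (Equiv.ofBijective (fun q : K ⧸ F.subgroupOf K =>
      (⟨Quotient.liftOn' q (fun k => ρ k) ?_, ?_⟩ : (A : Finset (List ℕ)))) ⟨?_, ?_⟩)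
    · intro a b hab'
      rw [QuotientGroup.leftRel_apply, Subgroup.mem_subgroupOf] at hab'
      exact key a b hab'
    · obtain ⟨k, rfl⟩ := QuotientGroup.mk_surjective q
      exact (hA _).2 ⟨hρ1 k k.2, k, k.2, hρ2 k k.2⟩
    · intro q1 q2 h
      obtain ⟨a, rfl⟩ := QuotientGroup.mk_surjective q1
      obtain ⟨b, rfl⟩ := QuotientGroup.mk_surjective q2
      have h3 : ρ a = ρ b := congrArg Subtype.val h
      rw [QuotientGroup.eq, Subgroup.mem_subgroupOf]
      refine ⟨K.mul_mem (K.inv_mem a.2) b.2, ?_⟩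
      apply hker
      rw [actH_idM_iff hl]
      intro w hw
      have ha := hρ2 a a.2
      have hb := hρ2 b b.2
      have hai : (a : H)⁻¹ = a := inv_eq_of_mul_eq_one_left (hsq a a.2)
      obtain ⟨u, hu⟩ : ∃ u, (a : H)⁻¹ * w * a = ph W u := by
        have : ∀ {L : List H} {l : List ℕ}, List.Forall₂ (fun x y => (a : H)⁻¹ * x * a = ph W y) L l → w ∈ L →
            ∃ u, (a : H)⁻¹ * w * a = ph W u := by
          intro L l hf hwL
          induction hf with
          | nil => simp at hwL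
          | @cons x y l1 l2 hxy _ ih =>
            rcases List.mem_cons.1 hwL with rfl | h
            · exact ⟨y, hxy⟩
            · exact ih h
        exact this ha hw
      have h4 : (b : H)⁻¹ * ph W u * b = (a : H)⁻¹ * ph W u * a := by
        rw [ha.conj_ph hW, hb.conj_ph hW, h3]
      have h5 : (a : H)⁻¹ * ph W u * a = w := by
        rw [← hu]
        have h6 : (a : H) * a = 1 := hsq a a.2
        rw [hai]
        calc (a : H) * (a * w * a) * a = (a * a) * w * (a * a) := by group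
          _ = w := by rw [h6]; group
      calc ((a : H)⁻¹ * b)⁻¹ * w * ((a : H)⁻¹ * b) = (b : H)⁻¹ * (a * w * (a : H)⁻¹) * b := by group
        _ = (b : H)⁻¹ * ((a : H)⁻¹ * w * a) * b := by rw [hai]
        _ = w := by rw [hu, h4, h5]
    · rintro ⟨m, hm⟩
      obtain ⟨h1, k, hk, hkm⟩ := (hA m).1 hm
      refine ⟨((⟨k, hk⟩ : K) : K ⧸ F.subgroupOf K), Subtype.ext ?_⟩
      exact (hρ k hk m h1 hkm).symm
  have hcf : A.card * Nat.card F = 1024 := by
    have h1 := Subgroup.card_eq_card_quotient_mul_card_subgroup (F.subgroupOf K)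
    rw [hidx, hcard] at h1
    have h2 : Nat.card (F.subgroupOf K) = Nat.card F :=
      Nat.card_congr (Subgroup.subgroupOfEquivOfLe (inf_le_left)).toEquiv
    rw [h2] at h1
    exact h1.symm
  -- the fixed points
  have hfixF : ∀ m ∈ A, ∀ f ∈ F, ∃ v < 1024, f = ph W v ∧ ap m v = v := by
    intro m hm f hf
    obtain ⟨v, hv, rfl⟩ := hf.2
    obtain ⟨h1, k, hk, hkm⟩ := (hA m).1 hm
    refine ⟨v, hv, rfl, ?_⟩
    have h2 := hkm.conj_ph hW v
    have h3 : k⁻¹ * ph W v * k = ph W v := by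
      rw [mul_assoc, hab _ hf.1 k hk, inv_mul_cancel_left]
    rw [h3] at h2
    exact (inj v hv _ (ap_lt (SL_getlt h1) v) h2).symm
  have hp0 : ∀ m : List ℕ, (ap m 0 == 0) = true := fun m => by rw [ap_zero]; rfl
  have hpx : ∀ (m : List ℕ) (u v : ℕ), (ap m u == u) = true → (ap m v == v) = true →
      (ap m (u ^^^ v) == u ^^^ v) = true := by
    intro m u v h1 h2
    rw [beq_iff_eq] at h1 h2 ⊢
    rw [ap_xor, h1, h2]
  let FF : List ℕ → Subgroup H := fun m => FH W hW (fun v => ap m v == v) (hp0 m) (hpx m)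
  have hFF : ∀ m, Nat.card (FF m) = nf m := fun m => card_FH inj
  have hleF : ∀ m ∈ A, F ≤ FF m := by
    intro m hm f hf
    obtain ⟨v, hv, h1, h2⟩ := hfixF m hm f hf
    exact ⟨v, hv, h1, by rw [beq_iff_eq]; exact h2⟩
  have hcomb := comb (A := A) (f := Nat.card F) ((hA _).2 ⟨idM_mem, 1, K.one_mem, hone⟩) hcf
    (fun m hm => ((hA m).1 hm).1) ?_ ?_ ?_ ?_ ?_
  · intro h hh
    have h1 : ρ h ∈ A := (hA _).2 ⟨hρ1 h hh, h, hh, hρ2 h hh⟩
    rw [hcomb, Finset.mem_singleton] at h1
    have h2 := hρ2 h hh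
    rw [h1] at h2
    exact hker h h2
  · intro m hm
    obtain ⟨h1, k, hk, hkm⟩ := (hA m).1 hm
    have h2 := hkm.mul hW hkm
    rw [hsq k hk] at h2
    exact h2.uniq inj (mulM_lt (SL_getlt h1)) idM_lt hone
  · intro a ha b hb
    obtain ⟨h1, k, hk, hkm⟩ := (hA a).1 ha
    obtain ⟨h1', k', hk', hkm'⟩ := (hA b).1 hb
    have h2 := hkm.mul hW hkm'
    have h3 := hkm'.mul hW hkm
    rw [hab k' hk' k hk] at h3
    exact h2.uniq inj (mulM_lt (SL_getlt h1')) (mulM_lt (SL_getlt h1)) h3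
  · intro m hm
    rw [← hFF m]
    exact Subgroup.card_dvd_of_le (hleF m hm)
  · intro a ha b hb
    have hp02 : (ap a 0 == 0 && ap b 0 == 0) = true := by rw [hp0, hp0]; rfl
    have hpx2 : ∀ u v : ℕ, (ap a u == u && ap b u == u) = true → (ap a v == v && ap b v == v) = true →
        (ap a (u ^^^ v) == u ^^^ v && ap b (u ^^^ v) == u ^^^ v) = true := by
      intro u v h1 h2
      rw [Bool.and_eq_true] at h1 h2 ⊢
      exact ⟨hpx a u v h1.1 h2.1, hpx b u v h1.2 h2.2⟩
    have h1 : Nat.card (FH W hW (fun v => ap a v == v && ap b v == v) hp02 hpx2) = nf2 a b := card_FH inj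
    have hfin2 : Finite (FH W hW (fun v => ap a v == v && ap b v == v) hp02 hpx2) := by
      apply Set.Finite.to_subtype
      apply ((Finset.range 1024).finite_toSet.image (ph W)).subset
      rintro h ⟨v, hv, rfl, _⟩
      exact ⟨v, by simpa using hv, rfl⟩
    rw [← h1]
    apply Subgroup.card_le_of_le
    intro f hf
    obtain ⟨v, hv, h3, h4⟩ := hfixF a ha f hf
    obtain ⟨v', hv', h3', h4'⟩ := hfixF b hb f hf
    have : v = v' := inj v hv v' hv' (by rw [← h3, ← h3'])
    subst this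
    exact ⟨v, hv, h3, by rw [Bool.and_eq_true, beq_iff_eq, beq_iff_eq]; exact ⟨h4, h4'⟩⟩
  · intro a ha hna b hb u hu hau
    have h1 : F = FF a := by
      have hfin3 : Finite (FF a) := Nat.finite_of_card_ne_zero (by
        rw [hFF a, hna]
        intro h0
        rw [h0, mul_zero] at hcf
        exact absurd hcf (by norm_num))
      apply Subgroup.eq_of_le_of_card_ge (hleF a ha)
      rw [hFF a, hna]
    have h2 : ph W u ∈ F := by
      rw [h1]
      exact ⟨u, hu, rfl, by rw [beq_iff_eq]; exact hau⟩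
    obtain ⟨v, hv, h3, h4⟩ := hfixF b hb _ h2
    have : u = v := inj u hu v hv h3
    subst this
    exact h4

end Ph

end Cfsg.Agent.StdO8.Shadow
end

-- part: StdO8/ShadowCent
section
/-!
# The extraspecial group `M` of order `2 ^ 11` and the 2-group `S` of order `2 ^ 18`

Everything inside a group `C` (the centraliser of `z` in the application) with a central involution `z`.
-/

set_option autoImplicit false

namespace Cfsg.Agent.StdO8.Shadow

theorem SL_mul : ∀ b ∈ SL, ∀ a ∈ SL, mulM a b ∈ SL := by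
  have key : ∀ k < 128, ∀ a ∈ SL, mulM a (SL.getD k []) ∈ SL := by
    intro k
    induction k using Nat.strong_induction_on with
    | _ k ih =>
      intro hk a ha
      rcases Nat.eq_zero_or_pos k with rfl | hpos
      · have h0 : SL.getD 0 [] = idM := by decide +kernel
        rw [h0, mulM_idM (SL_getlt ha)]
        exact ha
      · obtain ⟨j, rfl⟩ : ∃ j, k = j + 1 := ⟨k - 1, by omega⟩
        obtain ⟨h1, h2, h3⟩ := tree_ok j (by omega)
        rw [h3, ← mulM_assoc]
        apply SL_closed_gen _ (ih _ (by omega) (by omega) a ha)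
        rw [List.getD_eq_getElem _ _ (by simpa [gs] using h2)]
        exact List.getElem_mem _
  intro b hb a ha
  obtain ⟨k, hk, rfl⟩ := List.getElem_of_mem hb
  have := key k (by rw [SL_len] at hk; exact hk) a ha
  rwa [List.getD_eq_getElem _ _ hk] at this

section Par

/-- Parity of the bits with coefficients. -/
def par : List Bool → ℕ → Bool
  | [], _ => false
  | c :: l, v => xor (c && (v % 2 == 1)) (par l (v / 2))

/-- The square of a product. -/
def sqf : List (List Bool) → ℕ → Bool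
  | [], _ => false
  | c :: cs, v => xor ((v % 2 == 1) && par c (v / 2)) (sqf cs (v / 2))

/-- The partner of a basis vector. -/
def pr (i : ℕ) : ℕ := [1, 0, 9, 8, 7, 6, 5, 4, 3, 2].getD i 10

def row (i : ℕ) : List Bool := (List.range 10).map (fun j => decide (j = pr i))

def tails : List (List Bool) :=
  (List.range 10).map (fun i => ((List.range 10).drop (i + 1)).map (fun j => decide (j = pr i)))

/-- `par` by recursors -/
noncomputable def parF63 (l : List Bool) : ℕ → Bool :=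
  List.rec (motive := fun _ => ℕ → Bool) (fun _ => false)
    (fun c _ ih v => Bool.rec (ih (Nat.shiftRight v 1))
      (Bool.rec (ih (Nat.shiftRight v 1)) (Bool.rec true false (ih (Nat.shiftRight v 1))) (Nat.beq (Nat.land v 1) 1)) c) l

theorem par_F63 : par = parF63 := by
  funext l
  induction l with
  | nil => rfl
  | cons c l ih =>
    funext v
    show xor (c && (v % 2 == 1)) (par l (v / 2)) = Bool.rec (parF63 l (v >>> 1))
      (Bool.rec (parF63 l (v >>> 1)) (Bool.rec true false (parF63 l (v >>> 1))) (Nat.beq (v &&& 1) 1)) c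
    rw [ih, Nat.and_one_is_mod, Nat.shiftRight_one]
    rcases Nat.mod_two_eq_zero_or_one v with h | h <;> rw [h] <;> cases c <;> cases parF63 l (v / 2) <;> rfl

/-- `sqf` by recursors -/
noncomputable def sqfF63 (l : List (List Bool)) : ℕ → Bool :=
  List.rec (motive := fun _ => ℕ → Bool) (fun _ => false)
    (fun c _ ih v => Bool.rec (ih (Nat.shiftRight v 1))
      (Bool.rec (ih (Nat.shiftRight v 1)) (Bool.rec true false (ih (Nat.shiftRight v 1))) (parF63 c (Nat.shiftRight v 1)))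
      (Nat.beq (Nat.land v 1) 1)) l

theorem sqf_F63 : sqf = sqfF63 := by
  funext l
  induction l with
  | nil => rfl
  | cons c l ih =>
    funext v
    show xor ((v % 2 == 1) && par c (v / 2)) (sqf l (v / 2)) = Bool.rec (sqfF63 l (v >>> 1))
      (Bool.rec (sqfF63 l (v >>> 1)) (Bool.rec true false (sqfF63 l (v >>> 1))) (parF63 c (v >>> 1))) (Nat.beq (v &&& 1) 1)
    rw [ih, par_F63, Nat.and_one_is_mod, Nat.shiftRight_one]
    rcases Nat.mod_two_eq_zero_or_one v with h | h <;> rw [h] <;> cases parF63 c (v / 2) <;>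
      cases sqfF63 l (v / 2) <;> rfl

/-- `ap` by recursors -/
noncomputable def apF63 (l : List ℕ) : ℕ → ℕ :=
  List.rec (motive := fun _ => ℕ → ℕ) (fun _ => 0)
    (fun a _ ih v => Nat.xor (Nat.mul (Nat.land v 1) a) (ih (Nat.shiftRight v 1))) l

theorem ap_F63 : ap = apF63 := by
  funext l
  induction l with
  | nil => rfl
  | cons a l ih =>
    funext v
    show (if v % 2 = 1 then a else 0) ^^^ ap l (v / 2) = ((v &&& 1) * a) ^^^ apF63 l (v >>> 1)
    rw [ih, Nat.and_one_is_mod, Nat.shiftRight_one]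
    rcases Nat.mod_two_eq_zero_or_one v with h | h
    · rw [if_neg (by omega), h, Nat.zero_mul]
    · rw [if_pos h, h, Nat.one_mul]

theorem par_row : ∀ d < 1024, (∀ i < 10, par (row i) d = false) → d = 0 := by
  have k : ((List.range 1024).all fun d => Nat.beq d 0 || (List.range 10).any fun i => par (row i) d) = true := by
    rewrite [par_F63]
    decide +kernel
  intro d hd h
  rcases Bool.or_eq_true_iff.1 (List.all_eq_true.1 k d (List.mem_range.2 hd)) with h0 | h0
  · exact Nat.eq_of_beq_eq_true h0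
  · obtain ⟨i, hi, h1⟩ := List.any_eq_true.1 h0
    rw [h i (List.mem_range.1 hi)] at h1
    exact Bool.noConfusion h1

end Par

section Cent

universe u

variable {C : Type u} [Group C]

/-- `z` or `1`. -/
def zb (z : C) (b : Bool) : C := if b then z else 1

theorem zb_xor {z : C} (zz : z * z = 1) (a b : Bool) : zb z (xor a b) = zb z a * zb z b := by
  cases a <;> cases b <;> simp [zb, zz]

/-- The list of the ten generators. -/
def WL (w : ℕ → C) : List C := [w 0, w 1, w 2, w 3, w 4, w 5, w 6, w 7, w 8, w 9]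

structure CD (z : C) (w : ℕ → C) : Prop where
  zz : z * z = 1
  z1 : z ≠ 1
  zc : ∀ g, g * z = z * g
  sq : ∀ i < 10, w i * w i = 1
  cm : ∀ i < 10, ∀ j < 10, w i * w j = w j * w i * zb z (decide (j = pr i))
  cent : ∀ g, (∀ i < 10, g * w i = w i * g) → g = 1 ∨ g = z

variable {z : C} {w : ℕ → C}

theorem CD.zbc (D : CD z w) (b : Bool) (g : C) : g * zb z b = zb z b * g := by
  unfold zb
  split
  · exact D.zc g
  · rw [mul_one, one_mul]

theorem comm_par (zz : z * z = 1) (zc : ∀ g, g * z = z * g) {g : C} {L : List C} {cs : List Bool}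
    (h : List.Forall₂ (fun a c => g * a = a * g * zb z c) L cs) (v : ℕ) :
    g * ph L v = ph L v * g * zb z (par cs v) := by
  have hzb : ∀ (b : Bool) (g : C), g * zb z b = zb z b * g := by
    intro b g
    unfold zb
    split
    · exact zc g
    · rw [mul_one, one_mul]
  induction h generalizing v with
  | nil => simp [ph, par, zb]
  | @cons a c l l' hac _ ih =>
    simp only [ph, par]
    rw [zb_xor zz]
    have h2 : g * (if v % 2 = 1 then a else 1) = (if v % 2 = 1 then a else 1) * g * zb z (c && (v % 2 == 1)) := by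
      by_cases hv : v % 2 = 1
      · simp [hv, hac]
      · simp [hv, zb]
    calc g * ((if v % 2 = 1 then a else 1) * ph l (v / 2))
        = (g * (if v % 2 = 1 then a else 1)) * ph l (v / 2) := by group
      _ = (if v % 2 = 1 then a else 1) * g * (zb z (c && (v % 2 == 1)) * ph l (v / 2)) := by rw [h2]; group
      _ = (if v % 2 = 1 then a else 1) * (g * ph l (v / 2)) * zb z (c && (v % 2 == 1)) := by
          rw [← hzb]; group
      _ = (if v % 2 = 1 then a else 1) * ph l (v / 2) * g * (zb z (par l' (v / 2)) * zb z (c && (v % 2 == 1))) := by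
          rw [ih]; group
      _ = _ := by rw [hzb]

/-- Commutation of a list with its tails. -/
def TC (z : C) : List C → List (List Bool) → Prop
  | [], [] => True
  | g :: l, c :: cs => g * g = 1 ∧ List.Forall₂ (fun a b => g * a = a * g * zb z b) l c ∧ TC z l cs
  | _, _ => False

theorem sq_ph (zz : z * z = 1) (zc : ∀ g, g * z = z * g) : ∀ {L : List C} {cs : List (List Bool)}, TC z L cs →
    ∀ v, ph L v * ph L v = zb z (sqf cs v)
  | [], [], _, v => by simp [ph, sqf, zb]
  | g :: l, c :: cs, h, v => by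
    obtain ⟨h1, h2, h3⟩ := h
    have ih := sq_ph zz zc h3 (v / 2)
    simp only [ph, sqf]
    rw [zb_xor zz, ← ih]
    by_cases hv : v % 2 = 1
    · have h4 := comm_par zz zc h2 (v / 2)
      have hzb : ∀ (b : Bool) (g : C), g * zb z b = zb z b * g := by
        intro b g
        unfold zb
        split
        · exact zc g
        · rw [mul_one, one_mul]
      simp only [hv, if_true, beq_self_eq_true, Bool.true_and]
      calc g * ph l (v / 2) * (g * ph l (v / 2)) = g * (ph l (v / 2) * (g * ph l (v / 2))) := by group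
        _ = g * (ph l (v / 2) * (ph l (v / 2) * g * zb z (par c (v / 2)))) := by rw [h4]
        _ = g * (ph l (v / 2) * ph l (v / 2)) * g * zb z (par c (v / 2)) := by group
        _ = g * zb z (sqf cs (v / 2)) * g * zb z (par c (v / 2)) := by rw [ih]
        _ = zb z (sqf cs (v / 2)) * (g * g) * zb z (par c (v / 2)) := by
            rw [hzb (sqf cs (v / 2)) g]; simp only [mul_assoc]
        _ = zb z (par c (v / 2)) * (ph l (v / 2) * ph l (v / 2)) := by
            rw [h1, mul_one, ← hzb, ih]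
    · simp [hv, zb]
  | [], _ :: _, h, _ => h.elim
  | _ :: _, [], h, _ => h.elim

theorem CD.cm0 (D : CD z w) {i j : ℕ} (hi : i < 10) (hj : j < 10) (b : Bool) (hb : decide (j = pr i) = b) :
    w i * w j = w j * w i * zb z b := by rw [← hb]; exact D.cm i hi j hj

theorem CD.row_comm (D : CD z w) {i : ℕ} (hi : i < 10) :
    List.Forall₂ (fun a c => w i * a = a * w i * zb z c) (WL w) (row i) := by
  have h : row i = [decide (0 = pr i), decide (1 = pr i), decide (2 = pr i), decide (3 = pr i), decide (4 = pr i),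
    decide (5 = pr i), decide (6 = pr i), decide (7 = pr i), decide (8 = pr i), decide (9 = pr i)] := rfl
  rw [h]
  unfold WL
  simp only [List.forall₂_cons, List.forall₂_nil_left_iff, and_true]
  exact ⟨D.cm i hi 0 (by norm_num), D.cm i hi 1 (by norm_num), D.cm i hi 2 (by norm_num), D.cm i hi 3 (by norm_num),
    D.cm i hi 4 (by norm_num), D.cm i hi 5 (by norm_num), D.cm i hi 6 (by norm_num), D.cm i hi 7 (by norm_num),
    D.cm i hi 8 (by norm_num), D.cm i hi 9 (by norm_num)⟩

theorem CD.tc (D : CD z w) : TC z (WL w) tails := by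
  have h : tails = [[true, false, false, false, false, false, false, false, false],
    [false, false, false, false, false, false, false, false],
    [false, false, false, false, false, false, true], [false, false, false, false, true, false],
    [false, false, true, false, false], [true, false, false, false], [false, false, false], [false, false], [false],
    []] := by decide +kernel
  rw [h]
  unfold WL
  simp only [TC, List.forall₂_cons, List.forall₂_nil_left_iff, and_true]
  have q : ∀ i < 10, w i * w i = 1 := D.sq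
  refine ⟨q 0 (by norm_num), ?_, q 1 (by norm_num), ?_, q 2 (by norm_num), ?_, q 3 (by norm_num), ?_,
    q 4 (by norm_num), ?_, q 5 (by norm_num), ?_, q 6 (by norm_num), ?_, q 7 (by norm_num), ?_, q 8 (by norm_num), ?_,
    q 9 (by norm_num)⟩
  all_goals first
    | exact D.cm0 (by norm_num) (by norm_num) _ (by decide)
    | (refine ⟨D.cm0 (by norm_num) (by norm_num) _ (by decide), ?_⟩
       repeat' first
         | exact D.cm0 (by norm_num) (by norm_num) _ (by decide)
         | refine ⟨D.cm0 (by norm_num) (by norm_num) _ (by decide), ?_⟩)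

omit [Group C] in
theorem mem_WL {a : C} (h : a ∈ WL w) : ∃ i < 10, a = w i := by
  simp only [WL, List.mem_cons, List.not_mem_nil, or_false] at h
  rcases h with h | h | h | h | h | h | h | h | h | h
  · exact ⟨0, by norm_num, h⟩
  · exact ⟨1, by norm_num, h⟩
  · exact ⟨2, by norm_num, h⟩
  · exact ⟨3, by norm_num, h⟩
  · exact ⟨4, by norm_num, h⟩
  · exact ⟨5, by norm_num, h⟩
  · exact ⟨6, by norm_num, h⟩
  · exact ⟨7, by norm_num, h⟩
  · exact ⟨8, by norm_num, h⟩
  · exact ⟨9, by norm_num, h⟩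

omit [Group C] in
theorem WL_mem {i : ℕ} (hi : i < 10) : w i ∈ WL w := by
  simp only [WL, List.mem_cons, List.not_mem_nil, or_false]
  interval_cases i <;> simp

variable {H : Type u} [Group H] {π : C →* H}

theorem map_ph (π : C →* H) (L : List C) (v : ℕ) : π (ph L v) = ph (L.map π) v := by
  induction L generalizing v with
  | nil => simp [ph]
  | cons a l ih =>
    simp only [ph, List.map_cons, map_mul, ih]
    congr 1
    split <;> simp

/-- The basis of the quotient. -/
def WB (π : C →* H) (w : ℕ → C) : List H := (WL w).map π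

theorem mem_WB {a : H} (h : a ∈ WB π w) : ∃ i < 10, a = π (w i) := by
  obtain ⟨b, hb, rfl⟩ := List.mem_map.1 h
  obtain ⟨i, hi, rfl⟩ := mem_WL hb
  exact ⟨i, hi, rfl⟩

theorem WB_mem {i : ℕ} (hi : i < 10) : π (w i) ∈ WB π w := List.mem_map_of_mem (WL_mem hi)

theorem WB_length : (WB π w).length = 10 := rfl

/-- `π` has kernel `{1, z}` and is surjective. -/
structure Quo (z : C) (π : C →* H) : Prop where
  surj : Function.Surjective π
  eq_iff : ∀ a b, π a = π b ↔ a = b ∨ a = b * z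

theorem Quo.zb (Q : Quo z π) (a : C) (b : Bool) : π (a * zb z b) = π a := by
  rw [Q.eq_iff]
  cases b <;> simp [Shadow.zb]

theorem CD.elW (D : CD z w) (Q : Quo z π) : El (WB π w) := by
  constructor
  · intro a ha
    obtain ⟨i, hi, rfl⟩ := mem_WB ha
    rw [← map_mul, D.sq i hi, map_one]
  · intro a ha b hb
    obtain ⟨i, hi, rfl⟩ := mem_WB ha
    obtain ⟨j, hj, rfl⟩ := mem_WB hb
    rw [← map_mul, ← map_mul, D.cm i hi j hj, Q.zb]

theorem CD.row_ph (D : CD z w) {i : ℕ} (hi : i < 10) (v : ℕ) :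
    w i * ph (WL w) v = ph (WL w) v * w i * Shadow.zb z (par (row i) v) :=
  comm_par D.zz D.zc (D.row_comm hi) v

theorem zb_eq_one {b : Bool} (hz : z ≠ 1) (h : Shadow.zb z b = 1) : b = false := by
  cases b
  · rfl
  · exact absurd h hz

theorem CD.injW (D : CD z w) (Q : Quo z π) :
    ∀ u < 1024, ∀ v < 1024, ph (WB π w) u = ph (WB π w) v → u = v := by
  intro u hu v hv h
  have hW := D.elW Q
  have h1 : ph (WB π w) (u ^^^ v) = 1 := by rw [hW.ph_xor, h, hW.ph_sq]
  have h2 : π (ph (WL w) (u ^^^ v)) = π 1 := by rw [map_ph, map_one]; exact h1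
  rw [Q.eq_iff, one_mul] at h2
  have h3 : ∀ i < 10, par (row i) (u ^^^ v) = false := by
    intro i hi
    have h4 := D.row_ph hi (u ^^^ v)
    apply zb_eq_one D.z1
    rcases h2 with h2 | h2
    · rw [h2, mul_one, one_mul] at h4
      have := congrArg (fun g => (w i)⁻¹ * g) h4
      simp only [inv_mul_cancel, inv_mul_cancel_left] at this
      exact this.symm
    · rw [h2, D.zc, ] at h4
      have := congrArg (fun g => (z * w i)⁻¹ * g) h4
      simp only [inv_mul_cancel, inv_mul_cancel_left] at this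
      exact this.symm
  have h4 : u ^^^ v = 0 := par_row _ (Nat.xor_lt_two_pow (n := 10) hu hv) h3
  exact Nat.xor_eq_zero_iff.1 h4

/-- The commutation pattern of an element which is trivial on the quotient. -/
theorem CD.kerW (D : CD z w) (Q : Quo z π) {g : C} (hg : ∀ i < 10, π (g⁻¹ * w i * g) = π (w i)) :
    ∃ v < 1024, g = ph (WL w) v ∨ g = ph (WL w) v * z := by
  classical
  have h1 : ∀ i, ∃ b : Bool, i < 10 → g * w i = w i * g * Shadow.zb z b := by
    intro i
    by_cases hi : i < 10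
    · have h2 := hg i hi
      rw [Q.eq_iff] at h2
      rcases h2 with h2 | h2
      · refine ⟨false, fun _ => ?_⟩
        rw [mul_assoc, inv_mul_eq_iff_eq_mul] at h2
        simp [Shadow.zb, h2]
      · refine ⟨true, fun _ => ?_⟩
        rw [mul_assoc, inv_mul_eq_iff_eq_mul] at h2
        simp only [Shadow.zb, if_true]
        rw [h2]
        calc g * w i = g * w i * (z * z) := by rw [D.zz, mul_one]
          _ = g * (w i * z) * z := by simp only [mul_assoc]
    · exact ⟨false, fun h => absurd h hi⟩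
  choose b hb using h1
  have hW := D.elW Q
  have key : ∀ k ≤ 10, ∃ p : C, π p ∈ MH (WB π w) hW ∧
      ∀ j < 10, w j * p = p * w j * Shadow.zb z (decide (j < k) && b j) := by
    intro k
    induction k with
    | zero =>
      intro _
      refine ⟨1, by rw [map_one]; exact Subgroup.one_mem _, fun j _ => ?_⟩
      simp [Shadow.zb]
    | succ k ih =>
      intro hk
      obtain ⟨p, hp, hpc⟩ := ih (by omega)
      have hpr : pr k < 10 := by
        have : ∀ k < 10, pr k < 10 := by decide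
        exact this k (by omega)
      by_cases hbk : b k = true
      · refine ⟨p * w (pr k), ?_, fun j hj => ?_⟩
        · rw [map_mul]
          refine Subgroup.mul_mem _ hp ?_
          have h3 : ∀ i < 10, 2 ^ i < 1024 ∧ ph (WB π w) (2 ^ i) = π (w i) := by
            intro i hi
            interval_cases i <;> simp only [WB, WL, ph, _root_.pow_zero, _root_.Nat.one_lt_ofNat, _root_.List.map_cons, _root_.List.map_nil, _root_.Nat.mod_succ, ↓ _root_.reduceIte, _root_.Nat.reduceDiv, _root_.Nat.zero_mod, _root_.zero_ne_one, _root_.Nat.zero_div, _root_.mul_one, _root_.and_self, _root_.pow_one, _root_.Nat.reduceLT, _root_.Nat.mod_self, _root_.Order.lt_two_iff, _root_.zero_le, _root_.Nat.div_self, _root_.one_mul, _root_.Nat.reducePow, _root_.Nat.reduceMod]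
          exact ⟨2 ^ (pr k), (h3 _ hpr).1, (h3 _ hpr).2.symm⟩
        · have h3 := hpc j hj
          have h4 : w j * w (pr k) = w (pr k) * w j * Shadow.zb z (decide (j = k)) := by
            rw [D.cm j hj (pr k) hpr]
            have h5 : ∀ j < 10, ∀ k < 10, decide (pr k = pr j) = decide (j = k) := by decide
            rw [h5 j hj k (by omega)]
          calc w j * (p * w (pr k)) = (w j * p) * w (pr k) := by group
            _ = p * w j * (Shadow.zb z (decide (j < k) && b j) * w (pr k)) := by rw [h3]; group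
            _ = p * (w j * w (pr k)) * Shadow.zb z (decide (j < k) && b j) := by rw [← D.zbc]; group
            _ = p * w (pr k) * w j * (Shadow.zb z (decide (j = k)) * Shadow.zb z (decide (j < k) && b j)) := by
                rw [h4]; group
            _ = _ := by
                rw [← zb_xor D.zz]
                congr 2
                rcases lt_trichotomy j k with h | h | h
                · simp [h, h.ne, Nat.lt_succ_of_lt h]
                · subst h; simp [hbk]
                · have h6 : ¬ j < k + 1 := by omega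
                  simp [h6, h.ne', not_lt.2 h.le]
      · refine ⟨p, hp, fun j hj => ?_⟩
        rw [hpc j hj]
        congr 2
        rcases lt_trichotomy j k with h | h | h
        · simp [h, Nat.lt_succ_of_lt h]
        · subst h; simp [hbk]
        · have h6 : ¬ j < k + 1 := by omega
          simp [h6, not_lt.2 h.le]
  obtain ⟨p, hp, hpc⟩ := key 10 le_rfl
  have h5 : ∀ j < 10, (g * p⁻¹) * w j = w j * (g * p⁻¹) := by
    intro j hj
    have h6 := hpc j hj
    simp only [hj, decide_true, Bool.true_and] at h6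
    have h7 : p⁻¹ * w j = w j * p⁻¹ * Shadow.zb z (b j) := by
      have hz2 : Shadow.zb z (b j) * Shadow.zb z (b j) = 1 := by
        rw [← zb_xor D.zz, Bool.xor_self]; rfl
      calc p⁻¹ * w j = p⁻¹ * (w j * p) * p⁻¹ := by group
        _ = w j * (Shadow.zb z (b j) * p⁻¹) := by rw [h6]; group
        _ = w j * p⁻¹ * Shadow.zb z (b j) := by rw [← D.zbc]; group
    calc (g * p⁻¹) * w j = g * (p⁻¹ * w j) := by group
      _ = (g * w j) * p⁻¹ * Shadow.zb z (b j) := by rw [h7]; group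
      _ = w j * g * (Shadow.zb z (b j) * p⁻¹) * Shadow.zb z (b j) := by rw [hb j hj]; group
      _ = w j * g * p⁻¹ * (Shadow.zb z (b j) * Shadow.zb z (b j)) := by rw [← D.zbc]; group
      _ = w j * (g * p⁻¹) := by
          rw [← zb_xor D.zz, Bool.xor_self]; simp [Shadow.zb, mul_assoc]
  obtain ⟨v, hv, hpv⟩ := hp
  have hπ : π g = π (ph (WL w) v) := by
    rw [map_ph]
    change π g = ph (WB π w) v
    rw [← hpv]
    rcases D.cent _ h5 with h | h
    · rw [mul_inv_eq_one.1 h]
    · rw [Q.eq_iff]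
      right
      rw [mul_inv_eq_iff_eq_mul] at h
      rw [h, D.zc]
  exact ⟨v, hv, (Q.eq_iff _ _).1 hπ⟩

end Cent

end Cfsg.Agent.StdO8.Shadow
end

-- part: StdO8/ShadowOrb
section
/-!
# The orbits of the 128 matrices on the vectors with `λ = -1`
-/

set_option autoImplicit false

namespace Cfsg.Agent.StdO8.Shadow

/-- The orbit of `t`. -/
def orb1 : List ℕ := [1, 33, 129, 257, 513, 545, 641, 769]

/-- The other short orbit. -/
def orb161 : List ℕ := [161, 289, 385, 417, 673, 801, 897, 929]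

/-- Ten matrices. -/
def RL : List (List ℕ) := [0, 121, 110, 107, 72, 60, 59, 58, 43, 19].map (fun k => SL.getD k [])

/-- Number of distinct entries. -/
def cnt : List ℕ → ℕ
  | [] => 0
  | a :: l => (if l.elem a then 0 else 1) + cnt l

theorem cnt_le (l : List ℕ) (s : Finset ℕ) (h : ∀ a ∈ l, a ∈ s) : cnt l ≤ s.card := by
  induction l generalizing s with
  | nil => exact Nat.zero_le _
  | cons a l ih =>
    simp only [cnt]
    by_cases ha : l.elem a = true
    · simp only [ha, if_true, zero_add]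
      exact ih s (fun b hb => h b (List.mem_cons_of_mem _ hb))
    · simp only [ha, if_false, Bool.false_eq_true]
      have h1 : a ∈ s := h a List.mem_cons_self
      have h2 := ih (s.erase a) (by
        intro b hb
        refine Finset.mem_erase.2 ⟨?_, h b (List.mem_cons_of_mem _ hb)⟩
        rintro rfl
        exact ha (List.elem_iff.2 hb))
      rw [Finset.card_erase_of_mem h1] at h2
      have h3 : 0 < s.card := Finset.card_pos.2 ⟨a, h1⟩
      omega

theorem orb_chk : (List.range 1024).all (fun v => v % 2 == 0 || sqf tails v || orb1.elem v || orb161.elem v ||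
    Nat.ble 9 (cnt (RL.map (fun m => ap m v)))) = true := by
  rewrite [sqf_F63, ap_F63]
  decide +kernel

theorem orb1_chk : orb1.all (fun v => SL.any (fun m => ap m v == 1)) = true := by decide +kernel

theorem orb161_chk : orb161.all (fun v => SL.any (fun m => ap m v == 161)) = true := by decide +kernel

theorem RL_mem : ∀ m ∈ RL, m ∈ SL := by decide +kernel

theorem SL_fixX : ∀ m ∈ SL, ap m 2 = 2 := by decide +kernel

theorem par_row1 : ∀ v < 1024, par (row 1) v = (v % 2 == 1) := fun v _ => by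
  show par [true, false, false, false, false, false, false, false, false, false] v = _
  simp only [par, Bool.false_and, Bool.true_and, Bool.xor_false, Bool.false_xor, Bool.bne_false]

/-- The orbits on the singular vectors outside the hyperplane of `x`. -/
theorem orbits (v : ℕ) (hv : v < 1024) (h1 : sqf tails v = false) (h2 : v % 2 = 1) :
    (∃ m ∈ SL, ap m v = 1) ∨ (∃ m ∈ SL, ap m v = 161) ∨ 9 ≤ cnt (RL.map (fun m => ap m v)) := by
  have h := List.all_eq_true.1 orb_chk v (List.mem_range.2 hv)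
  simp only [h1, Bool.or_eq_true, beq_iff_eq, h2, one_ne_zero, false_or, Bool.false_eq_true] at h
  rcases h with (h | h) | h
  · left
    have h3 := List.all_eq_true.1 orb1_chk v (List.elem_iff.1 h)
    obtain ⟨m, hm, h4⟩ := List.any_eq_true.1 h3
    exact ⟨m, hm, beq_iff_eq.1 h4⟩
  · right; left
    have h3 := List.all_eq_true.1 orb161_chk v (List.elem_iff.1 h)
    obtain ⟨m, hm, h4⟩ := List.any_eq_true.1 h3
    exact ⟨m, hm, beq_iff_eq.1 h4⟩
  · right; right
    exact Nat.le_of_ble_eq_true h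

end Cfsg.Agent.StdO8.Shadow
end

-- part: StdO8/ShadowGrp
section
/-!
# The groups `M` and `S` in the centraliser of `z`
-/

set_option autoImplicit false

namespace Cfsg.Agent.StdO8.Shadow

section

universe u

variable {C H : Type u} [Group C] [Group H] {z : C} {w : ℕ → C} {π : C →* H}

/-- The action of an element of `C`. -/
abbrev Act (π : C →* H) (w : ℕ → C) (g : C) (m : List ℕ) : Prop := ActH (WB π w) (π g) m

theorem Act.mul (D : CD z w) (Q : Quo z π) {g h : C} {a b : List ℕ} (h1 : Act π w g a) (h2 : Act π w h b) :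
    Act π w (g * h) (mulM a b) := by
  unfold Act
  rw [map_mul]
  exact ActH.mul (D.elW Q) h1 h2

theorem Act.one : Act π w 1 idM := by
  unfold Act
  rw [map_one]
  exact (actH_idM_iff WB_length).2 (fun a _ => by group)

theorem Act.pow (D : CD z w) (Q : Quo z π) {g : C} {a : List ℕ} (h1 : Act π w g a) (n : ℕ) :
    Act π w (g ^ n) ((fun b => mulM b a)^[n] idM) := by
  induction n with
  | zero => rw [pow_zero]; exact Act.one
  | succ n ih =>
    rw [pow_succ, Function.iterate_succ_apply']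
    exact ih.mul D Q h1

/-- `M`. -/
def MM (D : CD z w) (Q : Quo z π) : Subgroup C := (MH (WB π w) (D.elW Q)).comap π

theorem mem_MM (D : CD z w) (Q : Quo z π) {g : C} :
    g ∈ MM D Q ↔ ∃ v < 1024, ∃ b : Bool, g = ph (WL w) v * zb z b := by
  constructor
  · rintro ⟨v, hv, h⟩
    refine ⟨v, hv, ?_⟩
    have h1 : π g = π (ph (WL w) v) := by rw [map_ph]; exact h
    rcases (Q.eq_iff _ _).1 h1 with h2 | h2
    · exact ⟨false, by rw [h2]; simp [zb]⟩
    · exact ⟨true, h2⟩
  · rintro ⟨v, hv, b, rfl⟩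
    refine ⟨v, hv, ?_⟩
    rw [Q.zb, map_ph]
    rfl

theorem MM_act (D : CD z w) (Q : Quo z π) {g : C} (hg : g ∈ MM D Q) : Act π w g idM := by
  obtain ⟨v, hv, h⟩ := hg
  unfold Act
  rw [h, actH_idM_iff WB_length]
  intro a ha
  have := comm_ph (g := a) (L := WB π w) (fun b hb => (D.elW Q).comm a ha b hb) v
  rw [mul_assoc, this, inv_mul_cancel_left]

theorem mem_MM_of_act (D : CD z w) (Q : Quo z π) {g : C} (hg : Act π w g idM) : g ∈ MM D Q := by
  have h1 : ∀ i < 10, π (g⁻¹ * w i * g) = π (w i) := by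
    intro i hi
    rw [map_mul, map_mul, map_inv]
    exact (actH_idM_iff WB_length).1 hg _ (WB_mem hi)
  obtain ⟨v, hv, h⟩ := D.kerW Q h1
  rw [mem_MM]
  rcases h with h | h
  · exact ⟨v, hv, false, by rw [h]; simp [zb]⟩
  · exact ⟨v, hv, true, h⟩

theorem Act.uniq (D : CD z w) (Q : Quo z π) {g : C} {a b : List ℕ} (ha : ∀ c ∈ a, c < 1024) (hb : ∀ c ∈ b, c < 1024)
    (h1 : Act π w g a) (h2 : Act π w g b) : a = b := ActH.uniq (D.injW Q) ha hb h1 h2

theorem Act.conj (D : CD z w) (Q : Quo z π) {g : C} {m : List ℕ} (h : Act π w g m) (v : ℕ) :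
    π (g⁻¹ * ph (WL w) v * g) = π (ph (WL w) (ap m v)) := by
  rw [map_mul, map_mul, map_inv, map_ph, map_ph]
  exact ActH.conj_ph (D.elW Q) h v

variable [Finite C]

/-- `S`. -/
def SS (D : CD z w) (Q : Quo z π) : Subgroup C where
  carrier := {g | ∃ m ∈ SL, Act π w g m}
  one_mem' := ⟨idM, idM_mem, Act.one⟩
  mul_mem' := by
    rintro a b ⟨m, hm, ha⟩ ⟨m', hm', hb⟩
    exact ⟨mulM m m', SL_mul m' hm' m hm, ha.mul D Q hb⟩
  inv_mem' := by
    rintro a ⟨m, hm, ha⟩
    have key : ∀ n : ℕ, (fun b => mulM b m)^[n] idM ∈ SL := by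
      intro n
      induction n with
      | zero => exact idM_mem
      | succ n ih => rw [Function.iterate_succ_apply']; exact SL_mul m hm _ ih
    have h1 : a⁻¹ = a ^ (orderOf a - 1) := by
      rw [eq_comm, eq_inv_iff_mul_eq_one, ← pow_succ, Nat.sub_add_cancel (orderOf_pos a), pow_orderOf_eq_one]
    change ∃ m ∈ SL, Act π w a⁻¹ m
    rw [h1]
    exact ⟨_, key _, ha.pow D Q _⟩

theorem MM_le_SS (D : CD z w) (Q : Quo z π) : MM D Q ≤ SS D Q := fun _ hg => ⟨idM, idM_mem, MM_act D Q hg⟩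

omit [Finite C] in
theorem card_MM (D : CD z w) (Q : Quo z π) : Nat.card (MM D Q) = 2048 := by
  have h1 : Nat.card (Fin 1024 × Bool) = 2048 := by simp
  rw [← h1]
  symm
  refine Nat.card_congr (Equiv.ofBijective (fun p => ⟨ph (WL w) p.1 * zb z p.2,
    (mem_MM D Q).2 ⟨p.1, p.1.2, p.2, rfl⟩⟩) ⟨?_, ?_⟩)
  · rintro ⟨a, b⟩ ⟨a', b'⟩ h
    have h2 : ph (WL w) a * zb z b = ph (WL w) a' * zb z b' := congrArg Subtype.val h
    have h3 : (a : ℕ) = a' := by
      apply D.injW Q a a.2 a' a'.2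
      have := congrArg π h2
      rw [Q.zb, Q.zb, map_ph, map_ph] at this
      exact this
    rw [h3] at h2
    have h4 := mul_left_cancel h2
    have h5 : b = b' := by
      cases b <;> cases b'
      · rfl
      · exact absurd h4.symm (by simpa [zb] using D.z1)
      · exact absurd h4 (by simpa [zb] using D.z1)
      · rfl
    rw [h5, Fin.ext h3]
  · rintro ⟨g, hg⟩
    obtain ⟨v, hv, b, rfl⟩ := (mem_MM D Q).1 hg
    exact ⟨(⟨v, hv⟩, b), rfl⟩

theorem SS_idx_aux (D : CD z w) (Q : Quo z π) {a b : C} (ha : a ∈ SS D Q) {m : List ℕ} (hm : m ∈ SL)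
    (h1 : Act π w a m) (h2 : Act π w b m) : a⁻¹ * b ∈ MM D Q := by
  obtain ⟨m', hm', h3⟩ := (SS D Q).inv_mem ha
  have h4 := h3.mul D Q h1
  rw [inv_mul_cancel] at h4
  have h5 := h4.uniq D Q (mulM_lt (SL_getlt hm)) idM_lt Act.one
  apply mem_MM_of_act D Q
  have h6 := h3.mul D Q h2
  rwa [h5] at h6

theorem card_SS_le (D : CD z w) (Q : Quo z π) : Nat.card (SS D Q) ≤ 2 ^ 18 := by
  classical
  have h1 := Subgroup.card_eq_card_quotient_mul_card_subgroup ((MM D Q).subgroupOf (SS D Q))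
  have h2 : Nat.card ((MM D Q).subgroupOf (SS D Q)) = 2048 := by
    rw [← card_MM D Q]
    exact Nat.card_congr (Subgroup.subgroupOfEquivOfLe (MM_le_SS D Q)).toEquiv
  have h3 : Nat.card (SS D Q ⧸ (MM D Q).subgroupOf (SS D Q)) ≤ 128 := by
    have hρ : ∀ g : SS D Q, ∃ m ∈ SL, Act π w g m := fun g => g.2
    choose ρ hρ1 hρ2 using hρ
    let f : (SS D Q ⧸ (MM D Q).subgroupOf (SS D Q)) → SL.toFinset := fun q =>
      ⟨ρ q.out, List.mem_toFinset.2 (hρ1 _)⟩
    have hf : Function.Injective f := by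
      intro p q hpq
      have h4 : ρ p.out = ρ q.out := congrArg Subtype.val hpq
      rw [← QuotientGroup.out_eq' p, ← QuotientGroup.out_eq' q, QuotientGroup.eq, Subgroup.mem_subgroupOf]
      exact SS_idx_aux D Q p.out.2 (hρ1 _) (hρ2 _) (by rw [h4]; exact hρ2 _)
    have h5 := Nat.card_le_card_of_injective f hf
    have h6 : Nat.card SL.toFinset ≤ 128 := by
      rw [Nat.card_eq_fintype_card, Fintype.card_coe, ← SL_len]
      exact List.toFinset_card_le _
    exact h5.trans h6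
  rw [h1, h2]
  calc _ ≤ 128 * 2048 := Nat.mul_le_mul_right _ h3
    _ = 2 ^ 18 := by norm_num

theorem SS_pow (D : CD z w) (Q : Quo z π) {g : C} (hg : g ∈ SS D Q) : g ^ 2 ^ 5 = 1 := by
  obtain ⟨m, hm, h⟩ := hg
  have h1 := h.mul D Q h
  have h2 := h1.mul D Q h1
  have h3 := h2.mul D Q h2
  rw [SL_exp m hm] at h3
  have h4 := mem_MM_of_act D Q h3
  obtain ⟨v, hv, b, h5⟩ := (mem_MM D Q).1 h4
  have h6 : (ph (WL w) v * zb z b) * (ph (WL w) v * zb z b) = zb z (sqf tails v) := by
    have h7 := sq_ph D.zz D.zc D.tc v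
    calc _ = ph (WL w) v * (zb z b * ph (WL w) v) * zb z b := by group
      _ = (ph (WL w) v * ph (WL w) v) * (zb z b * zb z b) := by rw [← D.zbc]; group
      _ = zb z (sqf tails v) := by rw [h7, ← zb_xor D.zz, Bool.xor_self]; simp [zb]
  have h8 : g ^ 2 ^ 5 = ((g * g * (g * g) * (g * g * (g * g))) * (g * g * (g * g) * (g * g * (g * g)))) *
      ((g * g * (g * g) * (g * g * (g * g))) * (g * g * (g * g) * (g * g * (g * g)))) := by
    simp only [← pow_two, ← pow_mul]
    norm_num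
  rw [h8, h5, h6, ← zb_xor D.zz, Bool.xor_self]
  rfl

theorem SS_pgroup (D : CD z w) (Q : Quo z π) : IsPGroup 2 (SS D Q) := fun g =>
  ⟨5, Subtype.ext (SS_pow D Q g.2)⟩

/-- Weak closure of `M` in `S`. -/
theorem weakC (D : CD z w) (Q : Quo z π) (c : C) (h : ∀ g ∈ MM D Q, c⁻¹ * g * c ∈ SS D Q) :
    ∀ g ∈ MM D Q, c⁻¹ * g * c ∈ MM D Q := by
  have hW := D.elW Q
  set K : Subgroup H := (MH (WB π w) hW).map (MulAut.conj (π c)⁻¹).toMonoidHom with hK
  have hmem : ∀ k ∈ K, ∃ v < 1024, k = (π c)⁻¹ * ph (WB π w) v * π c := by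
    rintro k ⟨y, ⟨v, hv, rfl⟩, rfl⟩
    exact ⟨v, hv, by simp only [_root_.map_inv, _root_.MulEquiv.toMonoidHom_eq_coe, _root_.MonoidHom.coe_coe, _root_.MulAut.inv_apply, _root_.MulAut.conj_symm_apply]⟩
  have hcardMH : Nat.card (MH (WB π w) hW) = 1024 := by
    have h1 : Nat.card (Fin 1024) = 1024 := by simp
    rw [← h1]
    symm
    refine Nat.card_congr (Equiv.ofBijective (fun v => ⟨ph (WB π w) v, v, v.2, rfl⟩) ⟨?_, ?_⟩)
    · intro a b hab
      exact Fin.ext (D.injW Q a a.2 b b.2 (congrArg Subtype.val hab))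
    · rintro ⟨g, v, hv, rfl⟩
      exact ⟨⟨v, hv⟩, rfl⟩
  have hw := weak hW WB_length (D.injW Q) ?_ K ?_ ?_ ?_ ?_
  · intro g hg
    obtain ⟨v, hv, hgv⟩ := hg
    have h1 : (π c)⁻¹ * ph (WB π w) v * π c ∈ K := ⟨ph (WB π w) v, ⟨v, hv, rfl⟩, by simp only [_root_.map_inv, _root_.MulEquiv.toMonoidHom_eq_coe, _root_.MonoidHom.coe_coe, _root_.MulAut.inv_apply, _root_.MulAut.conj_symm_apply]⟩
    have h2 := hw h1
    change π (c⁻¹ * g * c) ∈ MH (WB π w) hW
    rw [map_mul, map_mul, map_inv, hgv]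
    exact h2
  · intro k hk
    obtain ⟨g, rfl⟩ := Q.surj k
    obtain ⟨v, hv, b, h1⟩ := (mem_MM D Q).1 (mem_MM_of_act D Q hk)
    exact ⟨v, hv, by rw [h1, Q.zb, map_ph]; rfl⟩
  · intro k hk
    obtain ⟨v, hv, rfl⟩ := hmem k hk
    have h1 := h (ph (WL w) v) ((mem_MM D Q).2 ⟨v, hv, false, by simp [zb]⟩)
    obtain ⟨m, hm, h2⟩ := h1
    refine ⟨m, hm, ?_⟩
    unfold Act at h2
    rw [map_mul, map_mul, map_inv, map_ph] at h2
    exact h2
  · intro a ha b hb
    obtain ⟨u, _, rfl⟩ := hmem a ha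
    obtain ⟨v, _, rfl⟩ := hmem b hb
    have := hW.ph_comm u v
    calc (π c)⁻¹ * ph (WB π w) u * π c * ((π c)⁻¹ * ph (WB π w) v * π c)
        = (π c)⁻¹ * (ph (WB π w) u * ph (WB π w) v) * π c := by group
      _ = _ := by rw [this]; group
  · intro a ha
    obtain ⟨u, _, rfl⟩ := hmem a ha
    calc (π c)⁻¹ * ph (WB π w) u * π c * ((π c)⁻¹ * ph (WB π w) u * π c)
        = (π c)⁻¹ * (ph (WB π w) u * ph (WB π w) u) * π c := by group
      _ = 1 := by rw [hW.ph_sq]; group
  · rw [hK, ← hcardMH]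
    exact Subgroup.card_map_of_injective (MulEquiv.injective _)

end

end Cfsg.Agent.StdO8.Shadow
end

-- part: StdO8/ShadowInC
section
/-!
# From the data in `G` to the centraliser of `z`
-/

set_option autoImplicit false

namespace Cfsg.Agent.StdO8.Shadow

universe u

variable {G : Type u} [Group G] {t x z x' : G} {e s n : ℕ → G}

/-- The centraliser of `z`. -/
abbrev Cz (z : G) : Subgroup G := Subgroup.centralizer ({z} : Set G)

theorem mem_Cz {g : G} : g ∈ Cz z ↔ g * z = z * g := Subgroup.mem_centralizer_singleton_iff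

/-- The ten generators. -/
def wG (t x : G) (e : ℕ → G) : ℕ → G
  | 0 => t
  | 1 => x
  | 2 => e 0
  | 3 => e 1
  | 4 => e 2
  | 5 => e 3
  | 6 => e 4
  | 7 => e 5
  | 8 => e 6
  | 9 => e 7
  | _ => 1

theorem wG_e {k : ℕ} (hk : k < 8) : wG t x e (k + 2) = e k := by
  interval_cases k <;> rfl

theorem Base.wG_mem (B : Base t x z e s n x') (i : ℕ) : wG t x e i ∈ Cz z := by
  rw [mem_Cz]
  match i with
  | 0 => exact B.zt.symm
  | 1 => exact B.zx.symm
  | 2 => exact (B.ze 0 (by norm_num)).symm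
  | 3 => exact (B.ze 1 (by norm_num)).symm
  | 4 => exact (B.ze 2 (by norm_num)).symm
  | 5 => exact (B.ze 3 (by norm_num)).symm
  | 6 => exact (B.ze 4 (by norm_num)).symm
  | 7 => exact (B.ze 5 (by norm_num)).symm
  | 8 => exact (B.ze 6 (by norm_num)).symm
  | 9 => exact (B.ze 7 (by norm_num)).symm
  | k + 10 => simp [wG]

/-- The generators in the centraliser. -/
def Base.wC (B : Base t x z e s n x') (i : ℕ) : Cz z := ⟨wG t x e i, B.wG_mem i⟩

/-- `z` in the centraliser. -/
def zC (z : G) : Cz z := ⟨z, mem_Cz.2 rfl⟩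

theorem Base.xt (B : Base t x z e s n x') : x * t = t * x * z := by
  rw [B.tx, mul_assoc, B.zz, mul_one]

theorem Base.cmG (B : Base t x z e s n x') : ∀ i < 10, ∀ j < 10,
    wG t x e i * wG t x e j = wG t x e j * wG t x e i * (if j = pr i then z else 1) := by
  intro i hi j hj
  match i, j with
  | 0, 0 => simp [pr]
  | 0, 1 => simpa only [pr, wG, _root_.List.getD_eq_getElem?_getD, _root_.List.length_cons, _root_.List.length_nil, _root_.zero_add, _root_.Nat.reduceAdd, _root_.Nat.ofNat_pos, _root_.getElem?_pos, _root_.List.getElem_cons_zero, _root_.Option.getD_some, ↓ _root_.reduceIte] using B.tx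
  | 1, 0 => simpa only [pr, wG, _root_.List.getD_eq_getElem?_getD, _root_.List.length_cons, _root_.List.length_nil, _root_.zero_add, _root_.Nat.reduceAdd, _root_.Nat.one_lt_ofNat, _root_.getElem?_pos, _root_.List.getElem_cons_succ, _root_.List.getElem_cons_zero, _root_.Option.getD_some, ↓ _root_.reduceIte] using B.xt
  | 1, 1 => simp [pr]
  | 0, l + 2 =>
    rw [wG_e (by omega)]
    simpa only [pr, wG, _root_.List.getD_eq_getElem?_getD, _root_.List.length_cons, _root_.List.length_nil, _root_.zero_add, _root_.Nat.reduceAdd, _root_.Nat.ofNat_pos, _root_.getElem?_pos, _root_.List.getElem_cons_zero, _root_.Option.getD_some, _root_.Nat.reduceEqDiff, ↓ _root_.reduceIte, _root_.mul_one] using B.te l (by omega)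
  | 1, l + 2 =>
    rw [wG_e (by omega)]
    simpa only [pr, wG, _root_.List.getD_eq_getElem?_getD, _root_.List.length_cons, _root_.List.length_nil, _root_.zero_add, _root_.Nat.reduceAdd, _root_.Nat.one_lt_ofNat, _root_.getElem?_pos, _root_.List.getElem_cons_succ, _root_.List.getElem_cons_zero, _root_.Option.getD_some, _root_.Nat.add_eq_zero_iff, _root_.OfNat.ofNat_ne_zero, _root_.and_false, ↓ _root_.reduceIte, _root_.mul_one] using B.xe l (by omega)
  | k + 2, 0 =>
    have h : ¬ 0 = pr (k + 2) := by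
      have : ∀ k < 8, ¬ 0 = pr (k + 2) := by decide
      exact this k (by omega)
    rw [wG_e (by omega), if_neg h, mul_one]
    exact (B.te k (by omega)).symm
  | k + 2, 1 =>
    have h : ¬ 1 = pr (k + 2) := by
      have : ∀ k < 8, ¬ 1 = pr (k + 2) := by decide
      exact this k (by omega)
    rw [wG_e (by omega), if_neg h, mul_one]
    exact (B.xe k (by omega)).symm
  | k + 2, l + 2 =>
    rw [wG_e (by omega), wG_e (by omega)]
    have h : (l + 2 = pr (k + 2)) ↔ l = 7 - k := by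
      have : ∀ k < 8, ∀ l < 8, (l + 2 = pr (k + 2)) ↔ l = 7 - k := by decide
      exact this k (by omega) l (by omega)
    by_cases hl : l = 7 - k
    · rw [if_pos (h.2 hl), hl]
      exact B.ed k (by omega)
    · rw [if_neg (fun h' => hl (h.1 h')), mul_one]
      exact B.ec k (by omega) l (by omega) hl

theorem Base.centG (B : Base t x z e s n x') {g : G} (h : ∀ i < 10, g * wG t x e i = wG t x e i * g) :
    g = 1 ∨ g = z := by
  have h0 := h 0 (by norm_num)
  have h1 := h 1 (by norm_num)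
  change g * t = t * g at h0
  change g * x = x * g at h1
  rcases B.cQ g h0 (fun S hS => by have := h (S + 2) (by omega); rwa [wG_e hS] at this) with h | h | h | h
  · exact Or.inl h
  · exfalso
    rw [h, B.tx] at h1
    exact B.z_ne (mul_left_cancel (h1.trans (mul_one _).symm))
  · exact Or.inr h
  · exfalso
    rw [h] at h1
    have h2 : t * z * x = x * (t * z) * z := by
      calc t * z * x = (t * x) * z := by rw [mul_assoc, B.zx, ← mul_assoc]
        _ = x * (t * z) * z := by rw [B.tx]; simp only [mul_assoc]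
    rw [h2] at h1
    exact B.z_ne (mul_left_cancel (h1.trans (mul_one _).symm))

theorem Base.cd (B : Base t x z e s n x') : CD (zC z) B.wC where
  zz := Subtype.ext B.zz
  z1 := fun h => B.z_ne (congrArg Subtype.val h)
  zc := fun g => Subtype.ext (mem_Cz.1 g.2)
  sq := by
    intro i hi
    apply Subtype.ext
    change wG t x e i * wG t x e i = 1
    match i with
    | 0 => exact B.tt
    | 1 => exact B.xx
    | k + 2 => rw [wG_e (by omega)]; exact B.ee k (by omega)
  cm := by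
    intro i hi j hj
    apply Subtype.ext
    have := B.cmG i hi j hj
    by_cases h : j = pr i
    · simp only [h, if_true] at this
      simpa only [zb, h, zC, Base.wC, _root_.MulMemClass.mk_mul_mk, _root_.decide_true, ↓ _root_.reduceIte] using this
    · simp only [h, if_false] at this
      simpa only [zb, h, zC, Base.wC, _root_.MulMemClass.mk_mul_mk, _root_.decide_false, _root_.Bool.false_eq_true, ↓ _root_.reduceIte, _root_.mul_one] using this
  cent := by
    intro g hg
    rcases B.centG (g := g) (fun i hi => congrArg Subtype.val (hg i hi)) with h | h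
    · exact Or.inl (Subtype.ext h)
    · exact Or.inr (Subtype.ext h)

instance zpowers_normal (z : G) : (Subgroup.zpowers (zC z)).Normal := by
  constructor
  intro a ha g
  obtain ⟨k, rfl⟩ := Subgroup.mem_zpowers_iff.1 ha
  have h1 : g * zC z = zC z * g := Subtype.ext (mem_Cz.1 g.2)
  have h2 : Commute g (zC z ^ k) := (show Commute g (zC z) from h1).zpow_right k
  rw [h2.eq, mul_inv_cancel_right]
  exact ha

/-- The quotient map. -/
abbrev piz (z : G) : Cz z →* Cz z ⧸ Subgroup.zpowers (zC z) := QuotientGroup.mk' _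

theorem quo (zz : z * z = 1) : Quo (zC z) (piz z) where
  surj := QuotientGroup.mk'_surjective _
  eq_iff := by
    intro a b
    have hz : ∀ g : Cz z, g ∈ Subgroup.zpowers (zC z) ↔ g = 1 ∨ g = zC z := by
      intro g
      constructor
      · intro h
        obtain ⟨k, rfl⟩ := Subgroup.mem_zpowers_iff.1 h
        have h2 : zC z ^ (2 : ℤ) = 1 := by
          apply Subtype.ext
          change z ^ (2 : ℤ) = 1
          rw [zpow_two, zz]
        rcases Int.even_or_odd' k with ⟨m, hm | hm⟩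
        · left; rw [hm, zpow_mul, h2, one_zpow]
        · right; rw [hm, zpow_add, zpow_mul, h2, one_zpow, one_mul, zpow_one]
      · rintro (rfl | rfl)
        · exact Subgroup.one_mem _
        · exact Subgroup.mem_zpowers _
    change (a : Cz z ⧸ Subgroup.zpowers (zC z)) = b ↔ _
    rw [QuotientGroup.eq, hz]
    have hzz : zC z * zC z = 1 := Subtype.ext zz
    constructor
    · rintro (h | h)
      · left; rw [inv_mul_eq_one] at h; exact h
      · right
        rw [inv_mul_eq_iff_eq_mul] at h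
        rw [h, mul_assoc, hzz, mul_one]
    · rintro (h | h)
      · left; rw [h, inv_mul_cancel]
      · right
        rw [h, mul_inv_rev, mul_assoc, inv_mul_cancel, mul_one]
        exact inv_eq_of_mul_eq_one_left hzz

end Cfsg.Agent.StdO8.Shadow
end

private theorem dce_ee354ca1e2fc : _root_.True := by
  try have : _root_.True := by simp only [_root_.Cfsg.Agent.StdO8.Shadow.wG.eq_3]
  try have : _root_.True := by simp only [_root_.Cfsg.Agent.StdO8.Shadow.ph.eq_def]
  try have : _root_.True := by simp only [_root_.Cfsg.Agent.StdO8.Shadow.cnt.eq_def]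
  try have : _root_.True := by simp only [_root_.Cfsg.Agent.StdO8.Shadow.cnt.eq_1]
  try have : _root_.True := by simp only [_root_.Cfsg.Agent.StdO8.Shadow.wG.eq_11]
  try have : _root_.True := by simp only [_root_.Cfsg.Agent.StdO8.Shadow.ph.eq_1]
  try have : _root_.True := by simp only [_root_.Cfsg.Agent.StdO8.Shadow.pr.eq_1]
  try have : _root_.True := by simp only [_root_.Cfsg.Agent.StdO8.Shadow.TC._sparseCasesOn_2.else_eq]
  try have : _root_.True := by simp only [_root_.Cfsg.Agent.StdO8.Shadow.par.eq_2]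
  try have : _root_.True := by simp only [_root_.Cfsg.Agent.StdO8.Shadow.wG.eq_1]
  try have : _root_.True := by simp only [_root_.Cfsg.Agent.StdO8.Shadow.sqf.eq_1]
  try have : _root_.True := by simp only [_root_.Cfsg.Agent.StdO8.Shadow.sqf.eq_2]
  try have : _root_.True := by simp only [_root_.Cfsg.Agent.StdO8.Shadow.idM.eq_1]
  try have : _root_.True := by simp only [_root_.Cfsg.Agent.StdO8.Shadow.par.eq_def]
  try have : _root_.True := by simp only [_root_.Cfsg.Agent.StdO8.Shadow.TC._sparseCasesOn_1.else_eq]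
  try have : _root_.True := by simp only [_root_.Cfsg.Agent.StdO8.Shadow.WL.eq_1]
  try have : _root_.True := by simp only [_root_.Cfsg.Agent.StdO8.Shadow.Base.wC.eq_1]
  try have : _root_.True := by simp only [_root_.Cfsg.Agent.StdO8.Shadow.wG.eq_6]
  try have : _root_.True := by simp only [_root_.Cfsg.Agent.StdO8.Shadow.cnt.eq_2]
  try have : _root_.True := by simp only [_root_.Cfsg.Agent.StdO8.Shadow.ActH.eq_1]
  try have : _root_.True := by simp only [_root_.Cfsg.Agent.StdO8.Shadow.ph.eq_2]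
  try have : _root_.True := by simp only [_root_.Cfsg.Agent.StdO8.Shadow.gs.eq_1]
  try have : _root_.True := by simp only [_root_.Cfsg.Agent.StdO8.Shadow.WB.eq_1]
  try have : _root_.True := by simp only [_root_.Cfsg.Agent.StdO8.Shadow.wG.eq_2]
  try have : _root_.True := by simp only [_root_.Cfsg.Agent.StdO8.Shadow.TC.eq_def]
  try have : _root_.True := by simp only [_root_.Cfsg.Agent.StdO8.Shadow.par.eq_1]
  try have : _root_.True := by simp only [_root_.Cfsg.Agent.StdO8.Shadow.zb.eq_1]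
  try have : _root_.True := by simp only [_root_.Cfsg.Agent.StdO8.Shadow.wG.eq_4]
  try have : _root_.True := by simp only [_root_.Cfsg.Agent.StdO8.Shadow.TC.eq_3]
  try have : _root_.True := by simp only [_root_.Cfsg.Agent.StdO8.Shadow.wG.eq_8]
  try have : _root_.True := by simp only [_root_.Cfsg.Agent.StdO8.Shadow.wG.eq_10]
  try have : _root_.True := by simp only [_root_.Cfsg.Agent.StdO8.Shadow.sqf.eq_def]
  try have : _root_.True := by simp only [_root_.Cfsg.Agent.StdO8.Shadow.TC.eq_2]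
  try have : _root_.True := by simp only [_root_.Cfsg.Agent.StdO8.Shadow.wG.eq_9]
  try have : _root_.True := by simp only [_root_.Cfsg.Agent.StdO8.Shadow.wG.eq_7]
  try have : _root_.True := by simp only [_root_.Cfsg.Agent.StdO8.Shadow.wG.eq_5]
  try have : _root_.True := by simp only [_root_.Cfsg.Agent.StdO8.Shadow.TC.eq_1]
  try have : _root_.True := by simp only [_root_.Cfsg.Agent.StdO8.Shadow.zC.eq_1]
  exact _root_.True.intro
end

-- part: StdSpSix/Words
section
set_option linter.all false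
open scoped Cfsg.Agent.FastGrp

-- part: StdSpSix/Model
section
/-!
# Every `SpData` with 64 vectors is isomorphic to the concrete one

So all facts proved for `S = symplecticGroup (Fin 3) (ZMod 2)` (`SporRec/TwoSp6/{Sp,Invol}`) transfer.
-/

set_option autoImplicit false

namespace Cfsg.Agent.StdSpSix.Model

open Cfsg.Agent.StandardComponent.SpTwo
open Cfsg.Agent.SporRec.TwoSp6
open Cfsg.Agent.ClassicalGeometry.SympBasic

variable {X V : Type*} [Group X] [AddCommGroup V] [Module (ZMod 2) V]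

/-- A coordinate system of a `SpData`: an isomorphism `e` from the concrete group and an isometry `f`. -/
structure Coord (D : SpData X V) where
  e : Sp.S ≃* X
  f : Sp.V ≃ₗ[ZMod 2] V
  act : ∀ g v, D.ρ (e g) (f v) = f (Sp.act g v)
  om : ∀ u v, D.B (f u) (f v) = Sp.om u v
  tr : ∀ u, e (Sp.tr u) = D.τ (f u)

theorem exists_iso (D : SpData X V) (hV : Nat.card V = 64) :
    ∃ f : Sp.V ≃ₗ[ZMod 2] V, ∀ u v, D.B (f u) (f v) = Sp.om u v := by
  have : Finite V := Nat.finite_of_card_ne_zero (by rw [hV]; norm_num)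
  have hfin : Module.Finite (ZMod 2) V := Module.Finite.of_finite
  have hr : Module.finrank (ZMod 2) V = 2 * 3 := by
    have := Fintype.ofFinite V
    have h := Module.card_eq_pow_finrank (K := ZMod 2) (V := V)
    rw [← Nat.card_eq_fintype_card, hV, ZMod.card] at h
    have h2 : (2 : ℕ) ^ Module.finrank (ZMod 2) V = 2 ^ 6 := by rw [← h]; norm_num
    exact Nat.pow_right_injective le_rfl h2
  exact Cfsg.Agent.ClassicalGeometry.SympIso.exists_linearEquiv_sympForm (D.B : LinearMap.BilinForm (ZMod 2) V) D.alt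
    D.nondeg hr

/-- Every isometry of the concrete space is given by an element of the concrete group. -/
theorem exists_of_isometry (φ : Sp.V →ₗ[ZMod 2] Sp.V) (h : ∀ u v, Sp.om (φ u) (φ v) = Sp.om u v) :
    ∃ g : Sp.S, ∀ v, Sp.act g v = φ v := by
  refine ⟨⟨LinearMap.toMatrix' φ, mem_symplecticGroup_iff.2 fun u v => ?_⟩, fun v => ?_⟩
  · rw [LinearMap.toMatrix'_mulVec, LinearMap.toMatrix'_mulVec]
    exact h u v
  · change Matrix.mulVec (LinearMap.toMatrix' φ) v = φ v
    rw [LinearMap.toMatrix'_mulVec]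

theorem exists_coord (D : SpData X V) (hV : Nat.card V = 64) : Nonempty (Coord D) := by
  classical
  obtain ⟨f, hf⟩ := exists_iso D hV
  -- an element of the concrete group acts as an element of `X`
  have h1 : ∀ g : Sp.S, ∃ x : X, ∀ v, D.ρ x (f v) = f (Sp.act g v) := by
    intro g
    have hg : g ∈ Subgroup.closure (Set.range fun i => Sp.tr (Sp.v i)) := by
      rw [Sp.closure_v]; exact Subgroup.mem_top g
    induction hg using Subgroup.closure_induction with
    | mem g hg =>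
      obtain ⟨i, rfl⟩ := hg
      refine ⟨D.τ (f (Sp.v i)), fun v => ?_⟩
      rw [D.hτ, hf, Sp.act_tr, map_add, map_smul, Sp.om_symm]
    | one => exact ⟨1, fun v => by rw [D.ρ_one, Sp.act_one]⟩
    | mul g h _ _ hg hh =>
      obtain ⟨x, hx⟩ := hg
      obtain ⟨y, hy⟩ := hh
      exact ⟨x * y, fun v => by rw [D.ρ_mul, hy, hx, Sp.act_mul]⟩
    | inv g _ hg =>
      obtain ⟨x, hx⟩ := hg
      refine ⟨x⁻¹, fun v => ?_⟩
      have h2 : f v = D.ρ x (f (Sp.act g⁻¹ v)) := by
        rw [hx, ← Sp.act_mul, mul_inv_cancel, Sp.act_one]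
      rw [h2, D.ρ_inv_apply]
  choose φ hφ using h1
  have hmul : ∀ g h, φ (g * h) = φ g * φ h := by
    intro g h
    apply D.ext_iff
    intro v
    obtain ⟨w, rfl⟩ := f.surjective v
    rw [hφ, D.ρ_mul, hφ, hφ, Sp.act_mul]
  have hinj : Function.Injective φ := by
    intro g h hgh
    apply Sp.act_ext
    intro v
    apply f.injective
    rw [← hφ, ← hφ, hgh]
  have hsurj : Function.Surjective φ := by
    intro x
    obtain ⟨g, hg⟩ := exists_of_isometry (f.symm.toLinearMap ∘ₗ D.ρ x ∘ₗ f.toLinearMap) (by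
      intro u v
      rw [← hf]
      change D.B (f (f.symm (D.ρ x (f u)))) (f (f.symm (D.ρ x (f v)))) = _
      rw [f.apply_symm_apply, f.apply_symm_apply, D.inv, hf])
    refine ⟨g, ?_⟩
    apply D.ext_iff
    intro v
    obtain ⟨w, rfl⟩ := f.surjective v
    rw [hφ, hg]
    change f (f.symm (D.ρ x (f w))) = _
    rw [f.apply_symm_apply]
  refine ⟨{ e := MulEquiv.ofBijective (⟨⟨φ, ?_⟩, hmul⟩ : Sp.S →* X) ⟨hinj, hsurj⟩, f := f, act := hφ, om := hf, tr := ?_ }⟩
  · have h2 : φ 1 * φ 1 = φ 1 := by rw [← hmul, one_mul]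
    exact mul_eq_left.1 h2
  · intro u
    apply D.ext_iff
    intro v
    obtain ⟨w, rfl⟩ := f.surjective v
    change D.ρ (φ (Sp.tr u)) (f w) = _
    rw [hφ, Sp.act_tr, D.hτ, hf, map_add, map_smul, Sp.om_symm]

end Cfsg.Agent.StdSpSix.Model
end

-- part: StdSpSix/Words
section
/-!
# Words in coded transvections

`W ks` = product of the transvections with codes `ks` in the concrete `Sp₆(2)`; two words are equal as soon as they
act in the same way on the 64 codes (`W_eq`, by `decide`).  Codes: `1,2,4` span a t.i. plane, `8,16,32` are dual.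
Normal forms: `b1 = W [1]`, `c2 = W [1,2]`, `a2 = W [1,2,3]`, `b3 = W [1,2,4]`.
-/

set_option autoImplicit false

namespace Cfsg.Agent.StdSpSix.Words

open Cfsg.Agent.StandardComponent.SpTwo
open Cfsg.Agent.SporRec.TwoSp6

/-- The transvection with code `k` on codes. -/
def tc (k c : ℕ) : ℕ := if Sp.fN c k then c ^^^ k else c

theorem act_tc (k c : ℕ) : Sp.act (Sp.tr (Sp.enc k)) (Sp.enc c) = Sp.enc (tc k c) := by
  rw [Sp.act_tr, Sp.om_enc]
  unfold tc
  by_cases h : Sp.fN c k
  · rw [if_pos h, if_pos h, one_smul, Sp.enc_xor]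
  · rw [if_neg h, if_neg h, zero_smul, add_zero]

/-- A word on codes. -/
def wc (ks : List ℕ) (c : ℕ) : ℕ := ks.foldr tc c

/-- A word in the concrete group. -/
noncomputable def W (ks : List ℕ) : Sp.S := (ks.map fun k => Sp.tr (Sp.enc k)).prod

theorem W_nil : W [] = 1 := rfl

theorem W_cons (k : ℕ) (ks : List ℕ) : W (k :: ks) = Sp.tr (Sp.enc k) * W ks := by
  unfold W; rw [List.map_cons, List.prod_cons]

theorem W_append (ks ls : List ℕ) : W (ks ++ ls) = W ks * W ls := by
  unfold W; rw [List.map_append, List.prod_append]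

theorem act_W (ks : List ℕ) (c : ℕ) : Sp.act (W ks) (Sp.enc c) = Sp.enc (wc ks c) := by
  induction ks with
  | nil => rw [W_nil, Sp.act_one]; rfl
  | cons k ks ih =>
    rw [W_cons, Sp.act_mul, ih, act_tc]; rfl

theorem W_eq {ks ls : List ℕ} (h : ∀ c < 64, wc ks c = wc ls c) : W ks = W ls := by
  apply Sp.act_ext
  intro x
  obtain ⟨c, hc, rfl⟩ := Sp.exists_enc x
  rw [act_W, act_W, h c hc]

theorem W_inv (ks : List ℕ) : (W ks)⁻¹ = W ks.reverse := by
  rw [inv_eq_iff_mul_eq_one]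
  induction ks with
  | nil => rw [W_nil, one_mul]; rfl
  | cons k ks ih =>
    rw [List.reverse_cons, W_append, W_cons, W_cons, W_nil, mul_one]
    calc Sp.tr (Sp.enc k) * W ks * (W ks.reverse * Sp.tr (Sp.enc k))
        = Sp.tr (Sp.enc k) * (W ks * W ks.reverse) * Sp.tr (Sp.enc k) := by group
      _ = 1 := by rw [ih, mul_one, Sp.tr_sq]

theorem W_commute {ks ls : List ℕ} (h : ∀ c < 64, wc (ks ++ ls) c = wc (ls ++ ks) c) : Commute (W ks) (W ls) := by
  change W ks * W ls = W ls * W ks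
  rw [← W_append, ← W_append]
  exact W_eq h

/-! ### the four classes of involutions -/

variable {X V : Type*} [Group X] [AddCommGroup V] [Module (ZMod 2) V] (D : SpData X V)

/-- transvections -/
def IsB1 (x : X) : Prop := ∃ u, u ≠ 0 ∧ x = D.τ u

/-- products of two commuting transvections -/
def IsC2 (x : X) : Prop := ∃ u w, u ≠ 0 ∧ w ≠ 0 ∧ w ≠ u ∧ D.B u w = 0 ∧ x = D.τ u * D.τ w

/-- products of the three transvections of a t.i. line -/
def IsA2 (x : X) : Prop := ∃ u w, u ≠ 0 ∧ w ≠ 0 ∧ w ≠ u ∧ D.B u w = 0 ∧ x = D.τ u * D.τ w * D.τ (u + w)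

/-- products of three independent commuting transvections -/
def IsB3 (x : X) : Prop := ∃ u w t, (u ≠ 0 ∧ w ≠ 0 ∧ w ≠ u ∧ t ≠ 0 ∧ t ≠ u ∧ t ≠ w ∧ t ≠ u + w) ∧
  (D.B u w = 0 ∧ D.B u t = 0 ∧ D.B w t = 0) ∧ x = D.τ u * D.τ w * D.τ t

theorem ne_of_enc {c d : ℕ} (hc : c < 64) (hd : d < 64) (h : c ≠ d) : Sp.enc c ≠ Sp.enc d := by
  have key : ∀ c < 64, (fun v : Sp.V => (v (.inl 0)).val + 2 * (v (.inl 1)).val + 4 * (v (.inl 2)).val + 8 * (v (.inr 0)).val +
      16 * (v (.inr 1)).val + 32 * (v (.inr 2)).val) (Sp.enc c) = c := by decide +kernel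
  intro h'
  exact h ((key c hc).symm.trans (h' ▸ key d hd))

theorem enc_zero : Sp.enc 0 = 0 := by decide

section
variable {D} (K : Model.Coord D)

/-- a word in `X` -/
noncomputable def w (ks : List ℕ) : X := K.e (W ks)

theorem e_tr (u : Sp.V) : K.e (Sp.tr u) = D.τ (K.f u) := K.tr u

theorem B_f (u v : Sp.V) : D.B (K.f u) (K.f v) = Sp.om u v := K.om u v

theorem f_ne {u v : Sp.V} : K.f u ≠ K.f v ↔ u ≠ v := K.f.injective.ne_iff

/-- Every involution is conjugate to one of the four normal forms. -/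
theorem exists_conj {x : X} (hx : x * x = 1) (h1 : x ≠ 1) :
    (IsB1 D x ∧ ∃ g, g * x * g⁻¹ = w K [1]) ∨ (IsC2 D x ∧ ∃ g, g * x * g⁻¹ = w K [1, 2]) ∨
    (IsA2 D x ∧ ∃ g, g * x * g⁻¹ = w K [1, 2, 3]) ∨ (IsB3 D x ∧ ∃ g, g * x * g⁻¹ = w K [1, 2, 4]) := by
  obtain ⟨y, rfl⟩ := K.e.surjective x
  have hy : y * y = 1 := by
    apply K.e.injective
    rw [map_mul, hx, map_one]
  have hy1 : y ≠ 1 := by
    rintro rfl
    exact h1 (map_one _)
  have key : ∀ {z : Sp.S} {g : Sp.S}, g * y * g⁻¹ = z → ∃ g : X, g * K.e y * g⁻¹ = K.e z := by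
    intro z g hg
    exact ⟨K.e g, by rw [← hg, map_mul, map_mul, map_inv]⟩
  have c1 : Sp.enc 1 ≠ 0 := by decide
  have c2 : Sp.enc 2 ≠ 0 := by decide
  have c21 : Sp.enc 2 ≠ Sp.enc 1 := by decide
  have c12 : Sp.om (Sp.enc 1) (Sp.enc 2) = 0 := by decide
  rcases Invol.classify hy hy1 with ⟨u, hu, rfl⟩ | ⟨u, v, hu, hv, hvu, huv, rfl⟩ | ⟨u, v, hu, hv, hvu, huv, rfl⟩ |
    ⟨u, v, t, hI, hO, rfl⟩
  · left
    refine ⟨⟨K.f u, by rw [← map_zero K.f]; exact (f_ne K).2 hu, e_tr K u⟩, ?_⟩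
    obtain ⟨g, hg⟩ := Sp.exists_act hu c1
    apply key (g := g)
    rw [Sp.conj_tr, hg, W_cons, W_nil, mul_one]
  · right; left
    refine ⟨⟨K.f u, K.f v, by rw [← map_zero K.f]; exact (f_ne K).2 hu, by rw [← map_zero K.f]; exact (f_ne K).2 hv,
      (f_ne K).2 hvu, by rw [B_f]; exact huv, by rw [map_mul, e_tr, e_tr]⟩, ?_⟩
    obtain ⟨g, hg1, hg2⟩ := Sp.exists_pair hu hv hvu huv c1 c2 c21 c12
    apply key (g := g)
    have : g * (Sp.tr u * Sp.tr v) * g⁻¹ = (g * Sp.tr u * g⁻¹) * (g * Sp.tr v * g⁻¹) := by group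
    rw [this, Sp.conj_tr, Sp.conj_tr, hg1, hg2, W_cons, W_cons, W_nil, mul_one]
  · right; right; left
    refine ⟨⟨K.f u, K.f v, by rw [← map_zero K.f]; exact (f_ne K).2 hu, by rw [← map_zero K.f]; exact (f_ne K).2 hv,
      (f_ne K).2 hvu, by rw [B_f]; exact huv, by rw [map_mul, map_mul, e_tr, e_tr, e_tr, map_add]⟩, ?_⟩
    obtain ⟨g, hg1, hg2⟩ := Sp.exists_pair hu hv hvu huv c1 c2 c21 c12
    apply key (g := g)
    have : g * (Sp.tr u * Sp.tr v * Sp.tr (u + v)) * g⁻¹ =
        (g * Sp.tr u * g⁻¹) * (g * Sp.tr v * g⁻¹) * (g * Sp.tr (u + v) * g⁻¹) := by group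
    rw [this, Sp.conj_tr, Sp.conj_tr, Sp.conj_tr, Sp.act_add, hg1, hg2, W_cons, W_cons, W_cons, W_nil, mul_one,
      ← Sp.enc_xor, mul_assoc]
    rfl
  · right; right; right
    refine ⟨⟨K.f u, K.f v, K.f t, ⟨?_, ?_, ?_, ?_, ?_, ?_, ?_⟩, ⟨?_, ?_, ?_⟩, by rw [map_mul, map_mul, e_tr, e_tr, e_tr]⟩, ?_⟩
    · rw [← map_zero K.f]; exact (f_ne K).2 hI.1
    · rw [← map_zero K.f]; exact (f_ne K).2 hI.2.1
    · exact (f_ne K).2 hI.2.2.1
    · rw [← map_zero K.f]; exact (f_ne K).2 hI.2.2.2.1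
    · exact (f_ne K).2 hI.2.2.2.2.1
    · exact (f_ne K).2 hI.2.2.2.2.2.1
    · rw [← map_add]; exact (f_ne K).2 hI.2.2.2.2.2.2
    · rw [B_f]; exact hO.1
    · rw [B_f]; exact hO.2.1
    · rw [B_f]; exact hO.2.2
    · obtain ⟨g, hg1, hg2, hg3⟩ := Invol.exists_triple hI hO (u' := Sp.enc 1) (w' := Sp.enc 2) (t' := Sp.enc 4)
        (by decide) (by unfold Invol.Orth; decide)
      apply key (g := g)
      have : g * (Sp.tr u * Sp.tr v * Sp.tr t) * g⁻¹ =
          (g * Sp.tr u * g⁻¹) * (g * Sp.tr v * g⁻¹) * (g * Sp.tr t * g⁻¹) := by group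
      rw [this, Sp.conj_tr, Sp.conj_tr, Sp.conj_tr, hg1, hg2, hg3, W_cons, W_cons, W_cons, W_nil, mul_one, mul_assoc]

end

end Cfsg.Agent.StdSpSix.Words
end

/-! ## The same functions on codes, with fewer reduction steps -/

namespace Cfsg.Agent.StdSpSix.Fast

open Cfsg.Agent.SporRec.TwoSp6 Cfsg.Agent.StdSpSix.Words

/-- the form on codes below 64 -/
def f0 (a b : ℕ) : Bool := Nat.beq (Nat.land (Nat.shiftRight 0x6996966996696996
  (Nat.land a (Nat.lor (Nat.shiftRight b 3) (Nat.shiftLeft (Nat.land b 7) 3)))) 1) 1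

/-- the form on codes -/
def fF (c d : ℕ) : Bool := f0 (Nat.mod c 64) (Nat.mod d 64)

theorem fN_fast : Sp.fN = fF := by
  have key : ((List.range 64).all fun a => (List.range 64).all fun b => Sp.fN a b == f0 a b) = true := by decide +kernel
  funext c d
  have h := eq_of_beq (List.all_eq_true.1 (List.all_eq_true.1 key (c % 2 ^ 6) (List.mem_range.2 (Nat.mod_lt _ (by decide))))
    (d % 2 ^ 6) (List.mem_range.2 (Nat.mod_lt _ (by decide))))
  refine Eq.trans ?_ h
  delta Sp.fN
  simp only [Nat.testBit_mod_two_pow, Nat.reduceLT, decide_true, Bool.true_and]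

/-- the transvection -/
def tcF (k c : ℕ) : ℕ := cond (fF c k) (Nat.xor c k) c

theorem tc_fast : tc = tcF := by
  funext k c
  delta tc tcF
  rw [fN_fast]
  cases fF c k <;> rfl

/-- a word -/
def wcF (ks : List ℕ) (c : ℕ) : ℕ := ks.foldr tcF c

theorem wc_fast : wc = wcF := by
  delta wc wcF
  rw [tc_fast]

theorem fN_xor (a b k : ℕ) : Sp.fN (a ^^^ b) k = (Sp.fN a k ^^ Sp.fN b k) := by
  have h := Sp.om_enc (a ^^^ b) k
  rw [Sp.enc_xor, Sp.om_add', Sp.om_enc, Sp.om_enc] at h
  revert h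
  cases Sp.fN (a ^^^ b) k <;> cases Sp.fN a k <;> cases Sp.fN b k <;> decide

theorem tc_xor (k a b : ℕ) : tc k (a ^^^ b) = tc k a ^^^ tc k b := by
  delta tc
  rw [fN_xor]
  cases Sp.fN a k <;> cases Sp.fN b k <;> refine Nat.eq_of_testBit_eq fun i => ?_
  · rfl
  · show (a ^^^ b ^^^ k).testBit i = (a ^^^ (b ^^^ k)).testBit i
    rw [Nat.xor_assoc]
  · show (a ^^^ b ^^^ k).testBit i = (a ^^^ k ^^^ b).testBit i
    simp only [Nat.testBit_xor]
    cases a.testBit i <;> cases b.testBit i <;> cases k.testBit i <;> rfl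
  · show (a ^^^ b).testBit i = (a ^^^ k ^^^ (b ^^^ k)).testBit i
    simp only [Nat.testBit_xor]
    cases a.testBit i <;> cases b.testBit i <;> cases k.testBit i <;> rfl

theorem wc_xor (a b : ℕ) : ∀ ks : List ℕ, wc ks (a ^^^ b) = wc ks a ^^^ wc ks b
  | [] => rfl
  | k :: ks => (congrArg (tc k) (wc_xor a b ks)).trans (tc_xor k _ _)

/-- equality of two words on the six basis codes -/
def eq6 (ks ls : List ℕ) : Bool := Nat.beq (wcF ks 8) (wcF ls 8) && (Nat.beq (wcF ks 16) (wcF ls 16) &&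
  (Nat.beq (wcF ks 32) (wcF ls 32) && (Nat.beq (wcF ks 1) (wcF ls 1) && (Nat.beq (wcF ks 2) (wcF ls 2) &&
    Nat.beq (wcF ks 4) (wcF ls 4)))))

theorem eq6_iff {ks ls : List ℕ} : eq6 ks ls = true ↔ ∀ c < 64, wc ks c = wc ls c := by
  delta eq6
  rw [← wc_fast]
  simp only [Bool.and_eq_true, Nat.beq_eq]
  refine ⟨fun ⟨h8, h16, h32, h1, h2, h4⟩ => ?_, fun h => ⟨h 8 (by decide), h 16 (by decide), h 32 (by decide), h 1 (by decide),
    h 2 (by decide), h 4 (by decide)⟩⟩
  have step : ∀ m, (∀ c < 2 * m, c < m ∨ c ^^^ m < m) → wc ks m = wc ls m → (∀ c < m, wc ks c = wc ls c) →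
      ∀ c < 2 * m, wc ks c = wc ls c := by
    intro m k1 k2 k3 c hc
    rcases k1 c hc with h | h
    · exact k3 c h
    · have e : c = c ^^^ m ^^^ m := by rw [Nat.xor_assoc, Nat.xor_self, Nat.xor_zero]
      rw [e, wc_xor _ _ ks, wc_xor _ _ ls, k2, k3 _ h]
  have h0 : ∀ ks : List ℕ, wc ks 0 = 0 := fun ks => (wc_xor 0 0 ks).trans (Nat.xor_self _)
  exact step 32 (by decide +kernel) h32 (step 16 (by decide +kernel) h16 (step 8 (by decide +kernel) h8 (step 4 (by decide +kernel) h4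
    (step 2 (by decide +kernel) h2 (step 1 (by decide +kernel) h1 fun c hc => by rw [Nat.lt_one_iff.1 hc, h0, h0])))))

/-- a sum over the numbers below `n` -/
noncomputable def sm (f : ℕ → ℕ) (n : ℕ) : ℕ := Nat.rec 0 (fun i r => Nat.add r (f i)) n

theorem sm_eq (f : ℕ → ℕ) (n : ℕ) : sm f n = ∑ i : Fin n, f i := by
  rw [← Finset.sum_range]
  induction n with
  | zero => rfl
  | succ n ih => rw [Finset.sum_range_succ, ← ih]; rfl

theorem card2 {n : ℕ} {P : Fin n × Fin n → Prop} (f : ℕ → ℕ → Bool) (h : ∀ q, P q ↔ f q.1 q.2 = true) :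
    Nat.card {q // P q} = sm (fun i => sm (fun j => cond (f i j) 1 0) n) n := by
  rw [show P = fun q => f q.1 q.2 = true from funext fun q => propext (h q), Nat.card_eq_fintype_card, Fintype.card_subtype,
    Finset.card_filter, Fintype.sum_prod_type, sm_eq]
  refine Finset.sum_congr rfl fun i _ => ?_
  rw [sm_eq]
  exact Finset.sum_congr rfl fun j _ => by cases f i j <;> rfl

end Cfsg.Agent.StdSpSix.Fast
end

-- part: StdSpSix/ELevel
section
prune_inst 0x3444000000000000000000000040000000000000800000000000004000000000084004000102002000000000000811540000420000000a000000000400000000000000000000000000000000000000000000000000000000000000000000000000000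
set_option linter.all false
open scoped Cfsg.Agent.FastGrp

-- part: StdSpSix/EMask
section
/-!
# Masks: the elementary abelian group of order 64 of `Sp₆(2)` as words of length seven modulo complements

Pure bit computations.  A mask `m < 128` is a set of nonzero vectors (codes `1, …, 7`) of a space with eight
elements, taken modulo complements (so `m < 64`); `T < 512` codes a linear map of that space.
A code `e < 128` of the group `⟨t⟩ × A` is a mask `< 64` plus `64` for `t`.
-/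

set_option autoImplicit false
set_option linter.unusedSectionVars false

namespace Cfsg.Agent.StdSpSix.EMask

/-- The linear map with code `T`. -/
def lin (T c : ℕ) : ℕ :=
  (if c.testBit 0 then T % 8 else 0) ^^^ ((if c.testBit 1 then T / 8 % 8 else 0) ^^^
    (if c.testBit 2 then T / 64 % 8 else 0))

def bt (m i x : ℕ) : ℕ := if m.testBit i then x else 0

/-- Image of a mask under a map of the points. -/
def pmf (f : ℕ → ℕ) (m : ℕ) : ℕ :=
  bt m 0 (2 ^ (f 1 - 1)) ^^^ (bt m 1 (2 ^ (f 2 - 1)) ^^^ (bt m 2 (2 ^ (f 3 - 1)) ^^^ (bt m 3 (2 ^ (f 4 - 1)) ^^^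
    (bt m 4 (2 ^ (f 5 - 1)) ^^^ (bt m 5 (2 ^ (f 6 - 1)) ^^^ bt m 6 (2 ^ (f 7 - 1)))))))

/-- Normalised mask. -/
def nm (m : ℕ) : ℕ := if m.testBit 6 then m ^^^ 127 else m

/-- Image of a mask under a linear map, normalised. -/
def qm (T m : ℕ) : ℕ := nm (pmf (lin T) m)

/-- Number of points. -/
def pc (m : ℕ) : ℕ := bt m 0 1 + bt m 1 1 + bt m 2 1 + bt m 3 1 + bt m 4 1 + bt m 5 1 + bt m 6 1

/-- Sum of the points. -/
def cx (m : ℕ) : ℕ := bt m 0 1 ^^^ (bt m 1 2 ^^^ (bt m 2 3 ^^^ (bt m 3 4 ^^^ (bt m 4 5 ^^^ (bt m 5 6 ^^^ bt m 6 7)))))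

/-- The type: `0` identity, `1` transvection, `2` line, `3` product of two, `4` product of three independent. -/
def ty (m : ℕ) : ℕ :=
  if cx m = 0 then (if pc m = 0 ∨ pc m = 7 then 0 else 2)
  else if pc m = 1 ∨ pc m = 6 then 1 else if pc m = 2 ∨ pc m = 5 then 3 else 4

/-- Representatives of the types. -/
def rep (k : ℕ) : ℕ := [0, 1, 7, 3, 11].getD k 0

/-- The points are mapped to points and the map is injective. -/
def good (T : ℕ) : Bool :=
  lin T 1 != 0 && lin T 2 != 0 && lin T 3 != 0 && lin T 4 != 0 && lin T 5 != 0 && lin T 6 != 0 && lin T 7 != 0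

/-- Table of linear maps moving the representative to a given mask. -/
def tab : List ℕ := [273, 273, 266, 273, 267, 281, 282, 273, 140, 161, 98, 273, 99, 281, 282, 501, 141, 169, 106, 337, 107, 345, 346, 500, 172, 161, 354, 499, 355, 498, 177, 190, 142, 177, 114, 401, 115, 409, 410, 492, 116, 417, 98, 491, 419, 106, 489, 125, 117, 425, 426, 99, 107, 482, 481, 124, 428, 474, 473, 123, 465, 122, 185, 143]

theorem tab_spec : ∀ m < 64, tab.getD m 0 < 512 ∧ good (tab.getD m 0) = true ∧ qm (tab.getD m 0) (rep (ty m)) = m := by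
  decide +kernel

theorem good_lt : ∀ T < 512, ∀ c < 8, lin T c < 8 := by (set_option synthInstance.maxSize 100000 in exact Cfsg.Agent.Lib.Refl.of (by decide +kernel))

theorem good_pos {T c : ℕ} (h : good T = true) (h1 : 1 ≤ c) (h2 : c < 8) : 1 ≤ lin T c := by
  unfold good at h
  simp only [Bool.and_eq_true, bne_iff_ne] at h
  interval_cases c <;> (clear * - h; omega)

theorem ty_le : ∀ m < 64, ty m ≤ 4 := by decide +kernel

/-- Table of linear maps moving the pair `7, 25` of lines to a given pair of lines. -/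
def tab2 : List (ℕ × ℕ × ℕ) := [(7, 25, 273), (7, 30, 401), (7, 42, 266), (7, 45, 330), (7, 51, 267), (7, 52, 331),
  (25, 7, 161), (25, 30, 417), (25, 42, 140), (25, 45, 141), (25, 51, 204), (25, 52, 205), (30, 7, 177),
  (30, 25, 305), (30, 42, 142), (30, 45, 143), (30, 51, 207), (30, 52, 206), (42, 7, 98), (42, 25, 84),
  (42, 30, 86), (42, 45, 354), (42, 51, 212), (42, 52, 214), (45, 7, 106), (45, 25, 85), (45, 30, 87),
  (45, 42, 298), (45, 51, 215), (45, 52, 213), (51, 7, 99), (51, 25, 92), (51, 30, 95), (51, 42, 156),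
  (51, 45, 159), (51, 52, 355), (52, 7, 107), (52, 25, 93), (52, 30, 94), (52, 42, 158), (52, 45, 157),
  (52, 51, 299)]

theorem tab2_aux : ∀ x < 64, ∀ y < 64, ty x = 2 → ty y = 2 → x ≠ y →
    (tab2.any fun p => decide (p.2.2 < 512) && good p.2.2 && (qm p.2.2 7 == x) && (qm p.2.2 25 == y)) = true := by
  (delta Cfsg.Agent.StdSpSix.EMask.ty Cfsg.Agent.StdSpSix.EMask.good Cfsg.Agent.StdSpSix.EMask.qm Cfsg.Agent.StdSpSix.EMask.pc Cfsg.Agent.StdSpSix.EMask.nm Cfsg.Agent.StdSpSix.EMask.bt; set_option synthInstance.maxSize 100000 in exact Cfsg.Agent.Lib.Refl.of (by decide +kernel))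

theorem tab2_spec {x y : ℕ} (hx : x < 64) (hy : y < 64) (h1 : ty x = 2) (h2 : ty y = 2) (h3 : x ≠ y) :
    ∃ T < 512, good T = true ∧ qm T 7 = x ∧ qm T 25 = y := by
  have h := tab2_aux x hx y hy h1 h2 h3
  rw [List.any_eq_true] at h
  obtain ⟨p, -, hp⟩ := h
  simp only [Bool.and_eq_true, decide_eq_true_eq, beq_iff_eq] at hp
  exact ⟨p.2.2, hp.1.1.1, hp.1.1.2, hp.1.2, hp.2⟩

/-! ### the subset of the group -/

/-- The indicator (as a word of 128 bits) of the subset with the given types. -/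
def DM (x1 x2 x3 x4 x5 : Bool) : ℕ :=
  0x10000000000000000 + (bif x1 then 0x80000001000101160000000000000000 else 0) +
    (bif x2 then 0x182400420000800000000000000000 else 0) +
    (bif x3 then 0x68818116811616680000000000000000 else 0) +
    (bif x4 then 0x17665ae83ce8e8000000000000000000 else 0) + (bif x5 then 0x17665ae83ce8e800 else 0)

theorem DM_lo : ∀ x1 x2 x3 x4 x5 : Bool, ∀ m < 64, (DM x1 x2 x3 x4 x5).testBit m = (x5 && ty m == 4) := by
  (delta Cfsg.Agent.StdSpSix.EMask.DM Cfsg.Agent.StdSpSix.EMask.ty Cfsg.Agent.StdSpSix.EMask.pc Cfsg.Agent.StdSpSix.EMask.bt; set_option synthInstance.maxSize 100000 in exact Cfsg.Agent.Lib.Refl.of (by decide +kernel))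

theorem DM_hi : ∀ x1 x2 x3 x4 x5 : Bool, ∀ m < 64, (DM x1 x2 x3 x4 x5).testBit (m + 64) =
    [true, x1, x2, x3, x4].getD (ty m) false := by
  (set_option synthInstance.maxSize 100000 in exact Cfsg.Agent.Lib.Refl.of (by decide +kernel))

open Finset

/-- Sum over an initial segment, in a form which is fast in the kernel. -/
noncomputable def sm (f : ℕ → ℕ) (n : ℕ) : ℕ := Nat.rec 0 (fun k s => Nat.add (f k) s) n

theorem sm_eq (f : ℕ → ℕ) (n : ℕ) : sm f n = ∑ i ∈ range n, f i := by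
  induction n with
  | zero => rfl
  | succ n ih =>
    rw [Finset.sum_range_succ, ← ih]
    exact Nat.add_comm (f n) (sm f n)

noncomputable def ifb (b v : ℕ) : ℕ := Nat.rec 0 (fun _ _ => v) b

/-- a bit, as a number -/
def b1 (M x : ℕ) : ℕ := Nat.land (Nat.shiftRight M x) 1

def b2 (M x y : ℕ) : ℕ := Nat.land (Nat.shiftRight M x) (Nat.land (Nat.shiftRight M y) 1)

def b4 (M x y z w : ℕ) : ℕ := Nat.land (Nat.shiftRight M x) (Nat.land (Nat.shiftRight M y)
  (Nat.land (Nat.shiftRight M z) (Nat.land (Nat.shiftRight M w) 1)))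

theorem land_one (n : ℕ) : Nat.land n 1 = (n.testBit 0).toNat := by
  have h : Nat.land n 1 = n &&& 1 := rfl
  rw [h, Nat.and_one_is_mod, Nat.toNat_testBit, pow_zero, Nat.div_one]

theorem land_toNat (n : ℕ) (b : Bool) : Nat.land n b.toNat = (n.testBit 0 && b).toNat := by
  cases b
  · rw [Bool.and_false]
    exact Nat.and_zero n
  · rw [Bool.and_true]
    exact land_one n

theorem testBit_shr (M x : ℕ) : (Nat.shiftRight M x).testBit 0 = M.testBit x := by
  have h : Nat.shiftRight M x = M >>> x := rfl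
  rw [h, Nat.testBit_shiftRight, add_zero]

theorem b1_eq (M x : ℕ) : b1 M x = (M.testBit x).toNat := by
  unfold b1
  rw [land_one, testBit_shr]

theorem b2_eq (M x y : ℕ) : b2 M x y = (M.testBit x && M.testBit y).toNat := by
  unfold b2
  rw [land_one, land_toNat, testBit_shr, testBit_shr]

theorem b4_eq (M x y z w : ℕ) :
    b4 M x y z w = (M.testBit x && (M.testBit y && (M.testBit z && M.testBit w))).toNat := by
  unfold b4
  rw [land_one, land_toNat, land_toNat, land_toNat, testBit_shr, testBit_shr, testBit_shr, testBit_shr]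

/-- Number of pairs with a given difference. -/
noncomputable def inv1 (M d : ℕ) : ℕ := sm (fun e => b2 M e (Nat.xor d e)) 128

/-- Number of planes through a point. -/
noncomputable def inv2 (M d : ℕ) : ℕ := sm (fun x => ifb (b1 M (Nat.xor d x))
  (sm (fun y => b2 M (Nat.xor d y) (Nat.xor d (Nat.xor x y))) 128)) 128

/-- Number of three dimensional spaces through a point. -/
noncomputable def inv3 (M d : ℕ) : ℕ := sm (fun x => ifb (b1 M (Nat.xor d x))
  (sm (fun y => ifb (b2 M (Nat.xor d y) (Nat.xor d (Nat.xor x y)))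
    (sm (fun z => b4 M (Nat.xor d z) (Nat.xor d (Nat.xor x z)) (Nat.xor d (Nat.xor y z))
      (Nat.xor d (Nat.xor x (Nat.xor y z)))) 128)) 128)) 128

theorem kill1 : ∀ x1 x2 x3 x4 : Bool, (x1 ^^ (x2 ^^ x3)) = true →
    inv1 (DM x1 x2 x3 x4 true) 64 ≠ inv1 (DM x1 x2 x3 x4 true) 11 := by
  decide +kernel

theorem kill2a : inv2 (DM false false true false false) 64 ≠ inv2 (DM false false true false false) 67 := by
  decide +kernel

theorem kill2b : inv2 (DM false false true true false) 64 ≠ inv2 (DM false false true true false) 67 := by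
  decide +kernel

theorem kill2c : inv2 (DM true false false true false) 64 ≠ inv2 (DM true false false true false) 65 := by
  decide +kernel

theorem kill3 : inv3 (DM true true true false false) 64 ≠ inv3 (DM true true true false false) 65 := by
  decide +kernel

/-- Sum of codes. -/
def xr (x y : Fin 128) : Fin 128 := ⟨x.val ^^^ y.val, Nat.xor_lt_two_pow (n := 7) x.2 y.2⟩

/-- A linear permutation of the codes. -/
def Lin (π : Equiv.Perm (Fin 128)) : Prop := ∀ x y, π (xr x y) = xr (π x) (π y)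

/-- A permutation preserving the subset. -/
def Pres (M : ℕ) (π : Equiv.Perm (Fin 128)) : Prop := ∀ x, M.testBit (π x).val = M.testBit x.val

section
variable {M : ℕ} {π : Equiv.Perm (Fin 128)} (hl : Lin π) (hp : Pres M π)
include hl hp

theorem p2 (x y : Fin 128) : M.testBit ((π x).val ^^^ (π y).val) = M.testBit (x.val ^^^ y.val) := by
  have h : (π x).val ^^^ (π y).val = (π (xr x y)).val := by rw [hl]; rfl
  rw [h, hp]
  rfl

theorem p3 (x y z : Fin 128) :
    M.testBit ((π x).val ^^^ ((π y).val ^^^ (π z).val)) = M.testBit (x.val ^^^ (y.val ^^^ z.val)) := by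
  have h : (π x).val ^^^ ((π y).val ^^^ (π z).val) = (π (xr x (xr y z))).val := by rw [hl, hl]; rfl
  rw [h, hp]
  rfl

theorem p4 (x y z w : Fin 128) : M.testBit ((π x).val ^^^ ((π y).val ^^^ ((π z).val ^^^ (π w).val))) =
    M.testBit (x.val ^^^ (y.val ^^^ (z.val ^^^ w.val))) := by
  have h : (π x).val ^^^ ((π y).val ^^^ ((π z).val ^^^ (π w).val)) = (π (xr x (xr y (xr z w)))).val := by
    rw [hl, hl, hl]; rfl
  rw [h, hp]
  rfl

theorem sm_map (f g : ℕ → ℕ) (h : ∀ x : Fin 128, f (π x).val = g x.val) : sm f 128 = sm g 128 := by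
  rw [sm_eq, sm_eq, ← Fin.sum_univ_eq_sum_range, ← Fin.sum_univ_eq_sum_range, ← Equiv.sum_comp π]
  exact sum_congr rfl fun x _ => h x

theorem inv1_map (d : Fin 128) : inv1 M (π d).val = inv1 M d.val := by
  refine sm_map hl hp _ _ fun e => ?_
  rw [b2_eq, b2_eq, hp]
  exact congrArg (fun b => (M.testBit e && b).toNat) (p2 hl hp d e)

theorem inv2_map (d : Fin 128) : inv2 M (π d).val = inv2 M d.val := by
  refine sm_map hl hp _ _ fun x => ?_
  have h1 : b1 M (Nat.xor (π d).val (π x).val) = b1 M (Nat.xor d.val x.val) := by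
    rw [b1_eq, b1_eq]
    exact congrArg Bool.toNat (p2 hl hp d x)
  rw [h1]
  refine congrArg (ifb _) ?_
  refine sm_map hl hp _ _ fun y => ?_
  rw [b2_eq, b2_eq]
  exact congrArg₂ (fun a b => (a && b).toNat) (p2 hl hp d y) (p3 hl hp d x y)

theorem inv3_map (d : Fin 128) : inv3 M (π d).val = inv3 M d.val := by
  refine sm_map hl hp _ _ fun x => ?_
  have h1 : b1 M (Nat.xor (π d).val (π x).val) = b1 M (Nat.xor d.val x.val) := by
    rw [b1_eq, b1_eq]
    exact congrArg Bool.toNat (p2 hl hp d x)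
  rw [h1]
  refine congrArg (ifb _) ?_
  refine sm_map hl hp _ _ fun y => ?_
  have h2 : b2 M (Nat.xor (π d).val (π y).val) (Nat.xor (π d).val (Nat.xor (π x).val (π y).val)) =
      b2 M (Nat.xor d.val y.val) (Nat.xor d.val (Nat.xor x.val y.val)) := by
    rw [b2_eq, b2_eq]
    exact congrArg₂ (fun a b => (a && b).toNat) (p2 hl hp d y) (p3 hl hp d x y)
  rw [h2]
  refine congrArg (ifb _) ?_
  refine sm_map hl hp _ _ fun z => ?_
  rw [b4_eq, b4_eq]
  have e1 := p2 hl hp d z
  have e2 := p3 hl hp d x z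
  have e3 := p3 hl hp d y z
  have e4 := p4 hl hp d x y z
  exact congrArg Bool.toNat (congrArg₂ and e1 (congrArg₂ and e2 (congrArg₂ and e3 e4)))

end

end Cfsg.Agent.StdSpSix.EMask
end

-- part: StdSpSix/EA
section
/-!
# The elementary abelian subgroup of order 64 of `Sp₆(2)` fixing a maximal isotropic subspace pointwise
-/

set_option autoImplicit false

namespace Cfsg.Agent.StdSpSix.EA

open Cfsg.Agent.SporRec.TwoSp6.Sp Cfsg.Agent.SporRec.TwoSp6.Lift Cfsg.Agent.SporRec.TwoSp6.Invol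
  Cfsg.Agent.StdSpSix.EMask

theorem add_self' (x : V) : x + x = 0 := add_self x

/-! ### sums over masks -/

/-- Sum of a function over the points of a mask. -/
def sg (g : ℕ → V) (m : ℕ) : V := ∑ i ∈ Finset.range 7, if m.testBit i then g (i + 1) else 0

theorem sg_xor (g : ℕ → V) (m n : ℕ) : sg g (m ^^^ n) = sg g m + sg g n := by
  unfold sg
  rw [← Finset.sum_add_distrib]
  refine Finset.sum_congr rfl fun i _ => ?_
  rw [Nat.testBit_xor]
  cases m.testBit i <;> cases n.testBit i <;> simp [add_self']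

theorem sg_zero (g : ℕ → V) : sg g 0 = 0 := by
  unfold sg
  simp

theorem sg_two_pow (g : ℕ → V) {j : ℕ} (hj : j < 7) : sg g (2 ^ j) = g (j + 1) := by
  unfold sg
  simp only [Nat.testBit_two_pow, decide_eq_true_eq]
  rw [Finset.sum_ite_eq (Finset.range 7) j (fun i => g (i + 1)), if_pos (Finset.mem_range.2 hj)]

theorem sg_bt (g : ℕ → V) (m i x : ℕ) : sg g (bt m i x) = if m.testBit i then sg g x else 0 := by
  unfold bt
  split_ifs with h
  · rfl
  · exact sg_zero g

theorem sg_pmf (g : ℕ → V) (f : ℕ → ℕ) (hf : ∀ c, 1 ≤ c → c < 8 → 1 ≤ f c ∧ f c < 8) (m : ℕ) :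
    sg g (pmf f m) = sg (fun c => g (f c)) m := by
  have h : ∀ c, 1 ≤ c → c < 8 → sg g (2 ^ (f c - 1)) = g (f c) := by
    intro c h1 h2
    obtain ⟨h3, h4⟩ := hf c h1 h2
    rw [sg_two_pow g (by omega), Nat.sub_add_cancel h3]
  unfold pmf
  simp only [sg_xor, sg_bt]
  rw [h 1 le_rfl (by omega), h 2 (by omega) (by omega), h 3 (by omega) (by omega), h 4 (by omega) (by omega),
    h 5 (by omega) (by omega), h 6 (by omega) (by omega), h 7 (by omega) (by omega)]
  unfold sg
  simp only [Finset.sum_range_succ, Finset.sum_range_zero, zero_add]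
  abel

/-! ### the elements -/

/-- The factor of a point. -/
def fac (m i : ℕ) : S := if m.testBit i then tr (enc (i + 1)) else 1

/-- The product of the transvections of the points of a mask. -/
def a (m : ℕ) : S := fac m 0 * (fac m 1 * (fac m 2 * (fac m 3 * (fac m 4 * (fac m 5 * fac m 6)))))

theorem om_small : ∀ c < 8, ∀ d < 8, om (enc c) (enc d) = 0 := by
  intro c hc d hd
  rw [om_enc]
  have : ∀ c < 8, ∀ d < 8, fN c d = false := by decide +kernel
  rw [this c hc d hd]
  rfl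

/-- The displacement. -/
def dis (x : V) (c : ℕ) : V := om x (enc c) • enc c

theorem act_fac (m : ℕ) {i : ℕ} (_hi : i < 7) (x : V) :
    act (fac m i) x = x + if m.testBit i then dis x (i + 1) else 0 := by
  unfold fac
  split_ifs with h
  · rw [act_tr]; rfl
  · rw [act_one, add_zero]

theorem dis_shift {x y : V} (h : ∀ c < 8, om x (enc c) = om y (enc c)) {c : ℕ} (hc : c < 8) : dis x c = dis y c := by
  unfold dis
  rw [h c hc]

/-- Vectors which differ by a vector of the isotropic subspace. -/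
def Near (x y : V) : Prop := ∀ c < 8, om x (enc c) = om y (enc c)

theorem near_fac {x y : V} (m : ℕ) {i : ℕ} (hi : i < 7) (h : Near y x) : Near (act (fac m i) y) x := by
  intro c hc
  rw [act_fac m hi, om_add', h c hc]
  split_ifs with h1
  · unfold dis
    rw [om_smul', om_small (i + 1) (by omega) c hc, mul_zero, add_zero]
  · have : om (0 : V) (enc c) = 0 := by rw [om_symm]; exact om_zero _
    rw [this, add_zero]

theorem near_refl (x : V) : Near x x := fun _ _ => rfl

theorem act_a (m : ℕ) (x : V) : act (a m) x = x + sg (dis x) m := by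
  have key : ∀ {y : V} (_ : Near y x) {i : ℕ} (hi : i < 7), act (fac m i) y = y + if m.testBit i then dis x (i + 1) else 0 := by
    intro y hy i hi
    rw [act_fac m hi, dis_shift hy (by omega)]
  have n6 := near_fac m (i := 6) (by omega) (near_refl x)
  have n5 := near_fac m (i := 5) (by omega) n6
  have n4 := near_fac m (i := 4) (by omega) n5
  have n3 := near_fac m (i := 3) (by omega) n4
  have n2 := near_fac m (i := 2) (by omega) n3
  have n1 := near_fac m (i := 1) (by omega) n2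
  unfold a
  rw [act_mul, act_mul, act_mul, act_mul, act_mul, act_mul, key n1 (by omega), key n2 (by omega), key n3 (by omega),
    key n4 (by omega), key n5 (by omega), key n6 (by omega), key (near_refl x) (by omega)]
  unfold sg
  simp only [Finset.sum_range_succ, Finset.sum_range_zero, zero_add]
  abel

theorem near_a (m : ℕ) (x : V) : Near (act (a m) x) x := by
  unfold a
  rw [act_mul, act_mul, act_mul, act_mul, act_mul, act_mul]
  exact near_fac m (by omega) (near_fac m (by omega) (near_fac m (by omega) (near_fac m (by omega)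
    (near_fac m (by omega) (near_fac m (by omega) (near_fac m (by omega) (near_refl x)))))))

theorem sg_dis_near {x y : V} (h : Near y x) (m : ℕ) : sg (dis y) m = sg (dis x) m := by
  unfold sg
  refine Finset.sum_congr rfl fun i hi => ?_
  rw [Finset.mem_range] at hi
  rw [dis_shift h (by omega)]

theorem a_xor (m n : ℕ) : a (m ^^^ n) = a m * a n := by
  apply act_ext
  intro x
  rw [act_mul, act_a, act_a m, act_a n, sg_xor, ← act_a n, sg_dis_near (near_a n x), act_a n]
  abel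

theorem a_zero : a 0 = 1 := by
  apply act_ext
  intro x
  rw [act_a, sg_zero, act_one, add_zero]

theorem a_sq (m : ℕ) : a m * a m = 1 := by
  rw [← a_xor, Nat.xor_self, a_zero]

theorem a_comm (m n : ℕ) : a m * a n = a n * a m := by
  rw [← a_xor, ← a_xor, Nat.xor_comm]

/-- Conjugation. -/
theorem conj_a {g : S} {f : ℕ → ℕ} (hf : ∀ c, 1 ≤ c → c < 8 → 1 ≤ f c ∧ f c < 8)
    (hg : ∀ c, 1 ≤ c → c < 8 → act g (enc c) = enc (f c)) (m : ℕ) : g * a m * g⁻¹ = a (pmf f m) := by
  apply act_ext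
  intro x
  rw [act_mul, act_mul, act_a, act_a, sg_pmf _ f hf, act_add, ← act_mul, mul_inv_cancel, act_one]
  congr 1
  unfold sg
  have hsum : ∀ (s : Finset ℕ) (h : ℕ → V), act g (∑ i ∈ s, h i) = ∑ i ∈ s, act g (h i) := by
    intro s h
    induction s using Finset.cons_induction with
    | empty => simp [act_zero]
    | cons i s hi ih => rw [Finset.sum_cons, Finset.sum_cons, act_add, ih]
  rw [hsum]
  refine Finset.sum_congr rfl fun i hi => ?_
  rw [Finset.mem_range] at hi
  split_ifs with h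
  · unfold dis
    have h1 : om (act g⁻¹ x) (enc (i + 1)) = om x (enc (f (i + 1))) := by
      rw [← hg (i + 1) (by omega) (by omega), ← act_om g (act g⁻¹ x) (enc (i + 1)), ← act_mul, mul_inv_cancel,
        act_one]
    rw [act_smul, hg (i + 1) (by omega) (by omega), h1]
  · exact act_zero g

end Cfsg.Agent.StdSpSix.EA
end

-- part: StdSpSix/QLevelModel
section
/-!
# The facts about `Sp₆(2)` and its subgroup `A = 2⁶` used at the level `N_G(Q)`
-/

set_option autoImplicit false

namespace Cfsg.Agent.StdSpSix.QLevelModel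

open Subgroup Matrix Cfsg.Agent.SporRec.TwoSp6

/-- `GL₃(2)`. -/
abbrev K3 := GL (Fin 3) (ZMod 2)

/-- The facts. -/
structure Facts {X : Type*} [Group X] (A : Subgroup X) : Prop where
  sq : ∀ x ∈ A, x * x = 1
  card : Nat.card A = 64
  sat : ∀ B : Subgroup X, (∀ x ∈ B, x * x = 1) → 64 ≤ Nat.card B → ∃ l : X, ∀ x, x ∈ B ↔ l⁻¹ * x * l ∈ A
  CA : ∀ l, (∀ a ∈ A, l * a = a * l) → l ∈ A
  odd : Odd (normalizer (A : Set X)).index
  lift : ∀ n ∈ normalizer (A : Set X), n * n ∈ A → ∃ a ∈ A, (n * a) * (n * a) = 1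
  quo : ∃ θ : normalizer (A : Set X) →* K3, Function.Surjective θ ∧ ∀ n, θ n = 1 ↔ (n : X) ∈ A

/-! ### blocks -/

/-- `6 × 6` matrices. -/
abbrev M6 := Matrix (Fin 3 ⊕ Fin 3) (Fin 3 ⊕ Fin 3) (ZMod 2)

theorem mul11 (g h : M6) : (g * h).toBlocks₁₁ = g.toBlocks₁₁ * h.toBlocks₁₁ + g.toBlocks₁₂ * h.toBlocks₂₁ := by
  conv_lhs => rw [← fromBlocks_toBlocks g, ← fromBlocks_toBlocks h, fromBlocks_multiply]
  rw [toBlocks_fromBlocks₁₁]

theorem mul12 (g h : M6) : (g * h).toBlocks₁₂ = g.toBlocks₁₁ * h.toBlocks₁₂ + g.toBlocks₁₂ * h.toBlocks₂₂ := by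
  conv_lhs => rw [← fromBlocks_toBlocks g, ← fromBlocks_toBlocks h, fromBlocks_multiply]
  rw [toBlocks_fromBlocks₁₂]

theorem mul21 (g h : M6) : (g * h).toBlocks₂₁ = g.toBlocks₂₁ * h.toBlocks₁₁ + g.toBlocks₂₂ * h.toBlocks₂₁ := by
  conv_lhs => rw [← fromBlocks_toBlocks g, ← fromBlocks_toBlocks h, fromBlocks_multiply]
  rw [toBlocks_fromBlocks₂₁]

theorem mul22 (g h : M6) : (g * h).toBlocks₂₂ = g.toBlocks₂₁ * h.toBlocks₁₂ + g.toBlocks₂₂ * h.toBlocks₂₂ := by
  conv_lhs => rw [← fromBlocks_toBlocks g, ← fromBlocks_toBlocks h, fromBlocks_multiply]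
  rw [toBlocks_fromBlocks₂₂]

theorem one11 : (1 : M6).toBlocks₁₁ = 1 := by rw [← fromBlocks_one, toBlocks_fromBlocks₁₁]
theorem one21 : (1 : M6).toBlocks₂₁ = 0 := by rw [← fromBlocks_one, toBlocks_fromBlocks₂₁]
theorem ext_blocks {g h : M6} (h1 : g.toBlocks₁₁ = h.toBlocks₁₁) (h2 : g.toBlocks₁₂ = h.toBlocks₁₂)
    (h3 : g.toBlocks₂₁ = h.toBlocks₂₁) (h4 : g.toBlocks₂₂ = h.toBlocks₂₂) : g = h := by
  rw [← fromBlocks_toBlocks g, ← fromBlocks_toBlocks h, h1, h2, h3, h4]

theorem symp (g : Sp.S) : (g : M6).toBlocks₁₁ᵀ * (g : M6).toBlocks₂₁ = (g : M6).toBlocks₂₁ᵀ * (g : M6).toBlocks₁₁ ∧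
    (g : M6).toBlocks₁₂ᵀ * (g : M6).toBlocks₂₂ = (g : M6).toBlocks₂₂ᵀ * (g : M6).toBlocks₁₂ ∧
    (g : M6).toBlocks₁₁ᵀ * (g : M6).toBlocks₂₂ - (g : M6).toBlocks₂₁ᵀ * (g : M6).toBlocks₁₂ = 1 := by
  have h := g.2
  rw [← fromBlocks_toBlocks (g : M6)] at h
  exact SymplecticGroup.fromBlocks_mem_iff.1 h

/-- the parabolic subgroup -/
def P0 : Subgroup Sp.S where
  carrier := {g | (g : M6).toBlocks₂₁ = 0}
  mul_mem' {g h} hg hh := by
    have hg' : (g : M6).toBlocks₂₁ = 0 := hg
    have hh' : (h : M6).toBlocks₂₁ = 0 := hh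
    change ((g : M6) * (h : M6)).toBlocks₂₁ = 0
    rw [mul21, hg', hh', Matrix.zero_mul, Matrix.mul_zero, add_zero]
  one_mem' := one21
  inv_mem' {g} hg := by
    have hg' : (g : M6).toBlocks₂₁ = 0 := hg
    have h1 : ((g⁻¹ : Sp.S) : M6) * (g : M6) = 1 := congrArg Subtype.val (inv_mul_cancel g)
    have h2 : ((g : Sp.S) : M6) * ((g⁻¹ : Sp.S) : M6) = 1 := (congrArg Subtype.val (mul_inv_cancel g) :)
    have h3 : ((g⁻¹ : Sp.S) : M6).toBlocks₂₁ * (g : M6).toBlocks₁₁ = 0 := by
      have h4 := congrArg Matrix.toBlocks₂₁ h1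
      rw [mul21, hg', Matrix.mul_zero, add_zero, one21] at h4
      exact h4
    -- `g₁₁` is invertible
    have h5 := (symp g).2.2
    rw [hg', transpose_zero, Matrix.zero_mul, sub_zero] at h5
    have h6 : (g : M6).toBlocks₁₁ * (g : M6).toBlocks₂₂ᵀ = 1 := by
      have h7 := congrArg Matrix.transpose h5
      rw [transpose_mul, transpose_transpose, transpose_one] at h7
      exact mul_eq_one_comm.1 h7
    change ((g⁻¹ : Sp.S) : M6).toBlocks₂₁ = 0
    calc ((g⁻¹ : Sp.S) : M6).toBlocks₂₁ = ((g⁻¹ : Sp.S) : M6).toBlocks₂₁ * ((g : M6).toBlocks₁₁ * (g : M6).toBlocks₂₂ᵀ) := by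
          rw [h6, Matrix.mul_one]
      _ = 0 := by rw [← Matrix.mul_assoc, h3, Matrix.zero_mul]

theorem mem_P0 {g : Sp.S} : g ∈ P0 ↔ (g : M6).toBlocks₂₁ = 0 := Iff.rfl

/-- the diagonal block -/
def blk : P0 →* M3 where
  toFun g := ((g : Sp.S) : M6).toBlocks₁₁
  map_one' := one11
  map_mul' g h := by
    have hh : ((h : Sp.S) : M6).toBlocks₂₁ = 0 := h.2
    change (((g : Sp.S) : M6) * ((h : Sp.S) : M6)).toBlocks₁₁ = _
    rw [mul11, hh, Matrix.mul_zero, add_zero]

/-- `A = 2⁶` -/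
def A0 : Subgroup Sp.S := blk.ker.map P0.subtype

theorem mem_A0 {g : Sp.S} : g ∈ A0 ↔ (g : M6).toBlocks₂₁ = 0 ∧ (g : M6).toBlocks₁₁ = 1 := by
  constructor
  · rintro ⟨x, hx, rfl⟩
    exact ⟨x.2, hx⟩
  · rintro ⟨h1, h2⟩
    exact ⟨⟨g, h1⟩, h2, rfl⟩

theorem A0_le : A0 ≤ P0 := fun _ hg => (mem_A0.1 hg).1

theorem blk22 {g : Sp.S} (hg : g ∈ P0) : (g : M6).toBlocks₁₁ᵀ * (g : M6).toBlocks₂₂ = 1 := by
  have h5 := (symp g).2.2
  rw [mem_P0.1 hg, transpose_zero, Matrix.zero_mul, sub_zero] at h5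
  exact h5

theorem A0_22 {g : Sp.S} (hg : g ∈ A0) : (g : M6).toBlocks₂₂ = 1 := by
  have h := blk22 (A0_le hg)
  rwa [(mem_A0.1 hg).2, transpose_one, Matrix.one_mul] at h

theorem A0_12 {g : Sp.S} (hg : g ∈ A0) : (g : M6).toBlocks₁₂ᵀ = (g : M6).toBlocks₁₂ := by
  have h := (symp g).2.1
  rwa [A0_22 hg, Matrix.mul_one, transpose_one, Matrix.one_mul] at h

/-- the element of `A` with given symmetric matrix -/
def ua (x : Fin 6 → ZMod 2) : Sp.S :=
  ⟨fromBlocks 1 (sy x) 0 1, SymplecticGroup.fromBlocks_mem_iff.2 (by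
    rw [sy_symm]; simp)⟩

theorem ua11 (x : Fin 6 → ZMod 2) : (ua x : M6).toBlocks₁₁ = 1 := toBlocks_fromBlocks₁₁ _ _ _ _
theorem ua12 (x : Fin 6 → ZMod 2) : (ua x : M6).toBlocks₁₂ = sy x := toBlocks_fromBlocks₁₂ _ _ _ _
theorem ua21 (x : Fin 6 → ZMod 2) : (ua x : M6).toBlocks₂₁ = 0 := toBlocks_fromBlocks₂₁ _ _ _ _
theorem ua22 (x : Fin 6 → ZMod 2) : (ua x : M6).toBlocks₂₂ = 1 := toBlocks_fromBlocks₂₂ _ _ _ _

theorem ua_mem (x : Fin 6 → ZMod 2) : ua x ∈ A0 := mem_A0.2 ⟨ua21 x, ua11 x⟩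

theorem ua_inj {x y : Fin 6 → ZMod 2} (h : ua x = ua y) : x = y := by
  apply sy_inj
  rw [← ua12, ← ua12, h]

theorem exists_ua {g : Sp.S} (hg : g ∈ A0) : ∃ x, g = ua x := by
  obtain ⟨x, hx⟩ := exists_sy (A0_12 hg)
  refine ⟨x, Subtype.ext (ext_blocks ?_ ?_ ?_ ?_)⟩
  · rw [ua11]; exact (mem_A0.1 hg).2
  · rw [ua12]; exact hx
  · rw [ua21]; exact (mem_A0.1 hg).1
  · rw [ua22]; exact A0_22 hg

theorem ua_mul (x y : Fin 6 → ZMod 2) : ua x * ua y = ua (x + y) := by
  apply Subtype.ext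
  change (ua x : M6) * (ua y : M6) = _
  apply ext_blocks
  · rw [mul11, ua11, ua12, ua11, ua21, ua11]; simp
  · rw [mul12, ua11, ua12, ua12, ua22, ua12, sy_add]; simp [add_comm]
  · rw [mul21, ua21, ua22, ua11, ua21, ua21]; simp
  · rw [mul22, ua21, ua22, ua12, ua22, ua22]; simp

theorem ua_zero : ua 0 = 1 := by
  have h : ua 0 * ua 0 = ua 0 := by rw [ua_mul, add_zero]
  exact mul_eq_left.1 h

theorem A0_sq {g : Sp.S} (hg : g ∈ A0) : g * g = 1 := by
  obtain ⟨x, rfl⟩ := exists_ua hg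
  have : x + x = 0 := by
    funext i
    exact CharTwo.add_self_eq_zero _
  rw [ua_mul, this, ua_zero]

theorem card_A0 : Nat.card A0 = 64 := by
  have h : Nat.card A0 = Nat.card (Fin 6 → ZMod 2) := by
    symm
    refine Nat.card_congr (Equiv.ofBijective (fun x => (⟨ua x, ua_mem x⟩ : A0)) ⟨?_, ?_⟩)
    · intro x y hxy
      exact ua_inj (congrArg Subtype.val hxy)
    · rintro ⟨g, hg⟩
      obtain ⟨x, rfl⟩ := exists_ua hg
      exact ⟨x, rfl⟩
  rw [h, Nat.card_eq_fintype_card, Fintype.card_fun, ZMod.card, Fintype.card_fin]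
  norm_num

/-- commuting with `A` -/
theorem A0_CA (l : Sp.S) (h : ∀ a ∈ A0, l * a = a * l) : l ∈ A0 := by
  have key : ∀ x, (l : M6) * (ua x : M6) = (ua x : M6) * (l : M6) := fun x => congrArg Subtype.val (h _ (ua_mem x))
  have h22 : ∀ x, (l : M6).toBlocks₂₁ * sy x = 0 := by
    intro x
    have h1 := congrArg Matrix.toBlocks₂₂ (key x)
    rw [mul22, mul22, ua12, ua22, ua21, Matrix.mul_one, Matrix.zero_mul, zero_add, Matrix.one_mul] at h1
    exact add_eq_right.1 h1
  have hone : sy ![1, 1, 1, 0, 0, 0] = 1 := by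
    ext i j
    fin_cases i <;> fin_cases j <;> rfl
  have h21 : (l : M6).toBlocks₂₁ = 0 := by
    have := h22 ![1, 1, 1, 0, 0, 0]
    rwa [hone, Matrix.mul_one] at this
  have h12 : ∀ x, (l : M6).toBlocks₁₁ * sy x = sy x * (l : M6).toBlocks₂₂ := by
    intro x
    have h1 := congrArg Matrix.toBlocks₁₂ (key x)
    rw [mul12, mul12, ua12, ua22, ua11, Matrix.mul_one, Matrix.one_mul, add_comm ((l : M6).toBlocks₁₂)] at h1
    exact add_right_cancel h1
  have heq : (l : M6).toBlocks₁₁ = (l : M6).toBlocks₂₂ := by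
    have := h12 ![1, 1, 1, 0, 0, 0]
    rwa [hone, Matrix.mul_one, Matrix.one_mul] at this
  rw [← heq] at h12
  have e1 : sy ![0, 0, 0, 1, 0, 0] = !![0,1,0;1,0,0;0,0,0] := by
    ext i j
    fin_cases i <;> fin_cases j <;> rfl
  have e2 : sy ![1, 0, 0, 0, 0, 0] = !![1,0,0;0,0,0;0,0,0] := by
    ext i j
    fin_cases i <;> fin_cases j <;> rfl
  have e3 : sy ![0, 0, 0, 0, 0, 1] = !![0,0,0;0,0,1;0,1,0] := by
    ext i j
    fin_cases i <;> fin_cases j <;> rfl
  have h1 := h12 ![0, 0, 0, 1, 0, 0]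
  have h2 := h12 ![1, 0, 0, 0, 0, 0]
  have h3 := h12 ![0, 0, 0, 0, 0, 1]
  rw [e1] at h1
  rw [e2] at h2
  rw [e3] at h3
  rw [mem_A0]
  refine ⟨h21, ?_⟩
  rcases r7 _ h1 h2 h3 with h4 | h4
  · exfalso
    have h5 := blk22 (g := l) h21
    rw [h4, transpose_zero, Matrix.zero_mul] at h5
    exact zero_ne_one h5
  · exact h4

theorem P0_normal {n a : Sp.S} (hn : n ∈ P0) (ha : a ∈ A0) : n * a * n⁻¹ ∈ A0 := by
  obtain ⟨x, hx, rfl⟩ := ha
  have : (⟨n, hn⟩ : P0) * x * (⟨n, hn⟩ : P0)⁻¹ ∈ blk.ker := (MonoidHom.normal_ker blk).conj_mem x hx _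
  exact ⟨_, this, rfl⟩

theorem normalizer_A0 : normalizer (A0 : Set Sp.S) = P0 := by
  ext n
  constructor
  · intro hn
    have h1 : ∀ x, (n : M6).toBlocks₂₁ * sy x = 0 := by
      intro x
      have h2 : n * ua x * n⁻¹ ∈ A0 := (mem_normalizer_iff.1 hn _).1 (ua_mem x)
      have h3 : (n : M6) * (ua x : M6) = ((n * ua x * n⁻¹ : Sp.S) : M6) * (n : M6) := by
        have : n * ua x = (n * ua x * n⁻¹) * n := by group
        exact congrArg Subtype.val this
      have h4 := congrArg Matrix.toBlocks₂₂ h3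
      rw [mul22, mul22, ua12, ua22, Matrix.mul_one, (mem_A0.1 h2).1, A0_22 h2, Matrix.zero_mul, zero_add,
        Matrix.one_mul] at h4
      exact add_eq_right.1 h4
    have hone : sy ![1, 1, 1, 0, 0, 0] = 1 := by
      ext i j
      fin_cases i <;> fin_cases j <;> rfl
    have := h1 ![1, 1, 1, 0, 0, 0]
    rwa [hone, Matrix.mul_one] at this
  · intro hn
    rw [mem_normalizer_iff]
    intro a
    refine ⟨fun ha => P0_normal hn ha, fun ha => ?_⟩
    have h1 := P0_normal (inv_mem hn) ha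
    have h2 : n⁻¹ * (n * a * n⁻¹) * n⁻¹⁻¹ = a := by group
    rwa [h2] at h1

/-- the section -/
def sec (U : K3) : Sp.S :=
  ⟨fromBlocks (U : M3) 0 0 ((U⁻¹ : K3) : M3)ᵀ, SymplecticGroup.fromBlocks_mem_iff.2 (by
    refine ⟨by simp, by simp, ?_⟩
    rw [← transpose_mul, ← Units.val_mul, inv_mul_cancel, Units.val_one]
    simp)⟩

theorem sec11 (U : K3) : (sec U : M6).toBlocks₁₁ = U := toBlocks_fromBlocks₁₁ _ _ _ _
theorem sec12 (U : K3) : (sec U : M6).toBlocks₁₂ = 0 := toBlocks_fromBlocks₁₂ _ _ _ _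
theorem sec21 (U : K3) : (sec U : M6).toBlocks₂₁ = 0 := toBlocks_fromBlocks₂₁ _ _ _ _
theorem sec22 (U : K3) : (sec U : M6).toBlocks₂₂ = ((U⁻¹ : K3) : M3)ᵀ := toBlocks_fromBlocks₂₂ _ _ _ _

theorem sec_mem (U : K3) : sec U ∈ P0 := sec21 U

theorem sec_mul (U V : K3) : sec U * sec V = sec (U * V) := by
  apply Subtype.ext
  change (sec U : M6) * (sec V : M6) = _
  apply ext_blocks
  · rw [mul11, sec11, sec12, sec11, sec21, sec11]; simp
  · rw [mul12, sec11, sec12, sec12, sec22, sec12]; simp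
  · rw [mul21, sec21, sec22, sec11, sec21, sec21]; simp
  · rw [mul22, sec21, sec22, sec12, sec22, sec22, _root_.mul_inv_rev, Units.val_mul, transpose_mul]; simp

theorem sec_one : sec 1 = 1 := by
  have h : sec 1 * sec 1 = sec 1 := by rw [sec_mul, mul_one]
  exact mul_eq_left.1 h

/-- the hom onto `GL₃(2)` -/
def th : P0 →* K3 := blk.toHomUnits

theorem th_coe (g : P0) : ((th g : K3) : M3) = ((g : Sp.S) : M6).toBlocks₁₁ := rfl

theorem th_sec (U : K3) : th ⟨sec U, sec_mem U⟩ = U := Units.ext (by rw [th_coe]; exact sec11 U)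

theorem th_eq_one (g : P0) : th g = 1 ↔ (g : Sp.S) ∈ A0 := by
  rw [mem_A0, ← th_coe]
  constructor
  · intro h
    exact ⟨g.2, by rw [h]; rfl⟩
  · rintro ⟨-, h⟩
    exact Units.ext h

theorem card_P0 : Nat.card P0 = 10752 := by
  have h1 : Nat.card th.ker = 64 := by
    rw [← card_A0]
    refine Nat.card_congr ⟨fun g => ⟨(g : P0), (th_eq_one _).1 g.2⟩, fun a => ⟨⟨a, A0_le a.2⟩, (th_eq_one _).2 a.2⟩,
      fun g => rfl, fun a => rfl⟩
  have h2 : Nat.card th.range = 168 := by
    have h3 : th.range = ⊤ := by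
      rw [MonoidHom.range_eq_top]
      exact fun U => ⟨_, th_sec U⟩
    rw [h3, card_top, Matrix.card_GL_field]
    simp only [Fin.prod_univ_three, ZMod.card, _root_.Nat.reducePow, _root_.Fin.isValue, _root_.Fin.coe_ofNat_eq_mod, _root_.Nat.zero_mod, _root_.pow_zero, _root_.Nat.add_one_sub_one, _root_.Nat.one_mod, _root_.pow_one, _root_.Nat.reduceSub, _root_.Nat.reduceMul, _root_.Nat.mod_succ]
  have h3 := th.ker.card_mul_index
  rw [index_ker, h1, h2] at h3
  rw [← h3]

theorem index_P0 : P0.index = 135 := by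
  have h := P0.card_mul_index
  rw [card_P0, Sp.card_S] at h
  omega

/-- lifting of involutions -/
theorem A0_lift {n : Sp.S} (hn : n ∈ P0) (hnn : n * n ∈ A0) : ∃ a ∈ A0, (n * a) * (n * a) = 1 := by
  set U : K3 := th ⟨n, hn⟩ with hU
  have hUU : U * U = 1 := by
    rw [hU, ← map_mul, th_eq_one]
    exact hnn
  refine ⟨n⁻¹ * sec U, ?_, ?_⟩
  · have h1 : th (⟨n, hn⟩⁻¹ * ⟨sec U, sec_mem U⟩) = 1 := by
      rw [map_mul, map_inv, th_sec, ← hU, inv_mul_cancel]
    exact ((th_eq_one _).1 h1 :)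
  · rw [mul_inv_cancel_left, sec_mul, hUU, sec_one]

/-- elementary abelian subgroups of `P0` -/
theorem eq_A0 {B : Subgroup Sp.S} (hB : B ≤ P0) (hsq : ∀ x ∈ B, x * x = 1) (hcard : 64 ≤ Nat.card B) : B = A0 := by
  classical
  have hcomm : ∀ x ∈ B, ∀ y ∈ B, x * y = y * x := fun x hx y hy => QLevel.comm_of_sq hsq hx hy
  by_cases hle : B ≤ A0
  · apply eq_of_le_of_card_ge hle
    rw [card_A0]; exact hcard
  exfalso
  rw [SetLike.not_le_iff_exists] at hle
  obtain ⟨b, hb, hbA⟩ := hle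
  -- the matrix of `b`
  have hform : ∀ c ∈ B, (c : M6).toBlocks₁₁ ≠ 1 → ∃ w φ, Inv w φ ∧ (c : M6).toBlocks₁₁ = 1 + vecMulVec w φ := by
    intro c hc hc1
    have h1 : (c : M6).toBlocks₁₁ * (c : M6).toBlocks₁₁ = 1 := by
      have h2 := congrArg (fun g : Sp.S => (g : M6).toBlocks₁₁) (hsq c hc)
      change ((c : M6) * (c : M6)).toBlocks₁₁ = (1 : M6).toBlocks₁₁ at h2
      rw [mul11, mem_P0.1 (hB hc), Matrix.mul_zero, add_zero, one11] at h2
      exact h2
    rcases r1 _ h1 with h2 | ⟨w, φ, h2, h3⟩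
    · exact absurd h2 hc1
    · exact ⟨w, φ, h2, h3⟩
  have hb1 : (b : M6).toBlocks₁₁ ≠ 1 := fun h => hbA (mem_A0.2 ⟨hB hb, h⟩)
  obtain ⟨w, φ, hwφ, hbM⟩ := hform b hb hb1
  -- elements of `A` commuting with `c`
  have hfix : ∀ c ∈ B, ∀ w φ, Inv w φ → (c : M6).toBlocks₁₁ = 1 + vecMulVec w φ → ∀ x, ua x ∈ B →
      sy x *ᵥ φ = 0 ∨ sy x *ᵥ φ = w := by
    intro c hc w φ hi hM x hx
    have h1 : (c : M6) * (ua x : M6) = (ua x : M6) * (c : M6) := congrArg Subtype.val (hcomm c hc _ hx)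
    have h2 := congrArg Matrix.toBlocks₁₂ h1
    rw [mul12, mul12, ua12, ua22, ua11, Matrix.mul_one, Matrix.one_mul, add_comm ((c : M6).toBlocks₁₂)] at h2
    have h3 := add_right_cancel h2
    have h4 : (c : M6).toBlocks₂₂ = (c : M6).toBlocks₁₁ᵀ := by
      have h5 := blk22 (hB hc)
      have h6 : (c : M6).toBlocks₁₁ᵀ * (c : M6).toBlocks₁₁ᵀ = 1 := by
        rw [← transpose_mul]
        have h2 := congrArg (fun g : Sp.S => (g : M6).toBlocks₁₁) (hsq c hc)
        change ((c : M6) * (c : M6)).toBlocks₁₁ = (1 : M6).toBlocks₁₁ at h2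
        rw [mul11, mem_P0.1 (hB hc), Matrix.mul_zero, add_zero, one11] at h2
        rw [h2, transpose_one]
      calc (c : M6).toBlocks₂₂ = ((c : M6).toBlocks₁₁ᵀ * (c : M6).toBlocks₁₁ᵀ) * (c : M6).toBlocks₂₂ := by
            rw [h6, Matrix.one_mul]
        _ = (c : M6).toBlocks₁₁ᵀ := by rw [Matrix.mul_assoc, h5, Matrix.mul_one]
    rw [h4, hM, transpose_add, transpose_one, transpose_vecMulVec, Matrix.add_mul, Matrix.mul_add, Matrix.one_mul,
      Matrix.mul_one, vecMulVec_mul, mul_vecMulVec] at h3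
    have h5 := add_left_cancel h3
    have h6 : φ ᵥ* sy x = sy x *ᵥ φ := by
      rw [← sy_symm x, vecMul_transpose, sy_symm]
    rw [h6] at h5
    rcases r2 _ _ h5 with h7 | h7 | h7
    · exact absurd h7 hi.1
    · exact Or.inl h7
    · exact Or.inr h7
  -- the number of elements of `B ∩ A`
  have hcount : ∀ F : Finset (Fin 6 → ZMod 2), (∀ x, ua x ∈ B → x ∈ F) → Nat.card (B ⊓ A0 : Subgroup Sp.S) ≤ F.card := by
    intro F hF
    have h1 : ∀ g : (B ⊓ A0 : Subgroup Sp.S), ∃ x, (g : Sp.S) = ua x := fun g => exists_ua (mem_inf.1 g.2).2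
    choose f hf using h1
    have h2 : Nat.card (B ⊓ A0 : Subgroup Sp.S) ≤ Nat.card F := by
      refine Nat.card_le_card_of_injective (fun g => (⟨f g, hF _ ?_⟩ : F)) ?_
      · rw [← hf]; exact (mem_inf.1 g.2).1
      · intro g g' h
        have h3 := congrArg (Subtype.val : F → _) h
        apply Subtype.ext
        rw [hf, hf]
        exact congrArg ua h3
    have h5 : Nat.card F = F.card := by rw [Nat.card_eq_fintype_card, Fintype.card_coe]
    rwa [h5] at h2
  -- the image of `B` in `GL₃(2)`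
  let ψ : B →* K3 := th.comp (inclusion hB)
  have hker : Nat.card ψ.ker = Nat.card (B ⊓ A0 : Subgroup Sp.S) := by
    refine Nat.card_congr ⟨fun g => ⟨(g : B), mem_inf.2 ⟨(g : B).2, (th_eq_one _).1 g.2⟩⟩,
      fun a => ⟨⟨a, (mem_inf.1 a.2).1⟩, (th_eq_one _).2 (mem_inf.1 a.2).2⟩, fun g => rfl, fun a => rfl⟩
  have hB2 : Nat.card B = Nat.card (B ⊓ A0 : Subgroup Sp.S) * Nat.card ψ.range := by
    rw [← hker, ← index_ker, card_mul_index]
  have hrange : ∀ F : Finset K3, (∀ c : B, ψ c ∈ F) → Nat.card ψ.range ≤ F.card := by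
    intro F hF
    have h2 : Nat.card ψ.range ≤ Nat.card F := by
      refine Nat.card_le_card_of_injective (fun g => (⟨g, ?_⟩ : F)) ?_
      · obtain ⟨g, c, rfl⟩ := g
        exact hF c
      · intro g g' h
        exact Subtype.ext (congrArg (Subtype.val : F → _) h)
    have h5 : Nat.card F = F.card := by rw [Nat.card_eq_fintype_card, Fintype.card_coe]
    rwa [h5] at h2
  have hψ : ∀ c : B, ((ψ c : K3) : M3) = ((c : Sp.S) : M6).toBlocks₁₁ := fun c => rfl
  by_cases h2 : ∀ c ∈ B, (c : M6).toBlocks₁₁ = 1 ∨ (c : M6).toBlocks₁₁ = (b : M6).toBlocks₁₁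
  · have h3 := hrange {1, ψ ⟨b, hb⟩} (by
      intro c
      rw [Finset.mem_insert, Finset.mem_singleton]
      rcases h2 c c.2 with h | h
      · exact Or.inl (Units.ext (by rw [hψ, h]; rfl))
      · exact Or.inr (Units.ext (by rw [hψ, hψ, h])))
    have h4 := hcount _ (fun x hx => Finset.mem_filter.2 ⟨Finset.mem_univ x, hfix b hb w φ hwφ hbM x hx⟩)
    have h5 := h4.trans (r4 w φ hwφ)
    have h6 : ({1, ψ ⟨b, hb⟩} : Finset K3).card ≤ 2 := Finset.card_le_two
    nlinarith only [hcard, hB2, h3, h5, h6]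
  · push Not at h2
    obtain ⟨c, hc, hc1, hcb⟩ := h2
    obtain ⟨w', φ', hi', hcM⟩ := hform c hc hc1
    have hmulM : ∀ x ∈ B, ∀ y ∈ B, ((x * y : Sp.S) : M6).toBlocks₁₁ = (x : M6).toBlocks₁₁ * (y : M6).toBlocks₁₁ := by
      intro x hx y hy
      change ((x : M6) * (y : M6)).toBlocks₁₁ = _
      rw [mul11, mem_P0.1 (hB hy), Matrix.mul_zero, add_zero]
    have hcommM : ∀ x ∈ B, ∀ y ∈ B, (x : M6).toBlocks₁₁ * (y : M6).toBlocks₁₁ =
        (y : M6).toBlocks₁₁ * (x : M6).toBlocks₁₁ := by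
      intro x hx y hy
      rw [← hmulM x hx y hy, ← hmulM y hy x hx, hcomm x hx y hy]
    have hcom : ∀ x ∈ B, ∀ y ∈ B, ∀ u ψ v χ, Inv u ψ → Inv v χ → (x : M6).toBlocks₁₁ = 1 + vecMulVec u ψ →
        (y : M6).toBlocks₁₁ = 1 + vecMulVec v χ → Com u ψ v χ := by
      intro x hx y hy u ψ v χ h1 h2 h3 h4
      apply r3 u ψ h1 v χ h2
      rw [← h3, ← h4]
      exact hcommM x hx y hy
    have hD : ComD w φ w' φ' := by
      refine ⟨hi', hcom b hb c hc _ _ _ _ hwφ hi' hbM hcM, ?_⟩
      by_contra hne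
      push Not at hne
      apply hcb
      rw [hbM, hcM, hne.1, hne.2]
    have h3 := hrange {1, ψ ⟨b, hb⟩, ψ ⟨c, hc⟩, ψ ⟨b, hb⟩ * ψ ⟨c, hc⟩} (by
      intro d
      rw [Finset.mem_insert, Finset.mem_insert, Finset.mem_insert, Finset.mem_singleton]
      by_cases hd1 : ((d : Sp.S) : M6).toBlocks₁₁ = 1
      · exact Or.inl (Units.ext (by rw [hψ, hd1]; rfl))
      · right
        obtain ⟨u, χ, hi, hdM⟩ := hform d d.2 hd1
        have h4 := r6 w φ hwφ w' φ' hD u χ ⟨hi, hcom b hb d d.2 _ _ _ _ hwφ hi hbM hdM,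
          hcom c hc d d.2 _ _ _ _ hi' hi hcM hdM⟩
        rw [← hbM, ← hcM, ← hdM] at h4
        rcases h4 with h4 | h4 | h4
        · exact Or.inl (Units.ext (by rw [hψ, hψ, h4]))
        · exact Or.inr (Or.inl (Units.ext (by rw [hψ, hψ, h4])))
        · exact Or.inr (Or.inr (Units.ext (by rw [Units.val_mul, hψ, hψ, hψ, h4]))))
    have h4 := hcount (Finset.univ.filter fun x : Fin 6 → ZMod 2 => (sy x *ᵥ φ = 0 ∨ sy x *ᵥ φ = w) ∧
      (sy x *ᵥ φ' = 0 ∨ sy x *ᵥ φ' = w')) (fun x hx => Finset.mem_filter.2 ⟨Finset.mem_univ x,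
      hfix b hb w φ hwφ hbM x hx, hfix c hc w' φ' hi' hcM x hx⟩)
    have h5 := h4.trans (r5 w φ hwφ w' φ' hD)
    have h6 : ({1, ψ ⟨b, hb⟩, ψ ⟨c, hc⟩, ψ ⟨b, hb⟩ * ψ ⟨c, hc⟩} : Finset K3).card ≤ 4 := Finset.card_le_four
    nlinarith only [hcard, hB2, h3, h5, h6]

/-- a `2`-subgroup is conjugate into a subgroup of odd index -/
theorem exists_conj_le {X : Type*} [Group X] [Finite X] (P B : Subgroup X) (hodd : Odd P.index)
    (hB : IsPGroup 2 B) : ∃ l : X, ∀ b ∈ B, l⁻¹ * b * l ∈ P := by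
  have : Fact (Nat.Prime 2) := ⟨Nat.prime_two⟩
  have h1 := hB.card_modEq_card_fixedPoints (X ⧸ P)
  have h2 : (MulAction.fixedPoints B (X ⧸ P)).Nonempty := by
    by_contra hne
    rw [Set.not_nonempty_iff_eq_empty] at hne
    rw [hne] at h1
    have h3 : Nat.card (∅ : Set (X ⧸ P)) = 0 := by simp
    rw [h3] at h1
    have h4 : Nat.card (X ⧸ P) = P.index := rfl
    rw [h4] at h1
    have h5 : P.index % 2 = 0 := h1
    rw [Nat.odd_iff] at hodd
    omega
  obtain ⟨q, hq⟩ := h2
  obtain ⟨l, rfl⟩ := QuotientGroup.mk_surjective q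
  refine ⟨l, fun b hb => ?_⟩
  have h3 : ((b * l : X) : X ⧸ P) = (l : X ⧸ P) := hq ⟨b, hb⟩
  rw [eq_comm, QuotientGroup.eq, ← mul_assoc] at h3
  exact h3

theorem facts_A0 : Facts A0 where
  sq _ hx := A0_sq hx
  card := card_A0
  sat := by
    intro B hsq hcard
    have hp : IsPGroup 2 B := by
      intro x
      refine ⟨1, Subtype.ext ?_⟩
      rw [pow_one, pow_two]
      exact hsq x x.2
    obtain ⟨l, hl⟩ := exists_conj_le P0 B (by rw [index_P0]; decide) hp
    refine ⟨l, ?_⟩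
    set B' : Subgroup Sp.S := B.map (MulAut.conj l⁻¹).toMonoidHom with hB'
    have hmem : ∀ x, x ∈ B' ↔ l * x * l⁻¹ ∈ B := by
      intro x
      rw [hB', QLevel.Data.mem_map_conj, inv_inv]
    have hB'P : B' ≤ P0 := by
      intro x hx
      have := hl _ ((hmem x).1 hx)
      have h2 : l⁻¹ * (l * x * l⁻¹) * l = x := by group
      rwa [h2] at this
    have hsq' : ∀ x ∈ B', x * x = 1 := by
      intro x hx
      have h1 := hsq _ ((hmem x).1 hx)
      have h3 : x * x = l⁻¹ * (l * x * l⁻¹ * (l * x * l⁻¹)) * l := by group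
      rw [h3, h1]; group
    have hcard' : 64 ≤ Nat.card B' := by
      rw [QLevel.Data.card_conj_of_iff (l := l⁻¹) (A := B) (fun x => by rw [inv_inv]; exact hmem x)]
      exact hcard
    have := eq_A0 hB'P hsq' hcard'
    intro x
    rw [← this, hmem]
    have h2 : l * (l⁻¹ * x * l) * l⁻¹ = x := by group
    rw [h2]
  CA := A0_CA
  odd := by rw [normalizer_A0, index_P0]; decide
  lift n hn hnn := by
    rw [normalizer_A0] at hn
    exact A0_lift hn hnn
  quo := by
    refine ⟨th.comp (MulEquiv.subgroupCongr normalizer_A0).toMonoidHom, ?_, ?_⟩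
    · intro U
      refine ⟨⟨sec U, by rw [normalizer_A0]; exact sec_mem U⟩, ?_⟩
      exact th_sec U
    · intro n
      exact th_eq_one _

end Cfsg.Agent.StdSpSix.QLevelModel
end

-- part: StdSpSix/ModelES
section
/-!
# The extraspecial group of order 32 of plus type, as a model

`(i,j,k,l,m)` stands for `t ^ i * w ^ j * a ^ k * b ^ l * z ^ m`, with `w t = t w z`, `b a = a b z`.
-/

set_option autoImplicit false

namespace Cfsg.Agent.StdSpSix.ModelES

/-- The model. -/
@[ext]
structure ES where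
  i : ZMod 2
  j : ZMod 2
  k : ZMod 2
  l : ZMod 2
  m : ZMod 2
deriving DecidableEq

namespace ES

instance : Mul ES := ⟨fun u v => ⟨u.i + v.i, u.j + v.j, u.k + v.k, u.l + v.l,
  u.m + v.m + u.j * v.i + u.l * v.k⟩⟩

instance : One ES := ⟨⟨0, 0, 0, 0, 0⟩⟩

instance : Inv ES := ⟨fun v => ⟨v.i, v.j, v.k, v.l, v.m + v.j * v.i + v.l * v.k⟩⟩

@[simp] theorem mul_i (u v : ES) : (u * v).i = u.i + v.i := rfl
@[simp] theorem mul_j (u v : ES) : (u * v).j = u.j + v.j := rfl
@[simp] theorem mul_k (u v : ES) : (u * v).k = u.k + v.k := rfl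
@[simp] theorem mul_l (u v : ES) : (u * v).l = u.l + v.l := rfl
@[simp] theorem mul_m (u v : ES) : (u * v).m = u.m + v.m + u.j * v.i + u.l * v.k := rfl
@[simp] theorem one_i : (1 : ES).i = 0 := rfl
@[simp] theorem one_j : (1 : ES).j = 0 := rfl
@[simp] theorem one_k : (1 : ES).k = 0 := rfl
@[simp] theorem one_l : (1 : ES).l = 0 := rfl
@[simp] theorem one_m : (1 : ES).m = 0 := rfl
@[simp] theorem inv_i (v : ES) : (v⁻¹).i = v.i := rfl
@[simp] theorem inv_j (v : ES) : (v⁻¹).j = v.j := rfl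
@[simp] theorem inv_k (v : ES) : (v⁻¹).k = v.k := rfl
@[simp] theorem inv_l (v : ES) : (v⁻¹).l = v.l := rfl
@[simp] theorem inv_m (v : ES) : (v⁻¹).m = v.m + v.j * v.i + v.l * v.k := rfl

instance : Group ES where
  mul_assoc u v w := by ext <;> simp only [_root_.Cfsg.Agent.StdSpSix.ModelES.ES.mul_i, _root_.Cfsg.Agent.StdSpSix.ModelES.ES.mul_j, _root_.Cfsg.Agent.StdSpSix.ModelES.ES.mul_k, _root_.Cfsg.Agent.StdSpSix.ModelES.ES.mul_l, _root_.Cfsg.Agent.StdSpSix.ModelES.ES.mul_m] <;> ring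
  one_mul u := by ext <;> simp
  mul_one u := by ext <;> simp
  inv_mul_cancel u := by
    ext
    · simp [CharTwo.add_self_eq_zero]
    · simp [CharTwo.add_self_eq_zero]
    · simp [CharTwo.add_self_eq_zero]
    · simp [CharTwo.add_self_eq_zero]
    · simp only [mul_m, inv_m, inv_j, inv_l, one_m]
      have h : u.m + u.j * u.i + u.l * u.k + u.m + u.j * u.i + u.l * u.k =
        (u.m + u.j * u.i + u.l * u.k) + (u.m + u.j * u.i + u.l * u.k) := by ring
      rw [h, CharTwo.add_self_eq_zero]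

/-- coordinates -/
def equivProd : ES ≃ ZMod 2 × ZMod 2 × ZMod 2 × ZMod 2 × ZMod 2 where
  toFun v := (v.i, v.j, v.k, v.l, v.m)
  invFun p := ⟨p.1, p.2.1, p.2.2.1, p.2.2.2.1, p.2.2.2.2⟩
  left_inv _ := rfl
  right_inv _ := rfl

instance : Fintype ES := Fintype.ofEquiv _ equivProd.symm

theorem card : Nat.card ES = 32 := by
  rw [Nat.card_congr equivProd]
  simp

end ES

/-- The sign of a bit. -/
def sgn (x : ZMod 2) : ℤˣ := if x = 0 then 1 else -1

theorem sgn_add : ∀ x y : ZMod 2, sgn (x + y) = sgn x * sgn y := by decide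

theorem sgn_eq : ∀ x : ZMod 2, sgn x = -1 ↔ x = 1 := by decide

/-- The sign of the model: `(-1) ^ i * nu ^ j`. -/
def lam (e : ZMod 2) : ES →* ℤˣ where
  toFun v := sgn (v.i + e * v.j)
  map_one' := by simp [sgn]
  map_mul' u v := by
    rw [← sgn_add]
    congr 1
    simp only [ES.mul_i, ES.mul_j]
    ring

theorem lam_eq (e : ZMod 2) (v : ES) : lam e v = -1 ↔ v.i + e * v.j = 1 := sgn_eq _

section Map

variable {X : Type*} [Group X]

/-- Power of an involution. -/
def pw (x : X) (i : ZMod 2) : X := if i = 0 then 1 else x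

@[simp] theorem pw_zero (x : X) : pw x 0 = 1 := rfl
@[simp] theorem pw_one (x : X) : pw x 1 = x := rfl

theorem cases2 : ∀ i : ZMod 2, i = 0 ∨ i = 1 := by decide

theorem pw_add {x : X} (hx : x * x = 1) (i j : ZMod 2) : pw x (i + j) = pw x i * pw x j := by
  rcases cases2 i with rfl | rfl <;> rcases cases2 j with rfl | rfl
  · simp
  · simp
  · simp
  · rw [CharTwo.add_self_eq_zero]; simp [hx]

theorem pw_comm {x y : X} (h : x * y = y * x) (i j : ZMod 2) : pw x i * pw y j = pw y j * pw x i := by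
  rcases cases2 i with rfl | rfl <;> rcases cases2 j with rfl | rfl <;> simp [h]

theorem pw_twist {x y z : X} (h : y * x = x * y * z) (i j : ZMod 2) :
    pw y j * pw x i = pw x i * pw y j * pw z (j * i) := by
  rcases cases2 i with rfl | rfl <;> rcases cases2 j with rfl | rfl <;> simp [h]

/-- Relations for the model. -/
structure Rel (t w a b z : X) : Prop where
  tt : t * t = 1
  ww : w * w = 1
  aa : a * a = 1
  bb : b * b = 1
  zz : z * z = 1
  wt : w * t = t * w * z
  ba : b * a = a * b * z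
  ta : t * a = a * t
  tb : t * b = b * t
  tz : t * z = z * t
  wa : w * a = a * w
  wb : w * b = b * w
  wz : w * z = z * w
  az : a * z = z * a
  bz : b * z = z * b

variable {t w a b z : X}

/-- The map of the model. -/
def mapFun (t w a b z : X) (v : ES) : X := pw t v.i * pw w v.j * (pw a v.k * pw b v.l) * pw z v.m

theorem swap3 {x y : X} (h : x * y = y * x) (q : X) : x * (y * q) = y * (x * q) := by
  rw [← mul_assoc, h, mul_assoc]

theorem swap4 {x y r : X} (h : x * y = y * x * r) (q : X) : x * (y * q) = y * (x * (r * q)) := by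
  rw [← mul_assoc, h, mul_assoc, mul_assoc]

theorem reorder {T1 T2 W1 W2 A1 A2 B1 B2 Z1 Z2 R S : X} (h1 : W1 * T2 = T2 * W1 * R)
    (h2 : B1 * A2 = A2 * B1 * S)
    (hZ : ∀ x, x = T2 ∨ x = W2 ∨ x = A2 ∨ x = B2 → Z1 * x = x * Z1)
    (hR : ∀ x, x = W2 ∨ x = A1 ∨ x = A2 ∨ x = B1 ∨ x = B2 ∨ x = Z1 ∨ x = Z2 → R * x = x * R)
    (hS : ∀ x, x = B2 ∨ x = Z1 ∨ x = Z2 ∨ x = R → S * x = x * S)
    (hA : ∀ x, x = T2 ∨ x = W2 → A1 * x = x * A1)
    (hB : ∀ x, x = T2 ∨ x = W2 → B1 * x = x * B1) :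
    T1 * T2 * (W1 * W2) * ((A1 * A2) * (B1 * B2)) * (Z1 * Z2 * R * S) =
      T1 * W1 * (A1 * B1) * Z1 * (T2 * W2 * (A2 * B2) * Z2) := by
  have e1 : Z1 * (T2 * W2 * (A2 * B2) * Z2) = (T2 * W2 * (A2 * B2)) * (Z1 * Z2) := by
    have a1 := hZ T2 (by simp)
    have a2 := hZ W2 (by simp)
    have a3 := hZ A2 (by simp)
    have a4 := hZ B2 (by simp)
    simp only [mul_assoc]
    rw [swap3 a1, swap3 a2, swap3 a3, swap3 a4]
  have e2 : (A1 * B1) * (T2 * W2) = (T2 * W2) * (A1 * B1) := by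
    have a1 := hA T2 (by simp)
    have a2 := hA W2 (by simp)
    have a3 := hB T2 (by simp)
    have a4 := hB W2 (by simp)
    simp only [mul_assoc]
    rw [swap3 a3, a4, swap3 a1, swap3 a2]
  have e3 : T1 * W1 * (T2 * W2) = T1 * T2 * (W1 * W2) * R := by
    have a1 := hR W2 (by simp)
    simp only [mul_assoc]
    rw [swap4 h1, a1]
  have e4 : A1 * B1 * (A2 * B2) = A1 * A2 * (B1 * B2) * S := by
    have a1 := hS B2 (by simp)
    simp only [mul_assoc]
    rw [swap4 h2, a1]
  have e5 : R * (A1 * A2 * (B1 * B2) * (Z1 * Z2)) = (A1 * A2 * (B1 * B2) * (Z1 * Z2)) * R := by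
    have a1 := hR A1 (by simp)
    have a2 := hR A2 (by simp)
    have a3 := hR B1 (by simp)
    have a4 := hR B2 (by simp)
    have a5 := hR Z1 (by simp)
    have a6 := hR Z2 (by simp)
    simp only [mul_assoc]
    rw [swap3 a1, swap3 a2, swap3 a3, swap3 a4, swap3 a5, a6]
  have e6 : S * (Z1 * Z2) = (Z1 * Z2) * S := by
    have a1 := hS Z1 (by simp)
    have a2 := hS Z2 (by simp)
    simp only [mul_assoc]
    rw [swap3 a1, a2]
  have e7 : S * R = R * S := hS R (by simp)
  symm
  calc T1 * W1 * (A1 * B1) * Z1 * (T2 * W2 * (A2 * B2) * Z2)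
      = T1 * W1 * (A1 * B1) * (Z1 * (T2 * W2 * (A2 * B2) * Z2)) := by simp only [mul_assoc]
    _ = T1 * W1 * ((A1 * B1) * (T2 * W2)) * (A2 * B2) * (Z1 * Z2) := by
        rw [e1]; simp only [mul_assoc]
    _ = T1 * W1 * (T2 * W2) * (A1 * B1 * (A2 * B2)) * (Z1 * Z2) := by
        rw [e2]; simp only [mul_assoc]
    _ = T1 * T2 * (W1 * W2) * R * (A1 * A2 * (B1 * B2)) * (S * (Z1 * Z2)) := by
        rw [e3, e4]; simp only [mul_assoc]
    _ = T1 * T2 * (W1 * W2) * (R * (A1 * A2 * (B1 * B2) * (Z1 * Z2))) * S := by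
        rw [e6]; simp only [mul_assoc]
    _ = T1 * T2 * (W1 * W2) * ((A1 * A2) * (B1 * B2)) * (Z1 * Z2 * R * S) := by
        rw [e5]; simp only [mul_assoc]

theorem mapFun_mul (R : Rel t w a b z) (u v : ES) :
    mapFun t w a b z (u * v) = mapFun t w a b z u * mapFun t w a b z v := by
  unfold mapFun
  simp only [ES.mul_i, ES.mul_j, ES.mul_k, ES.mul_l, ES.mul_m]
  rw [pw_add R.tt, pw_add R.ww, pw_add R.aa, pw_add R.bb, pw_add R.zz, pw_add R.zz, pw_add R.zz]
  apply reorder (pw_twist R.wt v.i u.j) (pw_twist R.ba v.k u.l)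
  · rintro x (rfl | rfl | rfl | rfl)
    · exact pw_comm R.tz.symm _ _
    · exact pw_comm R.wz.symm _ _
    · exact pw_comm R.az.symm _ _
    · exact pw_comm R.bz.symm _ _
  · rintro x (rfl | rfl | rfl | rfl | rfl | rfl | rfl)
    · exact pw_comm R.wz.symm _ _
    · exact pw_comm R.az.symm _ _
    · exact pw_comm R.az.symm _ _
    · exact pw_comm R.bz.symm _ _
    · exact pw_comm R.bz.symm _ _
    · exact pw_comm rfl _ _
    · exact pw_comm rfl _ _
  · rintro x (rfl | rfl | rfl | rfl)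
    · exact pw_comm R.bz.symm _ _
    · exact pw_comm rfl _ _
    · exact pw_comm rfl _ _
    · exact pw_comm rfl _ _
  · rintro x (rfl | rfl)
    · exact pw_comm R.ta.symm _ _
    · exact pw_comm R.wa.symm _ _
  · rintro x (rfl | rfl)
    · exact pw_comm R.tb.symm _ _
    · exact pw_comm R.wb.symm _ _

/-- The homomorphism of the model. -/
def map (R : Rel t w a b z) : ES →* X where
  toFun := mapFun t w a b z
  map_one' := by simp [mapFun]
  map_mul' := mapFun_mul R

theorem map_apply (R : Rel t w a b z) (v : ES) :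
    map R v = pw t v.i * pw w v.j * (pw a v.k * pw b v.l) * pw z v.m := rfl

end Map

end Cfsg.Agent.StdSpSix.ModelES
end

-- part: StdSpSix/LThree
section
/-!
# LEMMA L32: centralizer of an involution `⟨t⟩ × L3(2)`, `D ∩ C(t) = {t} ∪ t I(L3(2))`

`X` finite, `t` an involution, `Y` commutes with `t`, `C_X(t) = ⟨t⟩ Y`, `Y` has the 2-local facts of
`L3(2)`, all `t y`, `y² = 1`, are conjugate to `t` and no element of `Y` is.  Then there is a
homomorphism `X → {1,-1}` with value `-1` at `t`.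
-/

set_option autoImplicit false

namespace Cfsg.Agent.StdSpSix.LThree

open Subgroup Cfsg.Agent.StdSpSix.ModelES Cfsg.Agent.StdSpSix.TRCount

variable {X : Type*} [Group X]

/-- The 2-local facts of `L3(2)`: `a`, `b` noncentral involutions of a Sylow 2-group
`D8 = ⟨a, b⟩`, `z = abab`. -/
structure Facts (Y : Subgroup X) (a b z : X) : Prop where
  ha : a ∈ Y
  hb : b ∈ Y
  aa : a * a = 1
  bb : b * b = 1
  hz : a * b * a * b = z
  z1 : z ≠ 1
  zz : z * z = 1
  card : ∃ m, Odd m ∧ Nat.card Y = 8 * m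
  cen : ∀ y ∈ Y, y * a = a * y → y * z = z * y → y = 1 ∨ y = a ∨ y = z ∨ y = a * z
  rot : ∀ u ∈ Y, ∀ v ∈ Y, u * u = 1 → v * v = 1 → u ≠ 1 → v ≠ 1 → u ≠ v → u * v = v * u →
    ∃ y ∈ Y, y * u * y⁻¹ = v ∧ y * v * y⁻¹ = u * v

/-- `C_X(t) = ⟨t⟩ Y`, with pattern ALL. -/
structure Cent (t : X) (Y : Subgroup X) : Prop where
  tt : t * t = 1
  comm : ∀ y ∈ Y, t * y = y * t
  cent : ∀ g, g * t = t * g → g ∈ Y ∨ t * g ∈ Y
  hD1 : ∀ y ∈ Y, y * y = 1 → IsConj t (t * y)
  hD0 : ∀ y ∈ Y, ¬ IsConj t y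

namespace Cent

variable {t : X} {Y : Subgroup X}

theorem t_not_mem (C : Cent t Y) : t ∉ Y := fun h => C.hD0 t h (IsConj.refl t)

theorem t_ne (C : Cent t Y) : t ≠ 1 := fun h => C.t_not_mem (h ▸ Y.one_mem)

theorem conj_sq (C : Cent t Y) {d : X} (h : IsConj t d) : d * d = 1 := by
  obtain ⟨g, rfl⟩ := isConj_iff.1 h
  calc g * t * g⁻¹ * (g * t * g⁻¹) = g * (t * t) * g⁻¹ := by group
    _ = 1 := by rw [C.tt]; group

/-- Conjugation of commuting elements. -/
theorem comm_conj {g x y : X} (h : x * y = y * x) :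
    (g * x * g⁻¹) * (g * y * g⁻¹) = (g * y * g⁻¹) * (g * x * g⁻¹) := by
  calc (g * x * g⁻¹) * (g * y * g⁻¹) = g * (x * y) * g⁻¹ := by group
    _ = (g * y * g⁻¹) * (g * x * g⁻¹) := by rw [h]; group

theorem isConj_conj {g x y : X} (h : IsConj x y) : IsConj x (g * y * g⁻¹) :=
  h.trans (isConj_iff.2 ⟨g, rfl⟩)

theorem isConj_of_conj {g x y : X} (h : IsConj x (g * y * g⁻¹)) : IsConj x y :=
  h.trans (isConj_iff.2 ⟨g⁻¹, by group⟩)

/-- Commuting distinct conjugates of `t` have product not conjugate to `t`. -/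
theorem mul_not (C : Cent t Y) {c d : X} (hc : IsConj t c) (hd : IsConj t d) (h : c * d = d * c) :
    ¬ IsConj t (c * d) := by
  obtain ⟨g, hg⟩ := isConj_iff.1 hc.symm
  have h1 := comm_conj (g := g) h
  have h2 := isConj_conj (g := g) hd
  intro h3
  have h4 := isConj_conj (g := g) h3
  have h5 : g * (c * d) * g⁻¹ = (g * c * g⁻¹) * (g * d * g⁻¹) := by group
  rw [h5] at h4
  rw [hg] at h1 h4
  rcases C.cent _ h1.symm with h6 | h6
  · exact C.hD0 _ h6 h2
  · exact C.hD0 _ h6 h4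

/-- The product of a conjugate of `t` and a commuting involution which is not conjugate to `t`. -/
theorem mul_of (C : Cent t Y) {c x : X} (hc : IsConj t c) (hx : x * x = 1) (hxt : ¬ IsConj t x)
    (h : c * x = x * c) : IsConj t (c * x) := by
  obtain ⟨g, hg⟩ := isConj_iff.1 hc.symm
  have h1 := comm_conj (g := g) h
  rw [hg] at h1
  have hx' : (g * x * g⁻¹) * (g * x * g⁻¹) = 1 := by
    calc (g * x * g⁻¹) * (g * x * g⁻¹) = g * (x * x) * g⁻¹ := by group
      _ = 1 := by rw [hx]; group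
  have h5 : g * (c * x) * g⁻¹ = t * (g * x * g⁻¹) := by rw [← hg]; group
  apply isConj_of_conj (g := g)
  rw [h5]
  rcases C.cent _ h1.symm with h6 | h6
  · exact C.hD1 _ h6 hx'
  · exfalso
    have h7 : (t * (g * x * g⁻¹)) * (t * (g * x * g⁻¹)) = 1 := by
      calc (t * (g * x * g⁻¹)) * (t * (g * x * g⁻¹)) = t * ((g * x * g⁻¹) * t) * (g * x * g⁻¹) := by group
        _ = (t * t) * ((g * x * g⁻¹) * (g * x * g⁻¹)) := by rw [← h1]; group
        _ = 1 := by rw [hx', C.tt, one_mul]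
    have h8 := C.hD1 _ h6 h7
    rw [← mul_assoc, C.tt, one_mul] at h8
    exact hxt (isConj_of_conj h8)

end Cent

variable {t : X} {Y : Subgroup X} {a b z : X}

namespace Facts

theorem zmem (F : Facts Y a b z) : z ∈ Y := by
  rw [← F.hz]
  exact Y.mul_mem (Y.mul_mem (Y.mul_mem F.ha F.hb) F.ha) F.hb

theorem az (F : Facts Y a b z) : a * z = z * a := by
  have h1 : z * (b * a * b * a) = 1 := by
    rw [← F.hz]
    calc a * b * a * b * (b * a * b * a) = a * b * a * (b * b) * a * b * a := by group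
      _ = a * b * (a * a) * b * a := by rw [F.bb]; group
      _ = a * (b * b) * a := by rw [F.aa]; group
      _ = 1 := by rw [F.bb, mul_one, F.aa]
  have h2 : b * a * b * a = z := by
    have h3 : z * (b * a * b * a) = z * z := by rw [h1, F.zz]
    exact mul_left_cancel h3
  calc a * z = a * (b * a * b * a) := by rw [h2]
    _ = (a * b * a * b) * a := by group
    _ = z * a := by rw [F.hz]

theorem baba (F : Facts Y a b z) : b * a * b * a = z := by
  have h : a * (b * a * b * a) = a * z := by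
    rw [F.az, ← F.hz]; group
  exact mul_left_cancel h

theorem bz (F : Facts Y a b z) : b * z = z * b := by
  calc b * z = b * (a * b * a * b) := by rw [F.hz]
    _ = (b * a * b * a) * b := by group
    _ = z * b := by rw [F.baba]

theorem ba (F : Facts Y a b z) : b * a = a * b * z := by
  have h : b * a = (b * a * b * a) * (a * b) := by
    calc b * a = b * a * 1 := by rw [mul_one]
      _ = b * a * b * (a * a) * b := by rw [F.aa]; rw [mul_one, mul_one, mul_assoc, mul_assoc, F.bb, mul_one]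
      _ = (b * a * b * a) * (a * b) := by group
  rw [h, F.baba, ← mul_assoc, ← F.az, mul_assoc, ← F.bz, mul_assoc]

theorem a1 (F : Facts Y a b z) : a ≠ 1 := by
  intro h
  apply F.z1
  rw [← F.hz, h, one_mul, mul_one, F.bb]

theorem b1 (F : Facts Y a b z) : b ≠ 1 := by
  intro h
  apply F.z1
  rw [← F.hz, h, mul_one, mul_one, F.aa]

theorem nab (F : Facts Y a b z) : a * b ≠ b * a := by
  intro h
  apply F.z1
  calc z = a * (b * a) * b := by rw [← F.hz]; group
    _ = (a * a) * (b * b) := by rw [← h]; group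
    _ = 1 := by rw [F.aa, F.bb, mul_one]

theorem az1 (F : Facts Y a b z) : a ≠ z := by
  intro h
  have h1 := F.bz
  rw [← h] at h1
  exact F.nab h1.symm

end Facts

/-- Step A: an element `h` with `t ^ h = t z`, centralising `z` and `a`. -/
theorem stepA (C : Cent t Y) (F : Facts Y a b z) :
    ∃ h : X, h * t * h⁻¹ = t * z ∧ h * z = z * h ∧ h * a = a * h := by
  have hzm := F.zmem
  obtain ⟨g, hg⟩ := isConj_iff.1 (C.hD1 z hzm F.zz)
  -- elements of `⟨a, z⟩` lie in `g Y g⁻¹`
  have key : ∀ x ∈ Y, x * z = z * x → x * x = 1 → g⁻¹ * x * g ∈ Y := by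
    intro x hx hxz hxx
    have h1 : (g⁻¹ * x * g) * t = t * (g⁻¹ * x * g) := by
      have h2 : x * (t * z) = (t * z) * x := by
        rw [← mul_assoc, ← C.comm x hx, mul_assoc, hxz, mul_assoc]
      calc (g⁻¹ * x * g) * t = g⁻¹ * (x * (g * t * g⁻¹)) * g := by group
        _ = g⁻¹ * ((t * z) * x) * g := by rw [hg, h2]
        _ = t * (g⁻¹ * x * g) := by rw [← hg]; group
    rcases C.cent _ h1 with h2 | h2
    · exact h2
    · exfalso
      have h3 : t * (g⁻¹ * x * g) = g⁻¹ * (t * (z * x)) * g⁻¹⁻¹ := by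
        rw [← mul_assoc t z x, ← hg]; group
      rw [h3] at h2
      refine C.hD0 _ h2 (Cent.isConj_conj (C.hD1 _ (Y.mul_mem hzm hx) ?_))
      calc z * x * (z * x) = z * (x * z) * x := by group
        _ = (z * z) * (x * x) := by rw [hxz]; group
        _ = 1 := by rw [F.zz, hxx, one_mul]
  have hu := key z hzm rfl F.zz
  have hv := key a F.ha F.az F.aa
  have csq : ∀ x : X, x * x = 1 → (g⁻¹ * x * g) * (g⁻¹ * x * g) = 1 := by
    intro x hx
    calc (g⁻¹ * x * g) * (g⁻¹ * x * g) = g⁻¹ * (x * x) * g := by group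
      _ = 1 := by rw [hx]; group
  have cne : ∀ x : X, x ≠ 1 → g⁻¹ * x * g ≠ 1 := by
    intro x hx h
    apply hx
    calc x = g * (g⁻¹ * x * g) * g⁻¹ := by group
      _ = 1 := by rw [h]; group
  obtain ⟨y, hy, hy1, hy2⟩ := F.rot _ hu _ hv (csq z F.zz) (csq a F.aa) (cne z F.z1) (cne a F.a1)
    (by
      intro h
      apply F.az1
      calc a = g * (g⁻¹ * a * g) * g⁻¹ := by group
        _ = z := by rw [← h]; group)
    (by
      calc g⁻¹ * z * g * (g⁻¹ * a * g) = g⁻¹ * (z * a) * g := by group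
        _ = g⁻¹ * a * g * (g⁻¹ * z * g) := by rw [← F.az]; group)
  obtain ⟨r, hr, hr1, hr2⟩ := F.rot z hzm a F.ha F.zz F.aa F.z1 F.a1 F.az1.symm F.az.symm
  -- `c = g y g⁻¹`
  have c1 : (g * y * g⁻¹) * z * (g * y * g⁻¹)⁻¹ = a := by
    calc (g * y * g⁻¹) * z * (g * y * g⁻¹)⁻¹ = g * (y * (g⁻¹ * z * g) * y⁻¹) * g⁻¹ := by group
      _ = a := by rw [hy1]; group
  have c2 : (g * y * g⁻¹) * a * (g * y * g⁻¹)⁻¹ = z * a := by
    calc (g * y * g⁻¹) * a * (g * y * g⁻¹)⁻¹ = g * (y * (g⁻¹ * a * g) * y⁻¹) * g⁻¹ := by group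
      _ = z * a := by rw [hy2]; group
  have c3 : (g * y * g⁻¹) * (t * z) * (g * y * g⁻¹)⁻¹ = t * z := by
    calc (g * y * g⁻¹) * (t * z) * (g * y * g⁻¹)⁻¹ = g * (y * (g⁻¹ * (t * z) * g) * y⁻¹) * g⁻¹ := by group
      _ = g * (y * t * y⁻¹) * g⁻¹ := by rw [← hg]; group
      _ = g * t * g⁻¹ := by rw [← C.comm y hy]; group
      _ = t * z := hg
  set c := g * y * g⁻¹ with hc
  have c4 : c * t * c⁻¹ = t * z * a := by
    have : c * t * c⁻¹ = (c * (t * z) * c⁻¹) * (c * z * c⁻¹)⁻¹ := by group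
    rw [this, c3, c1, inv_eq_of_mul_eq_one_left F.aa]
  -- `h₁ = r⁻¹ c`
  have r1 : r⁻¹ * a * r = z := by rw [← hr1]; group
  have r2 : r⁻¹ * (z * a) * r = a := by rw [← hr2]; group
  have r3 : r⁻¹ * z * r = z * a := by
    have h1 : r⁻¹ * z * r = (r⁻¹ * (z * a) * r) * (r⁻¹ * a * r)⁻¹ := by group
    rw [h1, r1, r2, inv_eq_of_mul_eq_one_left F.zz, F.az]
  have r4 : ∀ x, r⁻¹ * (t * x) * r = t * (r⁻¹ * x * r) := by
    intro x
    have h1 : r⁻¹ * t = t * r⁻¹ := (C.comm r⁻¹ (Y.inv_mem hr)).symm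
    calc r⁻¹ * (t * x) * r = (r⁻¹ * t) * x * r := by group
      _ = t * (r⁻¹ * x * r) := by rw [h1]; group
  have d1 : (r⁻¹ * c) * z * (r⁻¹ * c)⁻¹ = z := by
    calc (r⁻¹ * c) * z * (r⁻¹ * c)⁻¹ = r⁻¹ * (c * z * c⁻¹) * r := by group
      _ = z := by rw [c1, r1]
  have d2 : (r⁻¹ * c) * a * (r⁻¹ * c)⁻¹ = a := by
    calc (r⁻¹ * c) * a * (r⁻¹ * c)⁻¹ = r⁻¹ * (c * a * c⁻¹) * r := by group
      _ = a := by rw [c2, r2]
  have d3 : (r⁻¹ * c) * t * (r⁻¹ * c)⁻¹ = t * a := by
    calc (r⁻¹ * c) * t * (r⁻¹ * c)⁻¹ = r⁻¹ * (c * t * c⁻¹) * r := by group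
      _ = t * a := by rw [c4, mul_assoc t, r4, r2]
  set h1 := r⁻¹ * c with hh1
  -- `h = r⁻¹ h₁ r`
  have cm : ∀ x : X, h1 * x * h1⁻¹ = x → ∀ y : X, y = r⁻¹ * x * r → (r⁻¹ * h1 * r) * y = y * (r⁻¹ * h1 * r) := by
    rintro x hx y rfl
    have h2 : h1 * x = x * h1 := by
      calc h1 * x = (h1 * x * h1⁻¹) * h1 := by group
        _ = x * h1 := by rw [hx]
    calc (r⁻¹ * h1 * r) * (r⁻¹ * x * r) = r⁻¹ * (h1 * x) * r := by group
      _ = (r⁻¹ * x * r) * (r⁻¹ * h1 * r) := by rw [h2]; group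
  have f1 := cm a d2 z r1.symm
  have f2 := cm z d1 (z * a) r3.symm
  refine ⟨r⁻¹ * h1 * r, ?_, f1, ?_⟩
  · have hrt : r * t = t * r := (C.comm r hr).symm
    calc (r⁻¹ * h1 * r) * t * (r⁻¹ * h1 * r)⁻¹ = r⁻¹ * (h1 * (r * t * r⁻¹) * h1⁻¹) * r := by group
      _ = r⁻¹ * (h1 * t * h1⁻¹) * r := by rw [hrt]; group
      _ = t * z := by rw [d3, r4, r1]
  · have : a = z * (z * a) := by rw [← mul_assoc, F.zz, one_mul]
    rw [this, ← mul_assoc, f1, mul_assoc, f2, ← mul_assoc, ← mul_assoc, ← mul_assoc]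

/-- Elements of `C(t) ∩ C(z) ∩ C(a)`. -/
theorem cen_tza (C : Cent t Y) (F : Facts Y a b z) {e : X} (h1 : e * t = t * e) (h2 : e * z = z * e)
    (h3 : e * a = a * e) :
    (e = 1 ∨ e = a ∨ e = z ∨ e = a * z) ∨
      (t * e ∈ Y ∧ (t * e = 1 ∨ t * e = a ∨ t * e = z ∨ t * e = a * z)) := by
  rcases C.cent _ h1 with h | h
  · exact Or.inl (F.cen e h h3 h2)
  · refine Or.inr ⟨h, F.cen _ h ?_ ?_⟩
    · rw [mul_assoc, h3, ← mul_assoc, C.comm a F.ha, mul_assoc]
    · rw [mul_assoc, h2, ← mul_assoc, C.comm z F.zmem, mul_assoc]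

/-- Step B: an element `w` with `t ^ w = t z`, centralising `⟨a, b⟩`. -/
theorem stepB (C : Cent t Y) (F : Facts Y a b z) :
    ∃ h : X, h * t * h⁻¹ = t * z ∧ h * z = z * h ∧ h * a = a * h ∧ h * b = b * h := by
  obtain ⟨h, h1, h2, h3⟩ := stepA C F
  have hzm := F.zmem
  have i2 : h * z * h⁻¹ = z := by rw [h2]; group
  have i3 : h * a * h⁻¹ = a := by rw [h3]; group
  have j1 : h⁻¹ * t * h = t * z := by
    have : h⁻¹ * t * h = h⁻¹ * (t * z) * h * (h⁻¹ * z * h)⁻¹ := by group
    rw [this]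
    have k1 : h⁻¹ * z * h = z := by
      calc h⁻¹ * z * h = h⁻¹ * (z * h) := by group
        _ = z := by rw [← h2]; group
    have k2 : h⁻¹ * (t * z) * h = t := by rw [← h1]; group
    rw [k1, k2, inv_eq_of_mul_eq_one_left F.zz]
  have j2 : h⁻¹ * z * h = z := by
    calc h⁻¹ * z * h = h⁻¹ * (z * h) := by group
      _ = z := by rw [← h2]; group
  have j3 : h⁻¹ * a * h = a := by
    calc h⁻¹ * a * h = h⁻¹ * (a * h) := by group
      _ = a := by rw [← h3]; group
  have bi : b⁻¹ = b := inv_eq_of_mul_eq_one_left F.bb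
  have bt : b * t * b = t := by rw [← C.comm b F.hb, mul_assoc, F.bb, mul_one]
  have bz : b * z * b = z := by rw [F.bz, mul_assoc, F.bb, mul_one]
  have bab : b * a * b = a * z := by
    calc b * a * b = b * a * b * (a * a) := by rw [F.aa, mul_one]
      _ = (b * a * b * a) * a := by group
      _ = a * z := by rw [F.baba, F.az]
  -- `e = [b, h]`
  have e1 : (b * h * b * h⁻¹) * t = t * (b * h * b * h⁻¹) := by
    have : (b * h * b * h⁻¹) * t * (b * h * b * h⁻¹)⁻¹ = t := by
      calc (b * h * b * h⁻¹) * t * (b * h * b * h⁻¹)⁻¹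
          = b * (h * (b * (h⁻¹ * t * h) * b⁻¹) * h⁻¹) * b⁻¹ := by group
        _ = b * (h * ((b * t * b⁻¹) * (b * z * b⁻¹)) * h⁻¹) * b⁻¹ := by rw [j1]; group
        _ = b * ((h * t * h⁻¹) * (h * z * h⁻¹)) * b := by rw [bi, bt, bz]; group
        _ = b * (t * (z * z)) * b := by rw [h1, i2]; group
        _ = t := by rw [F.zz, mul_one, bt]
    calc (b * h * b * h⁻¹) * t = ((b * h * b * h⁻¹) * t * (b * h * b * h⁻¹)⁻¹) * (b * h * b * h⁻¹) := by group
      _ = t * (b * h * b * h⁻¹) := by rw [this]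
  have e2 : (b * h * b * h⁻¹) * z = z * (b * h * b * h⁻¹) := by
    have : (b * h * b * h⁻¹) * z * (b * h * b * h⁻¹)⁻¹ = z := by
      calc (b * h * b * h⁻¹) * z * (b * h * b * h⁻¹)⁻¹
          = b * (h * (b * (h⁻¹ * z * h) * b⁻¹) * h⁻¹) * b⁻¹ := by group
        _ = z := by rw [j2, bi, bz, i2, bz]
    calc (b * h * b * h⁻¹) * z = ((b * h * b * h⁻¹) * z * (b * h * b * h⁻¹)⁻¹) * (b * h * b * h⁻¹) := by group
      _ = z * (b * h * b * h⁻¹) := by rw [this]
  have e3 : (b * h * b * h⁻¹) * a = a * (b * h * b * h⁻¹) := by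
    have : (b * h * b * h⁻¹) * a * (b * h * b * h⁻¹)⁻¹ = a := by
      calc (b * h * b * h⁻¹) * a * (b * h * b * h⁻¹)⁻¹
          = b * (h * (b * (h⁻¹ * a * h) * b⁻¹) * h⁻¹) * b⁻¹ := by group
        _ = b * ((h * a * h⁻¹) * (h * z * h⁻¹)) * b := by rw [j3, bi, bab]; group
        _ = (b * a * b) * (b⁻¹ * z * b⁻¹ * (b * b)) := by rw [i3, i2]; group
        _ = a * (z * z) := by rw [bab, bi, bz, F.bb, mul_one, mul_assoc]
        _ = a := by rw [F.zz, mul_one]
    calc (b * h * b * h⁻¹) * a = ((b * h * b * h⁻¹) * a * (b * h * b * h⁻¹)⁻¹) * (b * h * b * h⁻¹) := by group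
      _ = a * (b * h * b * h⁻¹) := by rw [this]
  -- `b e = h b h⁻¹`
  have be : b * (b * h * b * h⁻¹) = h * b * h⁻¹ := by
    calc b * (b * h * b * h⁻¹) = (b * b) * (h * b * h⁻¹) := by group
      _ = h * b * h⁻¹ := by rw [F.bb, one_mul]
  have be2 : (b * (b * h * b * h⁻¹)) * (b * (b * h * b * h⁻¹)) = 1 := by
    rw [be]
    calc h * b * h⁻¹ * (h * b * h⁻¹) = h * (b * b) * h⁻¹ := by group
      _ = 1 := by rw [F.bb]; group
  have bnt : ¬ IsConj t (b * (b * h * b * h⁻¹)) := by
    rw [be]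
    intro h'
    exact C.hD0 b F.hb (Cent.isConj_of_conj h')
  set e := b * h * b * h⁻¹ with he
  have he1 : e ∈ Y ∨ t * e ∈ Y := C.cent _ e1
  -- `e ∈ Y`
  have hbe : e = 1 ∨ e = a ∨ e = z ∨ e = a * z := by
    rcases cen_tza C F e1 e2 e3 with h' | ⟨h', -⟩
    · exact h'
    · exfalso
      apply bnt
      have h4 : b * e = t * (b * (t * e)) := by
        rw [← mul_assoc t b, C.comm b F.hb, mul_assoc b t, ← mul_assoc t t, C.tt, one_mul]
      have h5 : (b * (t * e)) * (b * (t * e)) = 1 := by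
        have h6 : b * (t * e) = t * (b * e) := by
          rw [← mul_assoc t b, C.comm b F.hb, mul_assoc]
        rw [h6]
        have h7 : t * (b * e) = (b * e) * t := by
          rw [← mul_assoc, C.comm b F.hb, mul_assoc, ← e1, ← mul_assoc]
        calc t * (b * e) * (t * (b * e)) = t * ((b * e) * t) * (b * e) := by group
          _ = (t * t) * ((b * e) * (b * e)) := by rw [← h7]; group
          _ = 1 := by rw [C.tt, be2, one_mul]
      rw [h4]
      exact C.hD1 _ (Y.mul_mem F.hb h') h5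
  have hna : (b * a) * (b * a) ≠ 1 := by
    intro h'
    apply F.z1
    rw [← F.baba, ← h']; group
  have hfin : e = 1 ∨ e = z := by
    rcases hbe with h' | h' | h' | h'
    · exact Or.inl h'
    · exfalso
      apply hna
      rw [h'] at be2
      exact be2
    · exact Or.inr h'
    · exfalso
      apply hna
      rw [h'] at be2
      calc (b * a) * (b * a) = (b * a) * (b * a) * (z * z) := by rw [F.zz, mul_one]
        _ = (b * a) * b * (a * z) * z := by group
        _ = (b * a) * (b * z) * a * z := by rw [F.az]; group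
        _ = b * (a * z) * b * a * z := by rw [F.bz]; group
        _ = (b * (a * z)) * (b * (a * z)) := by group
        _ = 1 := be2
  rcases hfin with h' | h'
  · refine ⟨h, h1, h2, h3, ?_⟩
    rw [h', mul_one] at be
    calc h * b = (h * b * h⁻¹) * h := by group
      _ = b * h := by rw [← be]
  · rw [h'] at be
    have aba : a * b * a = z * b := by
      calc a * b * a = a * b * a * (b * b) := by rw [F.bb, mul_one]
        _ = (a * b * a * b) * b := by group
        _ = z * b := by rw [F.hz]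
    have ai : a⁻¹ = a := inv_eq_of_mul_eq_one_left F.aa
    refine ⟨h * a, ?_, ?_, ?_, ?_⟩
    · calc h * a * t * (h * a)⁻¹ = h * (a * t) * a⁻¹ * h⁻¹ := by group
        _ = h * t * h⁻¹ := by rw [← C.comm a F.ha]; group
        _ = t * z := h1
    · rw [mul_assoc, F.az, ← mul_assoc, h2, mul_assoc]
    · rw [mul_assoc, ← mul_assoc a, ← h3, ← mul_assoc]
    · have k1 : (h * a) * b * (h * a)⁻¹ = b := by
        calc (h * a) * b * (h * a)⁻¹ = h * (a * b * a⁻¹) * h⁻¹ := by group
          _ = (h * z * h⁻¹) * (h * b * h⁻¹) := by rw [ai, aba]; group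
          _ = z * b * z := by rw [i2, ← be, mul_assoc]
          _ = b := by rw [← F.bz, mul_assoc, F.zz, mul_one]
      calc (h * a) * b = ((h * a) * b * (h * a)⁻¹) * (h * a) := by group
        _ = b * (h * a) := by rw [k1]

/-- Step C: an involution `w` with `t ^ w = t z`, centralising `⟨a, b⟩`. -/
theorem stepC (C : Cent t Y) (F : Facts Y a b z) : ∃ w : X, _root_.Cfsg.Agent.StdSpSix.ModelES.Rel t w a b z := by
  obtain ⟨w, h1, h2, h3, h4⟩ := stepB C F
  have hzm := F.zmem
  have wt : w * t = t * z * w := by rw [← h1]; group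
  have s1 : (w * w) * t = t * (w * w) := by
    calc (w * w) * t = w * (w * t) := by group
      _ = w * (t * z * w) := by rw [wt]
      _ = (w * t) * z * w := by group
      _ = t * z * (w * z) * w := by rw [wt]; group
      _ = t * (z * z) * w * w := by rw [h2]; group
      _ = t * (w * w) := by rw [F.zz]; group
  have s2 : (w * w) * z = z * (w * w) := by rw [mul_assoc, h2, ← mul_assoc, h2, mul_assoc]
  have s3 : (w * w) * a = a * (w * w) := by rw [mul_assoc, h3, ← mul_assoc, h3, mul_assoc]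
  have s4 : (w * w) * b = b * (w * w) := by rw [mul_assoc, h4, ← mul_assoc, h4, mul_assoc]
  have ntz : ¬ IsConj t (1 : X) := C.hD0 1 Y.one_mem
  have wnt : w * t ≠ t * w := by
    intro h'
    apply F.z1
    have : t * (z * w) = t * w := by rw [← h', wt]; group
    have := mul_left_cancel this
    exact mul_eq_right.1 this
  -- `w² ∈ {1, z}`
  have hnab : ∀ y : X, y = a ∨ y = a * z → y * b ≠ b * y := by
    rintro y (rfl | rfl) h'
    · exact F.nab h'
    · apply F.nab
      have : a * b * z = b * a * z := by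
        calc a * b * z = a * (b * z) := by group
          _ = a * z * b := by rw [F.bz]; group
          _ = b * a * z := by rw [h']; group
      exact mul_right_cancel this
  have hww : w * w = 1 ∨ w * w = z := by
    rcases cen_tza C F s1 s2 s3 with h' | ⟨-, h'⟩
    · rcases h' with h' | h' | h' | h'
      · exact Or.inl h'
      · exact absurd s4 (hnab _ (Or.inl h'))
      · exact Or.inr h'
      · exact absurd s4 (hnab _ (Or.inr h'))
    · exfalso
      have s5 : (t * (w * w)) * b = b * (t * (w * w)) := by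
        rw [mul_assoc, s4, ← mul_assoc, C.comm b F.hb, mul_assoc]
      have hc : ∀ y : X, y * w = w * y → t * (w * w) = y → False := by
        intro y hy hy'
        apply wnt
        have h5 : t = y * (w * w)⁻¹ := by rw [← hy']; group
        have h6 : w * y = y * w := hy.symm
        calc w * t = w * (y * (w * w)⁻¹) := by rw [← h5]
          _ = (w * y) * (w * w)⁻¹ := by group
          _ = (y * (w * w)⁻¹) * w := by rw [h6]; group
          _ = t * w := by rw [← h5]
      rcases h' with h' | h' | h' | h'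
      · exact hc 1 (by simp) h'
      · exact absurd s5 (hnab _ (Or.inl h'))
      · exact hc z h2.symm h'
      · exact absurd s5 (hnab _ (Or.inr h'))
  have tz := C.comm z hzm
  have hw : ∃ w : X, w * w = 1 ∧ w * t = t * w * z ∧ w * z = z * w ∧ w * a = a * w ∧ w * b = b * w := by
    rcases hww with h' | h'
    · exact ⟨w, h', by rw [wt, mul_assoc, ← h2, mul_assoc], h2, h3, h4⟩
    · refine ⟨w * t, ?_, ?_, ?_, ?_, ?_⟩
      · calc w * t * (w * t) = (w * t) * w * t := by group
          _ = t * z * (w * w) * t := by rw [wt]; group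
          _ = t * (z * z) * t := by rw [h']; group
          _ = 1 := by rw [F.zz, mul_one, C.tt]
      · calc w * t * t = w * (t * t) := by group
          _ = (t * t) * w * (z * z) := by rw [C.tt, F.zz]; group
          _ = t * (t * (w * z)) * z := by group
          _ = t * (t * z * w) * z := by rw [h2]; group
          _ = t * (w * t) * z := by rw [wt]
      · rw [mul_assoc, tz, ← mul_assoc, h2, mul_assoc]
      · rw [mul_assoc, C.comm a F.ha, ← mul_assoc, h3, mul_assoc]
      · rw [mul_assoc, C.comm b F.hb, ← mul_assoc, h4, mul_assoc]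
  obtain ⟨w, k1, k2, k3, k4, k5⟩ := hw
  exact ⟨w, ⟨C.tt, k1, F.aa, F.bb, F.zz, k2, F.ba, C.comm a F.ha, C.comm b F.hb, tz, k4, k5, k3,
    F.az, F.bz⟩⟩

theorem es_comm (u v : ES) :
    u * v = v * u * ⟨0, 0, 0, 0, u.j * v.i + u.l * v.k + v.j * u.i + v.l * u.k⟩ := by
  ext
  · simp only [add_comm, _root_.Cfsg.Agent.StdSpSix.ModelES.ES.mul_i, _root_.add_zero]
  · simp only [add_comm, _root_.Cfsg.Agent.StdSpSix.ModelES.ES.mul_j, _root_.add_zero]
  · simp only [add_comm, _root_.Cfsg.Agent.StdSpSix.ModelES.ES.mul_k, _root_.add_zero]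
  · simp only [add_comm, _root_.Cfsg.Agent.StdSpSix.ModelES.ES.mul_l, _root_.add_zero]
  · simp only [ES.mul_m, ES.mul_j, ES.mul_l]
    have h : ∀ x y p q : ZMod 2, ∀ r s : ZMod 2,
      x + y + p + q = y + x + r + s + (p + q + r + s) + 0 + 0 := by decide +kernel
    have h' := h u.m v.m (u.j * v.i) (u.l * v.k) (v.j * u.i) (v.l * u.k)
    rw [h']
    ring

theorem map_zeta {w : X} (R : _root_.Cfsg.Agent.StdSpSix.ModelES.Rel t w a b z) (n : ZMod 2) : _root_.Cfsg.Agent.StdSpSix.ModelES.map R ⟨0, 0, 0, 0, n⟩ = pw z n := by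
  rw [map_apply]; simp

theorem map_inj {w : X} (R : _root_.Cfsg.Agent.StdSpSix.ModelES.Rel t w a b z) (hz : z ≠ 1) : Function.Injective (map R) := by
  rw [injective_iff_map_eq_one]
  intro v hv
  have hpw : ∀ n : ZMod 2, pw z n = 1 → n = 0 := by
    intro n hn
    rcases cases2 n with h | h
    · exact h
    · rw [h] at hn; exact absurd hn hz
  have key : ∀ u : ES, u.j * v.i + u.l * v.k + v.j * u.i + v.l * u.k = 0 := by
    intro u
    apply hpw
    have h := congrArg (map R) (es_comm u v)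
    rw [map_mul, map_mul, map_mul, hv, mul_one, one_mul, map_zeta] at h
    exact (mul_eq_left.1 h.symm)
  have hi := key ⟨0, 1, 0, 0, 0⟩
  have hj := key ⟨1, 0, 0, 0, 0⟩
  have hk := key ⟨0, 0, 0, 1, 0⟩
  have hl := key ⟨0, 0, 1, 0, 0⟩
  simp only [one_mul, zero_mul, mul_zero, add_zero, zero_add, mul_one] at hi hj hk hl
  obtain ⟨i, j, k, l, m⟩ := v
  simp only at hi hj hk hl
  subst hi hj hk hl
  rw [map_zeta] at hv
  rw [hpw m hv]
  rfl

theorem map_t {w : X} (R : _root_.Cfsg.Agent.StdSpSix.ModelES.Rel t w a b z) : _root_.Cfsg.Agent.StdSpSix.ModelES.map R ⟨1, 0, 0, 0, 0⟩ = t := by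
  rw [map_apply]; simp

theorem map_a {w : X} (R : _root_.Cfsg.Agent.StdSpSix.ModelES.Rel t w a b z) : _root_.Cfsg.Agent.StdSpSix.ModelES.map R ⟨0, 0, 1, 0, 0⟩ = a := by
  rw [map_apply]; simp

theorem map_mem {w : X} (R : _root_.Cfsg.Agent.StdSpSix.ModelES.Rel t w a b z) (F : Facts Y a b z) (k l m : ZMod 2) :
    _root_.Cfsg.Agent.StdSpSix.ModelES.map R ⟨0, 0, k, l, m⟩ ∈ Y := by
  have hpw : ∀ x ∈ Y, ∀ n : ZMod 2, pw x n ∈ Y := by
    intro x hx n
    rcases cases2 n with h | h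
    · rw [h]; exact Y.one_mem
    · rw [h]; exact hx
  rw [map_apply]
  simp only [pw_zero, one_mul]
  exact Y.mul_mem (Y.mul_mem (hpw a F.ha k) (hpw b F.hb l)) (hpw z F.zmem m)

section Count

variable {w : X}

/-- Being conjugate to `t`, in the model. -/
def InD (R : _root_.Cfsg.Agent.StdSpSix.ModelES.Rel t w a b z) (v : ES) : Prop := IsConj t (_root_.Cfsg.Agent.StdSpSix.ModelES.map R v)

theorem InD.sq {R : _root_.Cfsg.Agent.StdSpSix.ModelES.Rel t w a b z} (C : Cent t Y) (hz : z ≠ 1) {v : ES} (h : InD R v) :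
    v.j * v.i + v.l * v.k = 0 := by
  have h1 := C.conj_sq h
  rw [← map_mul, ← map_one (_root_.Cfsg.Agent.StdSpSix.ModelES.map R)] at h1
  have h2 := congrArg ES.m (map_inj R hz h1)
  rw [ES.mul_m, ES.one_m, CharTwo.add_self_eq_zero, zero_add] at h2
  exact h2

theorem InD.conj {R : _root_.Cfsg.Agent.StdSpSix.ModelES.Rel t w a b z} {v : ES} (u : ES) (h : InD R v) : InD R (u * v * u⁻¹) := by
  unfold InD
  rw [map_mul, map_mul, map_inv]
  exact Cent.isConj_conj h

theorem inD_t {R : _root_.Cfsg.Agent.StdSpSix.ModelES.Rel t w a b z} (C : Cent t Y) (F : Facts Y a b z) {k l : ZMod 2} (h : k * l = 0)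
    (m : ZMod 2) : InD R ⟨1, 0, k, l, m⟩ := by
  have h1 : (⟨1, 0, k, l, m⟩ : ES) = ⟨1, 0, 0, 0, 0⟩ * ⟨0, 0, k, l, m⟩ := by
    ext <;> simp
  unfold InD
  rw [h1, map_mul, map_t]
  apply C.hD1 _ (map_mem R F k l m)
  rw [← map_mul, ← map_one (_root_.Cfsg.Agent.StdSpSix.ModelES.map R)]
  congr 1
  ext
  · simp
  · simp
  · simp [CharTwo.add_self_eq_zero]
  · simp [CharTwo.add_self_eq_zero]
  · simp [CharTwo.add_self_eq_zero, mul_comm l k, h]

theorem caseA (R : _root_.Cfsg.Agent.StdSpSix.ModelES.Rel t w a b z) (C : Cent t Y) (F : Facts Y a b z)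
    (h0 : ¬ InD R ⟨1, 1, 1, 1, 0⟩) (v : ES) (hv : v.i + 0 * v.j = 1) :
    InD R v ↔ (v.j = 0 ∧ v.k * v.l = 0) := by
  have hi : v.i = 1 := by rw [← hv]; ring
  obtain ⟨i, j, k, l, m⟩ := v
  simp only at hi ⊢
  subst hi
  constructor
  · intro h
    have h1 := InD.sq C F.z1 h
    simp only [mul_one] at h1
    rcases cases2 j with rfl | rfl
    · refine ⟨rfl, ?_⟩
      rw [zero_add, mul_comm] at h1
      exact h1
    · exfalso
      have h2 : ∀ k l : ZMod 2, 1 + l * k = 0 → k = 1 ∧ l = 1 := by decide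
      obtain ⟨rfl, rfl⟩ := h2 k l h1
      apply h0
      rcases cases2 m with rfl | rfl
      · exact h
      · have h3 := InD.conj ⟨1, 0, 0, 0, 0⟩ h
        have h4 : (⟨1, 0, 0, 0, 0⟩ : ES) * ⟨1, 1, 1, 1, 1⟩ * (⟨1, 0, 0, 0, 0⟩ : ES)⁻¹ = ⟨1, 1, 1, 1, 0⟩ := by
          decide
        rw [h4] at h3
        exact h3
  · rintro ⟨rfl, h⟩
    exact inD_t C F h m

theorem caseB (R : _root_.Cfsg.Agent.StdSpSix.ModelES.Rel t w a b z) (C : Cent t Y) (F : Facts Y a b z)
    (h0 : InD R ⟨1, 1, 1, 1, 0⟩) (v : ES) (hv : v.i + 1 * v.j = 1) :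
    InD R v ↔ (v.j = 0 ∧ v.k * v.l = 0) := by
  obtain ⟨i, j, k, l, m⟩ := v
  simp only [one_mul] at hv ⊢
  have nwb : ¬ InD R ⟨0, 1, 0, 1, 0⟩ := by
    intro h
    have h1 := inD_t (R := R) C F (k := 1) (l := 0) (by decide) 0
    have h2 : (⟨1, 0, 1, 0, 0⟩ : ES) * ⟨0, 1, 0, 1, 0⟩ = ⟨1, 1, 1, 1, 0⟩ := by decide
    have h3 : (⟨1, 0, 1, 0, 0⟩ : ES) * ⟨0, 1, 0, 1, 0⟩ = ⟨0, 1, 0, 1, 0⟩ * ⟨1, 0, 1, 0, 0⟩ := by decide
    apply C.mul_not h1 h (by rw [← map_mul, ← map_mul, h3])
    rw [← map_mul, h2]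
    exact h0
  have nwa : ¬ InD R ⟨0, 1, 1, 0, 1⟩ := by
    intro h
    have h1 := inD_t (R := R) C F (k := 0) (l := 1) (by decide) 0
    have h2 : (⟨1, 0, 0, 1, 0⟩ : ES) * ⟨0, 1, 1, 0, 1⟩ = ⟨1, 1, 1, 1, 0⟩ := by decide
    have h3 : (⟨1, 0, 0, 1, 0⟩ : ES) * ⟨0, 1, 1, 0, 1⟩ = ⟨0, 1, 1, 0, 1⟩ * ⟨1, 0, 0, 1, 0⟩ := by decide
    apply C.mul_not h1 h (by rw [← map_mul, ← map_mul, h3])
    rw [← map_mul, h2]
    exact h0
  have nw : ¬ InD R ⟨0, 1, 0, 0, 1⟩ := by
    intro h
    apply nwa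
    have h2 : (⟨0, 1, 0, 0, 1⟩ : ES) * ⟨0, 0, 1, 0, 0⟩ = ⟨0, 1, 1, 0, 1⟩ := by decide
    have h3 : (⟨0, 1, 0, 0, 1⟩ : ES) * ⟨0, 0, 1, 0, 0⟩ = ⟨0, 0, 1, 0, 0⟩ * ⟨0, 1, 0, 0, 1⟩ := by decide
    have h4 : _root_.Cfsg.Agent.StdSpSix.ModelES.map R ⟨0, 1, 0, 0, 1⟩ * a = a * _root_.Cfsg.Agent.StdSpSix.ModelES.map R ⟨0, 1, 0, 0, 1⟩ := by
      have h4 := congrArg (map R) h3
      rw [map_mul, map_mul, map_a] at h4
      exact h4
    have h5 := C.mul_of h F.aa (C.hD0 a F.ha) h4
    unfold InD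
    rw [← h2, map_mul, map_a]
    exact h5
  have cj : ∀ k l m : ZMod 2, InD R ⟨0, 1, k, l, m⟩ → InD R ⟨0, 1, k, l, m + 1⟩ := by
    intro k l m h
    have h3 := InD.conj ⟨1, 0, 0, 0, 0⟩ h
    have h4 : ∀ k l m : ZMod 2, (⟨1, 0, 0, 0, 0⟩ : ES) * ⟨0, 1, k, l, m⟩ * (⟨1, 0, 0, 0, 0⟩ : ES)⁻¹ =
      ⟨0, 1, k, l, m + 1⟩ := by decide +kernel
    rw [h4] at h3
    exact h3
  have cj' : ∀ k l m n : ZMod 2, InD R ⟨0, 1, k, l, m⟩ → InD R ⟨0, 1, k, l, n⟩ := by
    intro k l m n h
    have h1 : ∀ m n : ZMod 2, n = m ∨ n = m + 1 := by decide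
    rcases h1 m n with rfl | rfl
    · exact h
    · exact cj _ _ _ h
  constructor
  · intro h
    have h1 := InD.sq C F.z1 h
    simp only at h1
    rcases cases2 j with rfl | rfl
    · refine ⟨rfl, ?_⟩
      rw [zero_mul, zero_add, mul_comm] at h1
      exact h1
    · exfalso
      have hi : i = 0 := by
        have h2 : ∀ i : ZMod 2, i + 1 = 1 → i = 0 := by decide
        exact h2 i hv
      subst hi
      have h2 : ∀ k l : ZMod 2, 1 * 0 + l * k = 0 → (k = 0 ∧ l = 0) ∨ (k = 1 ∧ l = 0) ∨ (k = 0 ∧ l = 1) := by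
        decide
      rcases h2 k l h1 with ⟨rfl, rfl⟩ | ⟨rfl, rfl⟩ | ⟨rfl, rfl⟩
      · exact nw (cj' _ _ _ _ h)
      · exact nwa (cj' _ _ _ _ h)
      · exact nwb (cj' _ _ _ _ h)
  · rintro ⟨rfl, h⟩
    have hi : i = 1 := by rw [← hv, add_zero]
    subst hi
    exact inD_t C F h m

theorem card_cent [Finite X] (C : Cent t Y) : Nat.card (centralizer ({t} : Set X)) = 2 * Nat.card Y := by
  have : Nat.card (ZMod 2 × Y) = 2 * Nat.card Y := by
    rw [Nat.card_prod, Nat.card_zmod]
  rw [← this]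
  symm
  refine Nat.card_congr (Equiv.ofBijective (fun p : ZMod 2 × Y => ⟨pw t p.1 * (p.2 : X), ?_⟩) ⟨?_, ?_⟩)
  · rw [mem_centralizer_singleton_iff]
    have h1 := C.comm p.2 p.2.2
    rcases cases2 p.1 with h | h
    · rw [h, pw_zero, one_mul, h1]
    · rw [h, pw_one, mul_assoc, ← h1]
  · rintro ⟨i, y⟩ ⟨j, y'⟩ h
    have h1 : pw t i * (y : X) = pw t j * (y' : X) := congrArg Subtype.val h
    have h2 : ∀ y y' : Y, t * (y : X) ≠ y' := by
      intro y y' h2
      apply C.t_not_mem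
      rw [eq_mul_inv_of_mul_eq h2]
      exact Y.mul_mem y'.2 (Y.inv_mem y.2)
    rcases cases2 i with rfl | rfl <;> rcases cases2 j with rfl | rfl
    · simp only [pw_zero, one_mul] at h1
      rw [Subtype.ext h1]
    · simp only [pw_zero, pw_one, one_mul] at h1
      exact absurd h1.symm (h2 _ _)
    · simp only [pw_zero, pw_one, one_mul] at h1
      exact absurd h1 (h2 _ _)
    · simp only [pw_one] at h1
      rw [Subtype.ext (mul_left_cancel h1)]
  · rintro ⟨x, hx⟩
    rcases C.cent x (mem_centralizer_singleton_iff.1 hx) with h | h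
    · exact ⟨(0, ⟨x, h⟩), Subtype.ext (by simp)⟩
    · refine ⟨(1, ⟨t * x, h⟩), Subtype.ext ?_⟩
      simp only [pw_one]
      rw [← mul_assoc, C.tt, one_mul]

end Count

/-- LEMMA L32. -/
theorem exists_hom [Finite X] (C : Cent t Y) (F : Facts Y a b z) : ∃ f : X →* ℤˣ, f t = -1 := by
  classical
  obtain ⟨w, R⟩ := stepC C F
  have hinj := map_inj R F.z1
  have he : ∃ e : ZMod 2, ∀ v : ES, v.i + e * v.j = 1 → (InD R v ↔ (v.j = 0 ∧ v.k * v.l = 0)) := by
    by_cases h : InD R ⟨1, 1, 1, 1, 0⟩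
    · exact ⟨1, caseB R C F h⟩
    · exact ⟨0, caseA R C F h⟩
  obtain ⟨e, he⟩ := he
  let E : ES ≃* (_root_.Cfsg.Agent.StdSpSix.ModelES.map R).range := MonoidHom.ofInjective hinj
  have hE : ∀ v, ((E v : (_root_.Cfsg.Agent.StdSpSix.ModelES.map R).range) : X) = _root_.Cfsg.Agent.StdSpSix.ModelES.map R v := fun v => rfl
  let l : (_root_.Cfsg.Agent.StdSpSix.ModelES.map R).range →* ℤˣ := (lam e).comp E.symm.toMonoidHom
  have hl : ∀ v, l (E v) = lam e v := by
    intro v
    change lam e (E.symm (E v)) = lam e v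
    rw [MulEquiv.symm_apply_apply]
  obtain ⟨m, hm, hY⟩ := F.card
  apply exists_hom_of_count l C.tt (m := 3 * m) (by
    exact Odd.mul (by decide) hm)
  have c1 : Nat.card (_root_.Cfsg.Agent.StdSpSix.ModelES.map R).range = 32 := by
    rw [← Nat.card_congr E.toEquiv, ES.card]
  have c2 : Nat.card {d : X // _root_.Cfsg.Agent.StdSpSix.TRCount.Neg l t d} = 6 := by
    have : Nat.card {d : X // _root_.Cfsg.Agent.StdSpSix.TRCount.Neg l t d} = Nat.card {v : ES // v.i = 1 ∧ v.j = 0 ∧ v.k * v.l = 0} := by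
      symm
      refine Nat.card_congr (Equiv.ofBijective (fun v => ⟨_root_.Cfsg.Agent.StdSpSix.ModelES.map R v.1, ?_⟩) ⟨?_, ?_⟩)
      · obtain ⟨v, h1, h2, h3⟩ := v
        have h4 : v.i + e * v.j = 1 := by rw [h1, h2, mul_zero, add_zero]
        refine ⟨(he v h4).2 ⟨h2, h3⟩, ⟨v, rfl⟩, ?_⟩
        have h5 := hl v
        rw [(lam_eq e v).2 h4] at h5
        exact h5
      · intro v v' h
        exact Subtype.ext (hinj (congrArg Subtype.val h))
      · rintro ⟨d, h1, ⟨v, rfl⟩, h2⟩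
        have h5 : lam e v = -1 := by
          rw [← hl v]
          exact h2
        rw [lam_eq] at h5
        obtain ⟨h6, h7⟩ := (he v h5).1 h1
        refine ⟨⟨v, ?_, h6, h7⟩, rfl⟩
        rw [h6, mul_zero, add_zero] at h5
        exact h5
    rw [this, Nat.card_eq_fintype_card]
    decide
  rw [c1, c2, card_cent C, hY]
  ring

end Cfsg.Agent.StdSpSix.LThree
end

-- part: StdSpSix/LThreeModel
section
/-!
# The 2-local facts of `GL(3,2)` used in LEMMA L32
-/

set_option autoImplicit false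

namespace Cfsg.Agent.StdSpSix.LThreeModel

open Matrix Cfsg.Agent.StdSpSix.LThree

/-- `3 × 3` matrices over the field with two elements. -/
abbrev M3 := Matrix (Fin 3) (Fin 3) (ZMod 2)

/-- determinant, by bits -/
def d3 (a b c d e f g h i : ZMod 2) : ZMod 2 :=
  a * e * i - a * f * h - b * d * i + b * f * g + c * d * h - c * e * g

/-- `M² = 1`, by bits -/
def sq1 (a b c d e f g h i : ZMod 2) : Prop :=
  a * a + b * d + c * g = 1 ∧ a * b + b * e + c * h = 0 ∧ a * c + b * f + c * i = 0 ∧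
  d * a + e * d + f * g = 0 ∧ d * b + e * e + f * h = 1 ∧ d * c + e * f + f * i = 0 ∧
  g * a + h * d + i * g = 0 ∧ g * b + h * e + i * h = 0 ∧ g * c + h * f + i * i = 1

instance (a b c d e f g h i : ZMod 2) : Decidable (sq1 a b c d e f g h i) := by
  unfold sq1; infer_instance

/-- `M x = y`, by bits -/
def fx (a b c d e f g h i x y z x' y' z' : ZMod 2) : Prop :=
  a * x + b * y + c * z = x' ∧ d * x + e * y + f * z = y' ∧ g * x + h * y + i * z = z'

instance (a b c d e f g h i x y z x' y' z' : ZMod 2) :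
    Decidable (fx a b c d e f g h i x y z x' y' z') := by
  unfold fx; infer_instance

/-- a good pair `v`, `w` -/
def good1 (a b c d e f g h i v0 v1 v2 : ZMod 2) : Prop :=
  ∃ w0 w1 w2 : ZMod 2,
    d3 ((a + 1) * v0 + b * v1 + c * v2) w0 v0 (d * v0 + (e + 1) * v1 + f * v2) w1 v1
      (g * v0 + h * v1 + (i + 1) * v2) w2 v2 = 1 ∧
    fx a b c d e f g h i w0 w1 w2 w0 w1 w2 ∧
    fx a b c d e f g h i ((a + 1) * v0 + b * v1 + c * v2) (d * v0 + (e + 1) * v1 + f * v2)
      (g * v0 + h * v1 + (i + 1) * v2) ((a + 1) * v0 + b * v1 + c * v2)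
      (d * v0 + (e + 1) * v1 + f * v2) (g * v0 + h * v1 + (i + 1) * v2)

instance (a b c d e f g h i v0 v1 v2 : ZMod 2) : Decidable (good1 a b c d e f g h i v0 v1 v2) := by
  unfold good1; infer_instance

/-- a good pair exists -/
def good (a b c d e f g h i : ZMod 2) : Prop :=
  ∃ v0 v1 v2 : ZMod 2, good1 a b c d e f g h i v0 v1 v2

instance (a b c d e f g h i : ZMod 2) : Decidable (good a b c d e f g h i) := by
  unfold good; infer_instance

/-- the statement for one matrix -/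
def imp (a b c d e f g h i : ZMod 2) : Prop := sq1 a b c d e f g h i →
   (a = 1 ∧ b = 0 ∧ c = 0 ∧ d = 0 ∧ e = 1 ∧ f = 0 ∧ g = 0 ∧ h = 0 ∧ i = 1) ∨ good a b c d e f g h i

instance (a b c d e f g h i : ZMod 2) : Decidable (imp a b c d e f g h i) := by
  unfold imp; infer_instance

set_option maxRecDepth 100000 in
theorem all_imp : ∀ a b c d e f g h i : ZMod 2, imp a b c d e f g h i := by (delta Cfsg.Agent.StdSpSix.LThreeModel.imp Cfsg.Agent.StdSpSix.LThreeModel.sq1 Cfsg.Agent.StdSpSix.LThreeModel.good Cfsg.Agent.StdSpSix.LThreeModel.good1 Cfsg.Agent.StdSpSix.LThreeModel.d3 Cfsg.Agent.StdSpSix.LThreeModel.fx; set_option synthInstance.maxSize 100000 in exact Cfsg.Agent.Lib.Refl.of (by decide +kernel))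

/-- The standard matrices. -/
def Z0 : M3 := !![1,0,1;0,1,0;0,0,1]
/-- The standard matrices. -/
def A0 : M3 := !![1,1,0;0,1,0;0,0,1]
/-- The standard matrices. -/
def B0 : M3 := !![1,0,0;0,1,1;0,0,1]

/-- `GL(3,2)`. -/
abbrev K := GL (Fin 3) (ZMod 2)

theorem z_sq : Z0 * Z0 = 1 := by decide +kernel
theorem a_sq : A0 * A0 = 1 := by decide +kernel
theorem b_sq : B0 * B0 = 1 := by decide +kernel

/-- The standard involutions. -/
def zz : K := ⟨Z0, Z0, z_sq, z_sq⟩
/-- The standard involutions. -/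
def aa : K := ⟨A0, A0, a_sq, a_sq⟩
/-- The standard involutions. -/
def bb : K := ⟨B0, B0, b_sq, b_sq⟩

theorem zz_sq : zz * zz = 1 := Units.ext z_sq
theorem aa_sq : aa * aa = 1 := Units.ext a_sq
theorem bb_sq : bb * bb = 1 := Units.ext b_sq

theorem abab : aa * bb * aa * bb = zz := by
  apply Units.ext
  change A0 * B0 * A0 * B0 = Z0
  decide +kernel

theorem zz_ne : zz ≠ 1 := by
  intro h
  have h1 : Z0 = 1 := congrArg Units.val h
  revert h1
  decide +kernel

theorem entries {M N : M3} : M = N ↔ (M 0 0 = N 0 0 ∧ M 0 1 = N 0 1 ∧ M 0 2 = N 0 2) ∧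
    (M 1 0 = N 1 0 ∧ M 1 1 = N 1 1 ∧ M 1 2 = N 1 2) ∧
    (M 2 0 = N 2 0 ∧ M 2 1 = N 2 1 ∧ M 2 2 = N 2 2) := by
  constructor
  · rintro rfl; simp
  · rintro ⟨⟨h1, h2, h3⟩, ⟨h4, h5, h6⟩, h7, h8, h9⟩
    ext i j
    fin_cases i <;> fin_cases j <;> assumption

theorem mul_entry (M N : M3) (i j : Fin 3) :
    (M * N) i j = M i 0 * N 0 j + M i 1 * N 1 j + M i 2 * N 2 j := by
  rw [Matrix.mul_apply, Fin.sum_univ_three]

/-- All involutions are conjugate. -/
theorem conj_zz (u : K) (h : u * u = 1) (h1 : u ≠ 1) : ∃ p : K, p⁻¹ * u * p = zz := by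
  have h2 : (u : M3) * u = 1 := by rw [← Units.val_mul, h]; rfl
  rw [entries] at h2
  simp only [mul_entry] at h2
  obtain ⟨⟨q1, q2, q3⟩, ⟨q4, q5, q6⟩, q7, q8, q9⟩ := h2
  have h3 := all_imp ((u : M3) 0 0) ((u : M3) 0 1) ((u : M3) 0 2) ((u : M3) 1 0) ((u : M3) 1 1)
    ((u : M3) 1 2) ((u : M3) 2 0) ((u : M3) 2 1) ((u : M3) 2 2)
    ⟨q1, q2, q3, q4, q5, q6, q7, q8, q9⟩
  rcases h3 with h3 | h3
  · exfalso
    apply h1
    apply Units.ext
    rw [entries]
    obtain ⟨e1, e2, e3, e4, e5, e6, e7, e8, e9⟩ := h3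
    exact ⟨⟨e1, e2, e3⟩, ⟨e4, e5, e6⟩, e7, e8, e9⟩
  · obtain ⟨v0, v1, v2, w0, w1, w2, hd, ⟨f1, f2, f3⟩, g1, g2, g3⟩ := h3
    set x0 := ((u : M3) 0 0 + 1) * v0 + (u : M3) 0 1 * v1 + (u : M3) 0 2 * v2 with hx0
    set x1 := (u : M3) 1 0 * v0 + ((u : M3) 1 1 + 1) * v1 + (u : M3) 1 2 * v2 with hx1
    set x2 := (u : M3) 2 0 * v0 + (u : M3) 2 1 * v1 + ((u : M3) 2 2 + 1) * v2 with hx2
    set P : M3 := !![x0, w0, v0; x1, w1, v1; x2, w2, v2] with hP
    have hdet : P.det ≠ 0 := by
      rw [hP, Matrix.det_fin_three]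
      simp only [Matrix.of_apply, Matrix.cons_val', Matrix.cons_val_zero, Matrix.cons_val_one,
        Matrix.cons_val]
      unfold d3 at hd
      rw [hd]
      decide
    let p : K := Matrix.GeneralLinearGroup.mkOfDetNeZero P hdet
    have hp : (p : M3) = P := rfl
    refine ⟨p, ?_⟩
    have key : u * p = p * zz := by
      apply Units.ext
      rw [Units.val_mul, Units.val_mul, hp]
      change (u : M3) * P = P * Z0
      have hc : ∀ n s : ZMod 2, n = s + (n + s) := by decide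
      rw [entries]
      simp only [mul_entry, hP, Z0, Matrix.of_apply, Matrix.cons_val', Matrix.cons_val_zero,
        Matrix.cons_val_one, Matrix.cons_val, mul_one, mul_zero, add_zero, zero_add]
      refine ⟨⟨g1, f1, ?_⟩, ⟨g2, f2, ?_⟩, g3, f3, ?_⟩
      · rw [hx0]
        have := hc ((u : M3) 0 0 * v0 + (u : M3) 0 1 * v1 + (u : M3) 0 2 * v2) v0
        rw [this]; ring
      · rw [hx1]
        have := hc ((u : M3) 1 0 * v0 + (u : M3) 1 1 * v1 + (u : M3) 1 2 * v2) v1
        rw [this]; ring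
      · rw [hx2]
        have := hc ((u : M3) 2 0 * v0 + (u : M3) 2 1 * v1 + (u : M3) 2 2 * v2) v2
        rw [this]; ring
    rw [mul_assoc, key, inv_mul_cancel_left]

/-- The matrices commuting with `z`. -/
theorem comm_z (v : K) (h : v * zz = zz * v) :
    ∃ b c f : ZMod 2, (v : M3) = !![1, b, c; 0, 1, f; 0, 0, 1] := by
  have h2 : (v : M3) * Z0 = Z0 * v := congrArg Units.val h
  have hdet : (v : M3).det ≠ 0 := by
    have : IsUnit (v : M3).det := (Matrix.isUnit_iff_isUnit_det _).1 v.isUnit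
    exact this.ne_zero
  rw [entries] at h2
  simp only [mul_entry, Z0, Matrix.of_apply, Matrix.cons_val', Matrix.cons_val_zero,
        Matrix.cons_val_one, Matrix.cons_val, mul_one, mul_zero, add_zero, zero_add, one_mul,
        zero_mul] at h2
  obtain ⟨⟨q1, q2, q3⟩, ⟨q4, q5, q6⟩, q7, q8, q9⟩ := h2
  rw [Matrix.det_fin_three] at hdet
  have e7 : (v : M3) 2 0 = 0 := by
    have : ∀ x y : ZMod 2, x = x + y → y = 0 := by decide
    exact this _ _ q1
  have e8 : (v : M3) 2 1 = 0 := by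
    have : ∀ x y : ZMod 2, x = x + y → y = 0 := by decide
    exact this _ _ q2
  have e4 : (v : M3) 1 0 = 0 := by
    have : ∀ x y : ZMod 2, y + x = x → y = 0 := by decide
    exact this _ _ q6
  have e9 : (v : M3) 2 2 = (v : M3) 0 0 := by
    have : ∀ x y z : ZMod 2, x + y = y + z → z = x := by decide
    exact this _ _ _ q3
  rw [e7, e8, e4, e9] at hdet
  have e15 : (v : M3) 0 0 = 1 ∧ (v : M3) 1 1 = 1 := by
    have : ∀ x y a b c : ZMod 2, x * y * x - x * a * 0 - b * 0 * x + b * a * 0 + c * 0 * 0 - c * y * 0 ≠ 0 →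
      x = 1 ∧ y = 1 := by decide +kernel
    exact this _ _ _ _ _ hdet
  refine ⟨(v : M3) 0 1, (v : M3) 0 2, (v : M3) 1 2, ?_⟩
  rw [entries]
  simp only [Matrix.of_apply, Matrix.cons_val', Matrix.cons_val_zero,
        Matrix.cons_val_one, Matrix.cons_val]
  rw [e7, e8, e4, e9, e15.1, e15.2]
  simp

theorem six : ∀ b c f : ZMod 2, (!![1, b, c; 0, 1, f; 0, 0, 1] : M3) * !![1, b, c; 0, 1, f; 0, 0, 1] = 1 →
    (!![1, b, c; 0, 1, f; 0, 0, 1] : M3) = 1 ∨ (!![1, b, c; 0, 1, f; 0, 0, 1] : M3) = Z0 ∨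
    (!![1, b, c; 0, 1, f; 0, 0, 1] : M3) = A0 ∨ (!![1, b, c; 0, 1, f; 0, 0, 1] : M3) = A0 * Z0 ∨
    (!![1, b, c; 0, 1, f; 0, 0, 1] : M3) = B0 ∨ (!![1, b, c; 0, 1, f; 0, 0, 1] : M3) = B0 * Z0 := by
  decide +kernel

theorem four : ∀ b c f : ZMod 2,
    (!![1, b, c; 0, 1, f; 0, 0, 1] : M3) * A0 = A0 * !![1, b, c; 0, 1, f; 0, 0, 1] →
    (!![1, b, c; 0, 1, f; 0, 0, 1] : M3) = 1 ∨ (!![1, b, c; 0, 1, f; 0, 0, 1] : M3) = A0 ∨
    (!![1, b, c; 0, 1, f; 0, 0, 1] : M3) = Z0 ∨ (!![1, b, c; 0, 1, f; 0, 0, 1] : M3) = A0 * Z0 := by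
  (set_option synthInstance.maxSize 100000 in exact Cfsg.Agent.Lib.Refl.of (by decide +kernel))

/-- The rotation of the standard pairs. -/
theorem rot0 (v : K) (h : v = aa ∨ v = aa * zz ∨ v = bb ∨ v = bb * zz) :
    ∃ y : K, y * zz = v * y ∧ y * v = (zz * v) * y := by
  have mk : ∀ (Y Y' V : M3) (v : K), (v : M3) = V → Y * Y' = 1 → Y' * Y = 1 → Y * Z0 = V * Y →
      Y * V = (Z0 * V) * Y → ∃ y : K, y * zz = v * y ∧ y * v = (zz * v) * y := by
    intro Y Y' V v hv h1 h2 h3 h4
    refine ⟨⟨Y, Y', h1, h2⟩, Units.ext ?_, Units.ext ?_⟩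
    · change Y * Z0 = (v : M3) * Y
      rw [hv]; exact h3
    · change Y * (v : M3) = (Z0 * (v : M3)) * Y
      rw [hv]; exact h4
  rcases h with rfl | rfl | rfl | rfl
  · exact mk !![1,0,0;0,0,1;0,1,1] !![1,0,0;0,1,1;0,1,0] A0 _ rfl (by decide +kernel)
      (by decide +kernel) (by decide +kernel) (by decide +kernel)
  · exact mk !![1,0,0;0,1,1;0,1,0] !![1,0,0;0,0,1;0,1,1] (A0 * Z0) _ rfl (by decide +kernel)
      (by decide +kernel) (by decide +kernel) (by decide +kernel)
  · exact mk !![0,1,0;1,1,0;0,0,1] !![1,1,0;1,0,0;0,0,1] B0 _ rfl (by decide +kernel)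
      (by decide +kernel) (by decide +kernel) (by decide +kernel)
  · exact mk !![1,1,0;1,0,0;0,0,1] !![0,1,0;1,1,0;0,0,1] (B0 * Z0) _ rfl (by decide +kernel)
      (by decide +kernel) (by decide +kernel) (by decide +kernel)

theorem cen (y : K) (h1 : y * aa = aa * y) (h2 : y * zz = zz * y) :
    y = 1 ∨ y = aa ∨ y = zz ∨ y = aa * zz := by
  obtain ⟨b, c, f, h⟩ := comm_z y h2
  have h3 : (y : M3) * A0 = A0 * y := congrArg Units.val h1
  rw [h] at h3
  rcases four b c f h3 with h4 | h4 | h4 | h4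
  · exact Or.inl (Units.ext (h.trans h4))
  · exact Or.inr (Or.inl (Units.ext (h.trans h4)))
  · exact Or.inr (Or.inr (Or.inl (Units.ext (h.trans h4))))
  · exact Or.inr (Or.inr (Or.inr (Units.ext (h.trans h4))))

theorem rot (u v : K) (hu : u * u = 1) (hv : v * v = 1) (hu1 : u ≠ 1) (hv1 : v ≠ 1) (huv : u ≠ v)
    (hc : u * v = v * u) : ∃ y : K, y * u * y⁻¹ = v ∧ y * v * y⁻¹ = u * v := by
  obtain ⟨p, hp⟩ := conj_zz u hu hu1
  have hz : p * zz * p⁻¹ = u := by rw [← hp]; group
  have c1 : (p⁻¹ * v * p) * zz = zz * (p⁻¹ * v * p) := by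
    rw [← hp]
    calc p⁻¹ * v * p * (p⁻¹ * u * p) = p⁻¹ * (v * u) * p := by group
      _ = p⁻¹ * u * p * (p⁻¹ * v * p) := by rw [← hc]; group
  have c2 : (p⁻¹ * v * p) * (p⁻¹ * v * p) = 1 := by
    calc p⁻¹ * v * p * (p⁻¹ * v * p) = p⁻¹ * (v * v) * p := by group
      _ = 1 := by rw [hv]; group
  have hv' : p * (p⁻¹ * v * p) * p⁻¹ = v := by group
  set v' := p⁻¹ * v * p with hv'd
  obtain ⟨b, c, f, h⟩ := comm_z v' c1
  have h3 : (v' : M3) * v' = 1 := congrArg Units.val c2
  rw [h] at h3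
  have h4 : v' = aa ∨ v' = aa * zz ∨ v' = bb ∨ v' = bb * zz := by
    rcases six b c f h3 with h4 | h4 | h4 | h4 | h4 | h4
    · exfalso
      apply hv1
      have : v' = 1 := Units.ext (h.trans h4)
      rw [← hv', this]; group
    · exfalso
      apply huv
      have : v' = zz := Units.ext (h.trans h4)
      rw [← hv', this, hz]
    · exact Or.inl (Units.ext (h.trans h4))
    · exact Or.inr (Or.inl (Units.ext (h.trans h4)))
    · exact Or.inr (Or.inr (Or.inl (Units.ext (h.trans h4))))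
    · exact Or.inr (Or.inr (Or.inr (Units.ext (h.trans h4))))
  obtain ⟨y, hy1, hy2⟩ := rot0 v' h4
  refine ⟨p * y * p⁻¹, ?_, ?_⟩
  · calc p * y * p⁻¹ * u * (p * y * p⁻¹)⁻¹ = p * (y * (p⁻¹ * u * p)) * y⁻¹ * p⁻¹ := by group
      _ = p * v' * p⁻¹ := by rw [hp, hy1]; group
      _ = v := hv'
  · calc p * y * p⁻¹ * v * (p * y * p⁻¹)⁻¹ = p * (y * (p⁻¹ * v * p)) * y⁻¹ * p⁻¹ := by group
      _ = (p * zz * p⁻¹) * (p * v' * p⁻¹) := by rw [← hv'd, hy2]; group
      _ = u * v := by rw [hz, hv']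

theorem card : Nat.card K = 8 * 21 := by
  rw [Matrix.card_GL_field]
  simp only [Fin.prod_univ_three, _root_.ZMod.card, _root_.Nat.reducePow, _root_.Fin.isValue, _root_.Fin.coe_ofNat_eq_mod, _root_.Nat.zero_mod, _root_.pow_zero, _root_.Nat.add_one_sub_one, _root_.Nat.one_mod, _root_.pow_one, _root_.Nat.reduceSub, _root_.Nat.reduceMul, _root_.Nat.mod_succ]

/-- The facts for a subgroup isomorphic to `GL(3,2)`. -/
theorem facts {X : Type*} [Group X] {Y : Subgroup X} (e : Y ≃* K) :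
    Facts Y (e.symm aa : X) (e.symm bb : X) (e.symm zz : X) where
  ha := (e.symm aa).2
  hb := (e.symm bb).2
  aa := by
    rw [← Subgroup.coe_mul, ← map_mul, aa_sq, map_one, Subgroup.coe_one]
  bb := by
    rw [← Subgroup.coe_mul, ← map_mul, bb_sq, map_one, Subgroup.coe_one]
  hz := by
    rw [← Subgroup.coe_mul, ← map_mul, ← Subgroup.coe_mul, ← map_mul, ← Subgroup.coe_mul, ← map_mul,
      abab]
  z1 := by
    intro h
    apply zz_ne
    have : e.symm zz = 1 := Subtype.ext h
    rwa [map_eq_one_iff e.symm e.symm.injective] at this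
  zz := by
    rw [← Subgroup.coe_mul, ← map_mul, zz_sq, map_one, Subgroup.coe_one]
  card := ⟨21, by decide, by rw [Nat.card_congr e.toEquiv, card]⟩
  cen y hy h1 h2 := by
    have k1 : (⟨y, hy⟩ : Y) * e.symm LThreeModel.aa = e.symm LThreeModel.aa * ⟨y, hy⟩ := Subtype.ext h1
    have k2 : (⟨y, hy⟩ : Y) * e.symm LThreeModel.zz = e.symm LThreeModel.zz * ⟨y, hy⟩ := Subtype.ext h2
    have k3 := congrArg e k1
    have k4 := congrArg e k2
    rw [map_mul, map_mul, MulEquiv.apply_symm_apply] at k3 k4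
    have k5 : ∀ q : K, e ⟨y, hy⟩ = q → y = (e.symm q : X) := by
      rintro q rfl
      rw [MulEquiv.symm_apply_apply]
    rcases LThreeModel.cen _ k3 k4 with h | h | h | h
    · left
      have := k5 _ h
      rw [map_one, Subgroup.coe_one] at this
      exact this
    · exact Or.inr (Or.inl (k5 _ h))
    · exact Or.inr (Or.inr (Or.inl (k5 _ h)))
    · right; right; right
      have := k5 _ h
      rw [map_mul, Subgroup.coe_mul] at this
      exact this
  rot u hu v hv uu vv u1 v1 uv c := by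
    have n1 : ∀ (x : X) (hx : x ∈ Y), x ≠ 1 → e ⟨x, hx⟩ ≠ 1 := by
      intro x hx h h'
      rw [map_eq_one_iff e e.injective] at h'
      exact h (congrArg Subtype.val h')
    have n2 : ∀ (x : X) (hx : x ∈ Y), x * x = 1 → e ⟨x, hx⟩ * e ⟨x, hx⟩ = 1 := by
      intro x hx h
      rw [← map_mul, map_eq_one_iff e e.injective]
      exact Subtype.ext h
    obtain ⟨y, hy1, hy2⟩ := LThreeModel.rot (e ⟨u, hu⟩) (e ⟨v, hv⟩) (n2 u hu uu) (n2 v hv vv) (n1 u hu u1)
      (n1 v hv v1) (by
        intro h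
        exact uv (congrArg Subtype.val (e.injective h))) (by
        rw [← map_mul, ← map_mul]
        congr 1
        exact Subtype.ext c)
    refine ⟨(e.symm y : X), (e.symm y).2, ?_, ?_⟩
    · have := congrArg e.symm hy1
      rw [map_mul, map_mul, map_inv, MulEquiv.symm_apply_apply, MulEquiv.symm_apply_apply] at this
      exact congrArg Subtype.val this
    · have := congrArg e.symm hy2
      rw [map_mul, map_mul, map_mul, map_inv, MulEquiv.symm_apply_apply,
        MulEquiv.symm_apply_apply] at this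
      exact congrArg Subtype.val this

/-- LEMMA L32 for `Y ≃ GL(3,2)`. -/
theorem exists_hom {X : Type*} [Group X] [Finite X] {t : X} {Y : Subgroup X} (C : Cent t Y)
    (e : Y ≃* K) : ∃ f : X →* ℤˣ, f t = -1 :=
  LThree.exists_hom C (facts e)

/-- `GL(W) ≃ GL(3,2)` for `|W| = 8`. -/
theorem exists_equiv {W : Type*} [AddCommGroup W] [Module (ZMod 2) W] (hW : Nat.card W = 8) :
    Nonempty ((W ≃ₗ[ZMod 2] W) ≃* K) := by
  have hf : Finite W := Nat.finite_of_card_ne_zero (by rw [hW]; decide)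
  have h3 : Module.finrank (ZMod 2) W = 3 := by
    have h := Module.natCard_eq_pow_finrank (K := ZMod 2) (V := W)
    rw [hW, Nat.card_zmod] at h
    have : 2 ^ 3 = 2 ^ Module.finrank (ZMod 2) W := h
    exact (Nat.pow_right_injective (le_refl 2) this).symm
  let b := Module.finBasisOfFinrankEq (ZMod 2) W h3
  exact ⟨(LinearMap.GeneralLinearGroup.generalLinearEquiv (ZMod 2) W).symm.trans
    (Units.mapEquiv (LinearMap.toMatrixAlgEquiv b).toMulEquiv)⟩

end Cfsg.Agent.StdSpSix.LThreeModel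
end

-- part: StdSpSix/QLevelSp
section
/-!
# Pattern ALL, `R₀` elementary abelian of order `2¹²`: a sign on `G`

`C : Ctx G V`; `W ≤ V` totally isotropic with 8 elements; `A = A_W` the elements of `L` fixing `W`.
-/

set_option autoImplicit false

namespace Cfsg.Agent.StdSpSix.QLevelSp

open Subgroup
open Cfsg.Agent.StandardComponent.SpTwo
open Cfsg.Agent.SporRec.TwoSp6
open Cfsg.Agent.StdSpSix.QLevelModel

/-- Transport of the facts along an isomorphism. -/
theorem facts_equiv {X Y : Type*} [Group X] [Group Y] (e : X ≃* Y) {A : Subgroup X} {A' : Subgroup Y}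
    (hA : ∀ x, x ∈ A ↔ e x ∈ A') (F : Facts A) : Facts A' := by
  have hA' : ∀ y, y ∈ A' ↔ e.symm y ∈ A := by
    intro y
    rw [hA, e.apply_symm_apply]
  have hN : ∀ x, x ∈ normalizer (A : Set X) ↔ e x ∈ normalizer (A' : Set Y) := by
    intro x
    rw [mem_normalizer_iff, mem_normalizer_iff]
    constructor
    · intro h y
      rw [hA', hA', h (e.symm y), map_mul, map_mul, map_inv, e.symm_apply_apply]
    · intro h y
      rw [hA, hA, h (e y), map_mul, map_mul, map_inv]
  have hcard : Nat.card A' = Nat.card A := by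
    symm
    exact Nat.card_congr (Equiv.subtypeEquiv e.toEquiv hA)
  refine ⟨?_, ?_, ?_, ?_, ?_, ?_, ?_⟩
  · intro y hy
    apply e.symm.injective
    rw [map_mul, map_one]
    exact F.sq _ ((hA' y).1 hy)
  · rw [hcard, F.card]
  · intro B hB hBc
    have hm : ∀ x, x ∈ B.comap e.toMonoidHom ↔ e x ∈ B := fun x => Iff.rfl
    have hc : Nat.card (B.comap e.toMonoidHom) = Nat.card B :=
      Nat.card_congr (Equiv.subtypeEquiv e.toEquiv hm)
    obtain ⟨l, hl⟩ := F.sat (B.comap e.toMonoidHom) (fun x hx => by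
      apply e.injective
      rw [map_mul, map_one]
      exact hB _ hx) (by rw [hc]; exact hBc)
    refine ⟨e l, fun y => ?_⟩
    have h1 := hl (e.symm y)
    rw [hm, e.apply_symm_apply, hA, map_mul, map_mul, map_inv, e.apply_symm_apply] at h1
    exact h1
  · intro l hl
    rw [hA']
    apply F.CA
    intro a ha
    apply e.injective
    rw [map_mul, map_mul, e.apply_symm_apply]
    exact hl _ ((hA a).1 ha)
  · have h1 : (normalizer (A' : Set Y)).comap e.toMonoidHom = normalizer (A : Set X) := by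
      ext x
      exact (hN x).symm
    have h2 : (normalizer (A' : Set Y)).index = (normalizer (A : Set X)).index := by
      rw [← h1, index_comap_of_surjective _ e.surjective]
    rw [h2]
    exact F.odd
  · intro n hn hnn
    have h1 : e.symm n ∈ normalizer (A : Set X) := by rw [hN, e.apply_symm_apply]; exact hn
    obtain ⟨a, ha, h2⟩ := F.lift _ h1 (by rw [← map_mul, ← hA']; exact hnn)
    refine ⟨e a, (hA a).1 ha, ?_⟩
    apply e.symm.injective
    rw [map_mul, map_mul, e.symm_apply_apply, map_one]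
    exact h2
  · obtain ⟨θ, hθ, hk⟩ := F.quo
    let φ : normalizer (A' : Set Y) →* normalizer (A : Set X) :=
      { toFun := fun n => ⟨e.symm n, by rw [hN, e.apply_symm_apply]; exact n.2⟩
        map_one' := Subtype.ext (map_one e.symm)
        map_mul' := fun a b => Subtype.ext (map_mul e.symm _ _) }
    refine ⟨θ.comp φ, ?_, ?_⟩
    · intro U
      obtain ⟨n, rfl⟩ := hθ U
      refine ⟨⟨e n, (hN _).1 n.2⟩, ?_⟩
      change θ (φ _) = _
      congr 1
      exact Subtype.ext (e.symm_apply_apply _)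
    · intro n
      change θ (φ n) = 1 ↔ _
      rw [hk, hA']
      rfl

variable {X V : Type*} [Group X] [AddCommGroup V] [Module (ZMod 2) V]

/-- The pointwise stabilizer of a set of vectors. -/
def AW (S : SpData X V) (W : Set V) : Subgroup X where
  carrier := {g | ∀ w ∈ W, S.ρ g w = w}
  one_mem' := fun w _ => S.ρ_one w
  mul_mem' {g h} hg hh w hw := by rw [S.ρ_mul, hh w hw, hg w hw]
  inv_mem' {g} hg w hw := by
    conv_lhs => rw [← hg w hw]
    rw [S.ρ_inv_apply]

theorem mem_AW {S : SpData X V} {W : Set V} {g : X} : g ∈ AW S W ↔ ∀ w ∈ W, S.ρ g w = w := Iff.rfl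

/-- the facts for the concrete group and any frame -/
theorem facts_frame {u w t : Sp.V} (h : Invol.Ind u w t) (ho : Invol.Orth u w t) (A : Subgroup Sp.S)
    (hA : ∀ g, g ∈ A ↔ Sp.act g u = u ∧ Sp.act g w = w ∧ Sp.act g t = t) : Facts A := by
  have hi : Invol.Ind (Sp.enc 1) (Sp.enc 2) (Sp.enc 4) := by decide +kernel
  have hio : Invol.Orth (Sp.enc 1) (Sp.enc 2) (Sp.enc 4) :=
    ⟨(Sp.om_enc 1 2).trans (by decide), (Sp.om_enc 1 4).trans (by decide), (Sp.om_enc 2 4).trans (by decide)⟩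
  obtain ⟨g, h1, h2, h3⟩ := Invol.exists_triple hi hio h ho
  refine facts_equiv (MulAut.conj g) (A := A0) (fun x => ?_) facts_A0
  have e1 : Sp.enc 1 = Pi.single (Sum.inl 0) 1 := by decide +kernel
  have e2 : Sp.enc 2 = Pi.single (Sum.inl 1) 1 := by decide +kernel
  have e4 : Sp.enc 4 = Pi.single (Sum.inl 2) 1 := by decide +kernel
  -- membership in `A0`
  have hcol : ∀ (j : Fin 3), Sp.act x (Pi.single (Sum.inl j) 1) = Pi.single (Sum.inl j) 1 ↔
      (∀ i, (x : M6) (Sum.inl i) (Sum.inl j) = (1 : M3) i j) ∧ ∀ i, (x : M6) (Sum.inr i) (Sum.inl j) = 0 := by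
    intro j
    have h4 : Sp.act x (Pi.single (Sum.inl j) 1) = fun i => (x : M6) i (Sum.inl j) := by
      unfold Sp.act
      rw [Matrix.mulVec_single_one]
      rfl
    rw [h4, funext_iff, Sum.forall]
    apply and_congr
    · apply forall_congr'
      intro i
      rw [Pi.single_apply, Matrix.one_apply]
      simp only [Sum.inl.injEq]
    · apply forall_congr'
      intro i
      rw [Pi.single_apply]
      simp
  have hA0 : x ∈ A0 ↔ Sp.act x (Sp.enc 1) = Sp.enc 1 ∧ Sp.act x (Sp.enc 2) = Sp.enc 2 ∧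
      Sp.act x (Sp.enc 4) = Sp.enc 4 := by
    rw [e1, e2, e4, hcol, hcol, hcol, mem_A0]
    constructor
    · rintro ⟨h5, h6⟩
      have h5' : ∀ i j, (x : M6) (Sum.inr i) (Sum.inl j) = 0 := fun i j => congrFun (congrFun h5 i) j
      have h6' : ∀ i j, (x : M6) (Sum.inl i) (Sum.inl j) = (1 : M3) i j := fun i j => congrFun (congrFun h6 i) j
      exact ⟨⟨fun i => h6' i 0, fun i => h5' i 0⟩, ⟨fun i => h6' i 1, fun i => h5' i 1⟩,
        ⟨fun i => h6' i 2, fun i => h5' i 2⟩⟩
    · rintro ⟨h5, h6, h7⟩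
      constructor
      · ext i j
        fin_cases j
        · exact h5.2 i
        · exact h6.2 i
        · exact h7.2 i
      · ext i j
        fin_cases j
        · exact h5.1 i
        · exact h6.1 i
        · exact h7.1 i
  rw [hA0, hA]
  have key : ∀ a b : Sp.V, Sp.act g a = b → (Sp.act x a = a ↔ Sp.act (MulAut.conj g x) b = b) := by
    rintro a b rfl
    rw [MulAut.conj_apply, Sp.act_mul, Sp.act_mul, ← Sp.act_mul g⁻¹ g, inv_mul_cancel, Sp.act_one]
    constructor
    · intro h; rw [h]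
    · intro h; exact Invol.act_inj h
  rw [key _ _ h1, key _ _ h2, key _ _ h3]

/-- the facts for `A_W` -/
theorem facts_AW (S : SpData X V) (hV : Nat.card V = 64) (W : Submodule (ZMod 2) V) (hW : Nat.card W = 8)
    (hti : ∀ u ∈ W, ∀ v ∈ W, S.B u v = 0) : Facts (AW S W) := by
  obtain ⟨c⟩ := Model.exists_coord S hV
  have : Finite W := Nat.finite_of_card_ne_zero (by rw [hW]; decide)
  have hr : Module.finrank (ZMod 2) W = 3 := by
    have := Fintype.ofFinite W
    have h := Module.card_eq_pow_finrank (K := ZMod 2) (V := W)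
    rw [← Nat.card_eq_fintype_card, hW, ZMod.card] at h
    have h2 : (2 : ℕ) ^ Module.finrank (ZMod 2) W = 2 ^ 3 := by rw [← h]; norm_num
    exact Nat.pow_right_injective le_rfl h2
  let b : Module.Basis (Fin 3) (ZMod 2) W := Module.finBasisOfFinrankEq (ZMod 2) W hr
  set v : Fin 3 → V := fun i => (b i : V) with hv
  have hrep : ∀ x ∈ W, ∃ r : Fin 3 → ZMod 2, x = r 0 • v 0 + r 1 • v 1 + r 2 • v 2 := by
    intro x hx
    refine ⟨fun i => b.repr ⟨x, hx⟩ i, ?_⟩
    have h := b.sum_repr ⟨x, hx⟩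
    have h2 := congrArg (Subtype.val : W → V) h
    rw [Fin.sum_univ_three] at h2
    exact h2.symm
  have hind : ∀ r : Fin 3 → ZMod 2, r 0 • v 0 + r 1 • v 1 + r 2 • v 2 = 0 → r = 0 := by
    intro r hr0
    have h1 := Fintype.linearIndependent_iff.1 b.linearIndependent r (by
      apply Subtype.ext
      rw [Fin.sum_univ_three]
      exact hr0)
    funext i
    exact h1 i
  have hne : ∀ r : Fin 3 → ZMod 2, r ≠ 0 → r 0 • v 0 + r 1 • v 1 + r 2 • v 2 ≠ 0 := fun r hr0 h => hr0 (hind r h)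
  -- the frame in the concrete space
  set u : Fin 3 → Sp.V := fun i => c.f.symm (v i) with hu
  have hcomb : ∀ r : Fin 3 → ZMod 2, c.f.symm (r 0 • v 0 + r 1 • v 1 + r 2 • v 2) =
      r 0 • u 0 + r 1 • u 1 + r 2 • u 2 := by
    intro r
    rw [map_add, map_add, map_smul, map_smul, map_smul]
  have hne' : ∀ r : Fin 3 → ZMod 2, r ≠ 0 → r 0 • u 0 + r 1 • u 1 + r 2 • u 2 ≠ 0 := by
    intro r hr0 h
    rw [← hcomb] at h
    exact hne r hr0 ((map_eq_zero_iff _ c.f.symm.injective).1 h)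
  have hInd : Invol.Ind (u 0) (u 1) (u 2) := by
    have h1 := hne' ![1, 0, 0] (by decide)
    have h2 := hne' ![0, 1, 0] (by decide)
    have h3 := hne' ![1, 1, 0] (by decide)
    have h4 := hne' ![0, 0, 1] (by decide)
    have h5 := hne' ![1, 0, 1] (by decide)
    have h6 := hne' ![0, 1, 1] (by decide)
    have h7 := hne' ![1, 1, 1] (by decide)
    simp only [Matrix.cons_val_zero, Matrix.cons_val_one, Matrix.cons_val_two, Matrix.head_cons, Matrix.tail_cons,
      one_smul, zero_smul, add_zero, zero_add] at h1 h2 h3 h4 h5 h6 h7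
    refine ⟨h1, h2, fun h => h3 ?_, h4, fun h => h5 ?_, fun h => h6 ?_, fun h => h7 ?_⟩
    · rw [h]; exact Sp.add_self _
    · rw [h]; exact Sp.add_self _
    · rw [h]; exact Sp.add_self _
    · rw [h]; exact Sp.add_self _
  have hom : ∀ i j, Sp.om (u i) (u j) = 0 := by
    intro i j
    rw [← c.om, hu]
    simp only [LinearEquiv.apply_symm_apply]
    exact hti _ (b i).2 _ (b j).2
  refine facts_equiv c.e (A := (AW S W).comap c.e.toMonoidHom) (fun x => Iff.rfl)
    (facts_frame hInd ⟨hom 0 1, hom 0 2, hom 1 2⟩ _ fun g => ?_)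
  have hact : ∀ i, Sp.act g (u i) = u i ↔ S.ρ (c.e g) (v i) = v i := by
    intro i
    have h1 := c.act g (u i)
    rw [hu] at h1 ⊢
    simp only [LinearEquiv.apply_symm_apply] at h1 ⊢
    rw [h1]
    constructor
    · intro h
      rw [h, LinearEquiv.apply_symm_apply]
    · intro h
      apply c.f.injective
      rw [h, LinearEquiv.apply_symm_apply]
  rw [hact, hact, hact]
  constructor
  · intro h
    exact ⟨h _ (b 0).2, h _ (b 1).2, h _ (b 2).2⟩
  · rintro ⟨h0, h1, h2⟩ x hx
    obtain ⟨r, rfl⟩ := hrep x hx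
    change S.ρ (c.e g) _ = _
    rw [map_add, map_add, map_smul, map_smul, map_smul, h0, h1, h2]

/-! ### the data -/

section Main

variable {G : Type*} [Group G] (C : Ctx G V)

/-- `A_W` as a subgroup of `G` -/
def AG (W : Set V) : Subgroup G := (AW C.S W).map C.L.subtype

theorem mem_AG {W : Set V} {g : G} : g ∈ AG C W ↔ ∃ h : g ∈ C.L, ∀ w ∈ W, C.S.ρ ⟨g, h⟩ w = w := by
  constructor
  · rintro ⟨x, hx, rfl⟩
    exact ⟨x.2, hx⟩
  · rintro ⟨h, h1⟩
    exact ⟨⟨g, h⟩, h1, rfl⟩

theorem AG_le (W : Set V) : AG C W ≤ C.L := by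
  rintro _ ⟨x, -, rfl⟩
  exact x.2

theorem mem_AG_coe {W : Set V} {g : C.L} : (g : G) ∈ AG C W ↔ g ∈ AW C.S W :=
  mem_map_iff_mem C.L.subtype_injective

theorem mem_normalizer_AG {W : Set V} {g : C.L} :
    (g : G) ∈ normalizer (AG C W : Set G) ↔ g ∈ normalizer (AW C.S W : Set C.L) := by
  rw [mem_normalizer_iff, mem_normalizer_iff]
  constructor
  · intro h x
    rw [← mem_AG_coe, ← mem_AG_coe, h]
    rfl
  · intro h x
    constructor
    · intro hx
      have hxL := AG_le C W hx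
      have h1 := (h ⟨x, hxL⟩).1 ((mem_AG_coe C).1 hx)
      exact (mem_AG_coe C).2 h1
    · intro hx
      have hxL := AG_le C W hx
      have hxL' : x ∈ C.L := by
        have h2 := mul_mem (mul_mem (inv_mem g.2) hxL) g.2
        have h3 : (g : G)⁻¹ * (g * x * (g : G)⁻¹) * g = x := by group
        rwa [h3] at h2
      have h1 := (h ⟨x, hxL'⟩).2 ((mem_AG_coe C).1 hx)
      exact (mem_AG_coe C).2 h1

/-- the data for `QLevel` -/
def data [Finite G] (hL : ∀ x ∈ C.L, x ∉ C.D) (hall : ∀ x ∈ C.L, x * x = 1 → x ≠ 1 → C.t * x ∈ C.D)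
    (W : Submodule (ZMod 2) V) (F : Facts (AW C.S W)) (R : Subgroup G)
    (hsq : ∀ x ∈ R, x * x = 1) (hcard : Nat.card R = 4096) (htR : ∀ x ∈ R, C.t * x * C.t ∈ R)
    (hAR : AG C W ≤ R) (hRA : ∀ x ∈ R, x * C.t = C.t * x → x ∈ AG C W) : QLevel.Data G where
  t := C.t
  L := C.L
  A := AG C W
  Q := R
  tt := C.tt
  cent := C.cent
  DL g h := hL _ h ⟨g, rfl⟩
  all l hl hll := by
    by_cases h1 : l = 1
    · refine ⟨1, ?_⟩
      rw [h1]; group
    · obtain ⟨g, hg⟩ := hall l hl hll h1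
      exact ⟨g, hg⟩
  AL := AG_le C W
  cardA := by
    rw [AG, card_map_of_injective C.L.subtype_injective, F.card]
    decide
  sat B hB hBsq hBc := by
    have h1 : Nat.card (B.subgroupOf C.L) = Nat.card B := QLevel.card_sub_eq hB
    rw [AG, card_map_of_injective C.L.subtype_injective, F.card] at hBc
    obtain ⟨l, hl⟩ := F.sat (B.subgroupOf C.L) (fun x hx => Subtype.ext (hBsq _ hx)) (by rw [h1]; exact hBc)
    refine ⟨l, l.2, fun x => ?_⟩
    constructor
    · intro hx
      have h2 := (hl ⟨x, hB hx⟩).1 hx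
      exact (mem_AG_coe C).2 h2
    · intro hx
      have hxL := AG_le C W hx
      have hxL' : x ∈ C.L := by
        have h2 := mul_mem (mul_mem l.2 hxL) (inv_mem l.2)
        have h3 : (l : G) * ((l : G)⁻¹ * x * l) * (l : G)⁻¹ = x := by group
        rwa [h3] at h2
      exact (hl ⟨x, hxL'⟩).2 ((mem_AG_coe C).1 hx)
  CA l hl h := by
    have h1 := F.CA ⟨l, hl⟩ (fun a ha => Subtype.ext (h _ ((mem_AG_coe C).2 ha)))
    exact (mem_AG_coe C).2 h1
  QQ := hsq
  cardQ := by
    rw [AG, card_map_of_injective C.L.subtype_injective, F.card, hcard]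
  tQ := htR
  AQ := hAR
  QA := hRA
  odd := by
    have h1 : (normalizer (AG C W : Set G)).subgroupOf C.L = normalizer (AW C.S W : Set C.L) := by
      ext x
      rw [mem_subgroupOf]
      exact mem_normalizer_AG C
    rw [relIndex, h1]
    exact F.odd
  lift n hn hN hnn := by
    have h1 : (⟨n, hn⟩ : C.L) ∈ normalizer (AW C.S W : Set C.L) :=
      (mem_normalizer_AG C).1 (mem_normalizer_iff.2 hN)
    obtain ⟨a, ha, h2⟩ := F.lift _ h1 ((mem_AG_coe C).1 hnn)
    exact ⟨a, (mem_AG_coe C).2 ha, congrArg Subtype.val h2⟩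

/-- **[III-b]** Pattern ALL and an elementary abelian `R₀` of order `2¹²` doubled from `A_W`: a sign on `G`. -/
theorem exists_hom [Finite G] (hL : ∀ x ∈ C.L, x ∉ C.D) (hall : ∀ x ∈ C.L, x * x = 1 → x ≠ 1 → C.t * x ∈ C.D)
    (W : Submodule (ZMod 2) V) (hW : Nat.card W = 8) (hti : ∀ u ∈ W, ∀ v ∈ W, C.S.B u v = 0) (R : Subgroup G)
    (hsq : ∀ x ∈ R, x * x = 1) (hcard : Nat.card R = 4096) (htR : ∀ x ∈ R, C.t * x * C.t ∈ R)
    (hAR : AG C W ≤ R) (hRA : ∀ x ∈ R, x * C.t = C.t * x → x ∈ AG C W) : ∃ m : G →* ℤˣ, m C.t = -1 := by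
  have F := facts_AW C.S C.cardV W hW hti
  obtain ⟨θ, hθ, hk⟩ := F.quo
  set D := data C hL hall W F R hsq hcard htR hAR hRA with hD
  have hDN : ∀ g : G, g ∈ D.L ⊓ normalizer (D.A : Set G) →
      ∃ h : g ∈ C.L, (⟨g, h⟩ : C.L) ∈ normalizer (AW C.S W : Set C.L) := by
    intro g hg
    have h1 : g ∈ C.L := (mem_inf.1 hg).1
    exact ⟨h1, (mem_normalizer_AG C).1 (mem_inf.1 hg).2⟩
  let φ : (D.L ⊓ normalizer (D.A : Set G) : Subgroup G) →* normalizer (AW C.S W : Set C.L) :=
    { toFun := fun g => ⟨⟨g, (hDN g g.2).1⟩, (hDN g g.2).2⟩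
      map_one' := rfl
      map_mul' := fun _ _ => rfl }
  refine D.main (θ.comp φ) ?_ ?_ ?_
  · intro U
    obtain ⟨n, rfl⟩ := hθ U
    exact ⟨⟨((n : C.L) : G), mem_inf.2 ⟨(n : C.L).2, (mem_normalizer_AG C).2 n.2⟩⟩, rfl⟩
  · intro n
    change θ (φ n) = 1 ↔ _
    rw [hk]
    exact (mem_AG_coe C).symm
  · intro X _ _ t Y e h1 h2 h3 h4 h5
    refine LThreeModel.exists_hom (t := t) (Y := Y) ⟨h1, ?_, ?_, ?_, ?_⟩ e
    · intro y hy
      exact ((h2 y).2 (Or.inl hy)).symm
    · intro g hg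
      exact (h2 g).1 hg
    · intro y hy hyy
      obtain ⟨g, hg⟩ := h5 y hy hyy
      rw [isConj_iff]
      exact ⟨g, hg.symm⟩
    · intro y hy h
      obtain ⟨g, hg⟩ := isConj_iff.1 h
      apply h4 g
      rw [hg]; exact hy

end Main

end Cfsg.Agent.StdSpSix.QLevelSp
end

-- part: StdSpSix/EType
section
/-!
# The elements `a m` of `Sp₆(2)`: faithfulness, types, conjugation by linear maps
-/

set_option autoImplicit false

namespace Cfsg.Agent.StdSpSix.EType

open Cfsg.Agent.SporRec.TwoSp6 Cfsg.Agent.SporRec.TwoSp6.Sp Cfsg.Agent.StdSpSix.EMask Cfsg.Agent.StdSpSix.EA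
open Cfsg.Agent.StdSpSix.Words

/-! ### action on codes -/

def dp (m c i : ℕ) : ℕ := if m.testBit i then (if fN c (i + 1) then i + 1 else 0) else 0

/-- The action of `a m` on codes. -/
def ac (m c : ℕ) : ℕ :=
  c ^^^ (dp m c 0 ^^^ (dp m c 1 ^^^ (dp m c 2 ^^^ (dp m c 3 ^^^ (dp m c 4 ^^^ (dp m c 5 ^^^ dp m c 6))))))

theorem enc_dp (m c i : ℕ) : enc (dp m c i) = if m.testBit i then dis (enc c) (i + 1) else 0 := by
  unfold dp dis
  rw [om_enc]
  split_ifs
  · rw [one_smul]
  · rw [zero_smul, enc_zero]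
  · exact enc_zero

theorem act_a_enc (m c : ℕ) : act (a m) (enc c) = enc (ac m c) := by
  rw [act_a]
  unfold ac sg
  rw [enc_xor, enc_xor, enc_xor, enc_xor, enc_xor, enc_xor, enc_xor]
  simp only [Finset.sum_range_succ, Finset.sum_range_zero, zero_add, enc_dp]
  abel

theorem a_eq_one {m : ℕ} (h : ∀ c < 64, ac m c = c) : a m = 1 := by
  apply act_ext
  intro x
  obtain ⟨c, hc, rfl⟩ := exists_enc x
  rw [act_a_enc, h c hc, act_one]

theorem a_full : a 127 = 1 := a_eq_one (by decide +kernel)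

theorem a_nm (m : ℕ) : a (nm m) = a m := by
  unfold nm
  split_ifs
  · rw [a_xor, a_full, mul_one]
  · rfl

theorem ac_lt : ∀ m < 64, ∀ c < 64, ac m c < 64 := by (set_option synthInstance.maxSize 100000 in exact Cfsg.Agent.Lib.Refl.of (by decide +kernel))

theorem ac_ne : ∀ m < 64, m ≠ 0 → ¬ ∀ c < 64, ac m c = c := by (set_option synthInstance.maxSize 100000 in exact Cfsg.Agent.Lib.Refl.of (by decide +kernel))

theorem enc_inj {c d : ℕ} (hc : c < 64) (hd : d < 64) (h : enc c = enc d) : c = d := by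
  by_contra h'
  exact ne_of_enc hc hd h' h

theorem eq_zero_of_a {m : ℕ} (hm : m < 64) (h : a m = 1) : m = 0 := by
  by_contra h0
  refine ac_ne m hm h0 fun c hc => ?_
  have h1 := act_a_enc m c
  rw [h, act_one] at h1
  exact (enc_inj hc (ac_lt m hm c hc) h1).symm

theorem a_inj {m n : ℕ} (hm : m < 64) (hn : n < 64) (h : a m = a n) : m = n := by
  have h1 : a (m ^^^ n) = 1 := by rw [a_xor, h, a_sq]
  have h2 := eq_zero_of_a (Nat.xor_lt_two_pow (n := 6) hm hn) h1
  exact Nat.xor_eq_zero_iff.1 h2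

/-! ### alternating elements -/

/-- `x ⊥ g x` for all `x`. -/
def Alt (g : S) : Prop := ∀ x, om x (act g x) = 0

theorem Alt.conj {g : S} (h : Alt g) (k : S) : Alt (k * g * k⁻¹) := by
  intro x
  rw [act_mul, act_mul]
  have h1 := h (act k⁻¹ x)
  rw [← act_om k, ← act_mul, mul_inv_cancel, act_one] at h1
  exact h1

theorem fN_ac : ∀ m < 64, (∀ c < 64, fN c (ac m c) = false) ↔ (ty m = 0 ∨ ty m = 2) := by (set_option synthInstance.maxSize 100000 in exact Cfsg.Agent.Lib.Refl.of (by decide +kernel))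

theorem alt_a {m : ℕ} (hm : m < 64) : Alt (a m) ↔ (ty m = 0 ∨ ty m = 2) := by
  rw [← fN_ac m hm]
  have hb : ∀ b : Bool, (if b then (1 : ZMod 2) else 0) = 0 ↔ b = false := by decide
  constructor
  · intro h c hc
    have h1 := h (enc c)
    rw [act_a_enc, om_enc, hb] at h1
    exact h1
  · intro h x
    obtain ⟨c, hc, rfl⟩ := exists_enc x
    rw [act_a_enc, om_enc, hb]
    exact h c hc

/-! ### linear maps -/

theorem ind_enc {x y z : ℕ} (hx : x < 64) (hy : y < 64) (hz : z < 64) (h1 : x ≠ 0) (h2 : y ≠ 0) (h3 : y ≠ x)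
    (h4 : z ≠ 0) (h5 : z ≠ x) (h6 : z ≠ y) (h7 : z ≠ x ^^^ y) : Invol.Ind (enc x) (enc y) (enc z) := by
  have h0 : (0 : ℕ) < 64 := by norm_num
  refine ⟨?_, ?_, ne_of_enc hy hx h3, ?_, ne_of_enc hz hx h5, ne_of_enc hz hy h6, ?_⟩
  · rw [← enc_zero]; exact ne_of_enc hx h0 h1
  · rw [← enc_zero]; exact ne_of_enc hy h0 h2
  · rw [← enc_zero]; exact ne_of_enc hz h0 h4
  · rw [← enc_xor]; exact ne_of_enc hz (Nat.xor_lt_two_pow (n := 6) hx hy) h7

theorem good_ind : ∀ T < 512, good T = true → lin T 1 ≠ 0 ∧ lin T 2 ≠ 0 ∧ lin T 2 ≠ lin T 1 ∧ lin T 4 ≠ 0 ∧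
    lin T 4 ≠ lin T 1 ∧ lin T 4 ≠ lin T 2 ∧ lin T 4 ≠ lin T 1 ^^^ lin T 2 := by (delta Cfsg.Agent.StdSpSix.EMask.good; set_option synthInstance.maxSize 100000 in exact Cfsg.Agent.Lib.Refl.of (by decide +kernel))

theorem lin_lin : ∀ T < 512, lin T 0 = 0 ∧ lin T 3 = lin T 1 ^^^ lin T 2 ∧ lin T 5 = lin T 1 ^^^ lin T 4 ∧
    lin T 6 = lin T 2 ^^^ lin T 4 ∧ lin T 7 = lin T 1 ^^^ (lin T 2 ^^^ lin T 4) := by (set_option synthInstance.maxSize 100000 in exact Cfsg.Agent.Lib.Refl.of (by decide +kernel))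

theorem exists_lin {T : ℕ} (hT : T < 512) (hg : good T = true) : ∃ g : S, ∀ c < 8, act g (enc c) = enc (lin T c) := by
  obtain ⟨h1, h2, h3, h4, h5, h6, h7⟩ := good_ind T hT hg
  have hl : ∀ c < 8, lin T c < 8 := good_lt T hT
  have hl64 : ∀ c < 8, lin T c < 64 := fun c hc => lt_of_lt_of_le (hl c hc) (by norm_num)
  have hI := ind_enc (hl64 1 (by norm_num)) (hl64 2 (by norm_num)) (hl64 4 (by norm_num)) h1 h2 h3 h4 h5 h6 h7
  have hO : Invol.Orth (enc (lin T 1)) (enc (lin T 2)) (enc (lin T 4)) :=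
    ⟨om_small _ (hl 1 (by norm_num)) _ (hl 2 (by norm_num)), om_small _ (hl 1 (by norm_num)) _ (hl 4 (by norm_num)),
      om_small _ (hl 2 (by norm_num)) _ (hl 4 (by norm_num))⟩
  have hI0 : Invol.Ind (enc 1) (enc 2) (enc 4) := ind_enc (by norm_num) (by norm_num) (by norm_num) (by decide)
    (by decide) (by decide) (by decide) (by decide) (by decide) (by decide)
  have hO0 : Invol.Orth (enc 1) (enc 2) (enc 4) := ⟨om_small _ (by norm_num) _ (by norm_num),
    om_small _ (by norm_num) _ (by norm_num), om_small _ (by norm_num) _ (by norm_num)⟩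
  obtain ⟨g, g1, g2, g4⟩ := Invol.exists_triple hI0 hO0 hI hO
  obtain ⟨l0, l3, l5, l6, l7⟩ := lin_lin T hT
  refine ⟨g, fun c hc => ?_⟩
  have e3 : enc 3 = enc 1 + enc 2 := by rw [← enc_xor]; rfl
  have e5 : enc 5 = enc 1 + enc 4 := by rw [← enc_xor]; rfl
  have e6 : enc 6 = enc 2 + enc 4 := by rw [← enc_xor]; rfl
  have e7 : enc 7 = enc 1 + (enc 2 + enc 4) := by rw [← enc_xor, ← enc_xor]; rfl
  interval_cases c
  · rw [l0, enc_zero, Invol.act_zero]
  · exact g1
  · exact g2
  · rw [l3, e3, act_add, g1, g2, enc_xor]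
  · exact g4
  · rw [l5, e5, act_add, g1, g4, enc_xor]
  · rw [l6, e6, act_add, g2, g4, enc_xor]
  · rw [l7, e7, act_add, act_add, g1, g2, g4, enc_xor, enc_xor]

/-- Conjugation by an element inducing a linear map. -/
theorem exists_conj_lin {T : ℕ} (hT : T < 512) (hg : good T = true) : ∃ g : S, ∀ m, g * a m * g⁻¹ = a (qm T m) := by
  obtain ⟨g, h⟩ := exists_lin hT hg
  refine ⟨g, fun m => ?_⟩
  unfold qm
  rw [a_nm]
  exact conj_a (fun c h1 h2 => ⟨good_pos hg h1 h2, good_lt T hT c h2⟩) (fun c _ h2 => h c h2) m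

/-! ### types -/

/-- Words of the types. -/
def wd (k : ℕ) : List ℕ := [[], [1], [1, 2, 3], [1, 2], [1, 2, 4]].getD k []

theorem a_eq_W {m : ℕ} {ks : List ℕ} (h : ∀ c < 64, ac m c = wc ks c) : a m = W ks := by
  apply act_ext
  intro x
  obtain ⟨c, hc, rfl⟩ := exists_enc x
  rw [act_a_enc, act_W, h c hc]

theorem a_rep : ∀ k < 5, a (rep k) = W (wd k) := by
  have h : ∀ k < 5, ∀ c < 64, ac (rep k) c = wc (wd k) c := by decide +kernel
  intro k hk
  exact a_eq_W (h k hk)

/-- Every `a m` is conjugate to the word of its type. -/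
theorem exists_conj_word {m : ℕ} (hm : m < 64) : ∃ g : S, g * a m * g⁻¹ = W (wd (ty m)) := by
  obtain ⟨h1, h2, h3⟩ := tab_spec m hm
  obtain ⟨g, hg⟩ := exists_conj_lin h1 h2
  refine ⟨g⁻¹, ?_⟩
  rw [← a_rep _ (Nat.lt_succ_of_le (ty_le m hm))]
  have := hg (rep (ty m))
  rw [h3] at this
  rw [← this]
  group

/-! ### the subgroup -/

/-- The pointwise stabilizer of the span of `enc 1`, `enc 2`, `enc 4`. -/
def A : Subgroup S where
  carrier := {g | act g (enc 1) = enc 1 ∧ act g (enc 2) = enc 2 ∧ act g (enc 4) = enc 4}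
  one_mem' := ⟨act_one _, act_one _, act_one _⟩
  mul_mem' := by
    rintro g h ⟨h1, h2, h3⟩ ⟨h4, h5, h6⟩
    exact ⟨by rw [act_mul, h4, h1], by rw [act_mul, h5, h2], by rw [act_mul, h6, h3]⟩
  inv_mem' := by
    rintro g ⟨h1, h2, h3⟩
    have key : ∀ x, act g x = x → act g⁻¹ x = x := by
      intro x hx
      conv_lhs => rw [← hx]
      rw [← act_mul, inv_mul_cancel, act_one]
    exact ⟨key _ h1, key _ h2, key _ h3⟩

theorem facts_A : QLevelModel.Facts A := by
  have hI0 : Invol.Ind (enc 1) (enc 2) (enc 4) := ind_enc (by norm_num) (by norm_num) (by norm_num) (by decide)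
    (by decide) (by decide) (by decide) (by decide) (by decide) (by decide)
  have hO0 : Invol.Orth (enc 1) (enc 2) (enc 4) := ⟨om_small _ (by norm_num) _ (by norm_num),
    om_small _ (by norm_num) _ (by norm_num), om_small _ (by norm_num) _ (by norm_num)⟩
  exact QLevelSp.facts_frame hI0 hO0 A (fun g => Iff.rfl)

theorem a_mem (m : ℕ) : a m ∈ A := by
  have h : ∀ c < 8, act (a m) (enc c) = enc c := by
    intro c hc
    rw [act_a]
    have : sg (dis (enc c)) m = 0 := by
      unfold sg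
      refine Finset.sum_eq_zero fun i hi => ?_
      rw [Finset.mem_range] at hi
      unfold dis
      rw [om_small c hc (i + 1) (by omega), zero_smul, ite_self]
    rw [this, add_zero]
  exact ⟨h 1 (by norm_num), h 2 (by norm_num), h 4 (by norm_num)⟩

theorem surj_of_card {X : Type*} [Group X] (A : Subgroup X) (hA : Nat.card A = 64) (f : ℕ → X)
    (hf : ∀ m, f m ∈ A) (hi : ∀ m < 64, ∀ n < 64, f m = f n → m = n) {x : X} (hx : x ∈ A) : ∃ m < 64, x = f m := by
  have hfin : Finite A := Nat.finite_of_card_ne_zero (by rw [hA]; norm_num)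
  have hb : Function.Bijective (fun m : Fin 64 => (⟨f m.val, hf m.val⟩ : A)) := by
    rw [Nat.bijective_iff_injective_and_card]
    refine ⟨?_, by rw [hA, Nat.card_eq_fintype_card, Fintype.card_fin]⟩
    intro m n h
    exact Fin.ext (hi _ m.2 _ n.2 (congrArg Subtype.val h))
  obtain ⟨m, hm⟩ := hb.2 ⟨x, hx⟩
  exact ⟨m.val, m.2, (congrArg Subtype.val hm).symm⟩

theorem mem_A {x : S} : x ∈ A ↔ ∃ m < 64, x = a m := by
  constructor
  · intro hx
    exact surj_of_card A facts_A.card a a_mem (fun m hm n hn => a_inj hm hn) hx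
  · rintro ⟨m, -, rfl⟩
    exact a_mem m

end Cfsg.Agent.StdSpSix.EType
end

-- part: StdSpSix/EGraph
section
/-!
# No transitive group on 36 points with subdegrees 1, 7, 28 whose point stabilizer is 2-transitive on the 7
-/

set_option autoImplicit false
set_option linter.unusedSectionVars false

namespace Cfsg.Agent.StdSpSix.EGraph

open Finset

theorem inv_self {β : Type*} (e : Equiv.Perm β) (x : β) : (e⁻¹ : Equiv.Perm β) (e x) = x := e.symm_apply_apply x

theorem self_inv {β : Type*} (e : Equiv.Perm β) (x : β) : e ((e⁻¹ : Equiv.Perm β) x) = x := e.apply_symm_apply x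

variable {α : Type*} [Fintype α] [DecidableEq α]

/-- The data: `H` acts on `Δ`, `A` and `B` are the nontrivial orbits of the stabilizer of `t`. -/
structure Data (H : Subgroup (Equiv.Perm α)) (Δ A B : Finset α) (t : α) : Prop where
  cardΔ : Δ.card = 36
  cardA : A.card = 7
  cardB : B.card = 28
  mem : ∀ x, x ∈ Δ ↔ x = t ∨ x ∈ A ∨ x ∈ B
  tA : t ∉ A
  disj : Disjoint A B
  inv : ∀ π ∈ H, ∀ x ∈ Δ, π x ∈ Δ
  trans : ∀ x ∈ Δ, ∃ π ∈ H, π t = x
  stab : ∀ π ∈ H, π t = t → ∀ x ∈ A, π x ∈ A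
  two : ∃ x₀ y₀, ∀ x ∈ A, ∀ y ∈ A, x ≠ y → ∃ π ∈ H, π t = t ∧ π x₀ = x ∧ π y₀ = y
  one : ∃ b₀, ∀ x ∈ B, ∃ π ∈ H, π t = t ∧ π b₀ = x

variable {H : Subgroup (Equiv.Perm α)} {Δ A B : Finset α} {t : α}

/-- The orbital of `A`. -/
def R (H : Subgroup (Equiv.Perm α)) (A : Finset α) (t d e : α) : Prop := ∃ π ∈ H, π t = d ∧ ∃ a ∈ A, π a = e

theorem R_map {σ : Equiv.Perm α} (hσ : σ ∈ H) {d e : α} (h : R H A t d e) : R H A t (σ d) (σ e) := by
  obtain ⟨π, hπ, rfl, a, ha, rfl⟩ := h
  exact ⟨σ * π, mul_mem hσ hπ, rfl, a, ha, rfl⟩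

theorem R_iff {σ : Equiv.Perm α} (hσ : σ ∈ H) {d e : α} : R H A t (σ d) (σ e) ↔ R H A t d e := by
  refine ⟨fun h => ?_, R_map hσ⟩
  have := R_map (inv_mem hσ) h
  rwa [inv_self, inv_self] at this

open Classical in
theorem card_image {P Q : α → Prop} {σ : Equiv.Perm α} (S T : Finset α) (hS : ∀ x ∈ S, σ x ∈ T)
    (hT : ∀ x ∈ T, σ⁻¹ x ∈ S) (h : ∀ x, Q (σ x) ↔ P x) : (T.filter Q).card = (S.filter P).card := by
  symm
  refine Finset.card_nbij' σ (σ⁻¹ : Equiv.Perm α) ?_ ?_ ?_ ?_
  · intro x hx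
    rw [Finset.mem_coe, Finset.mem_filter] at hx ⊢
    exact ⟨hS x hx.1, (h x).2 hx.2⟩
  · intro x hx
    rw [Finset.mem_coe, Finset.mem_filter] at hx ⊢
    refine ⟨hT x hx.1, ?_⟩
    rw [← h, self_inv]
    exact hx.2
  · intro x _
    exact inv_self _ _
  · intro x _
    exact self_inv _ _

open Classical in
theorem Data.false (h : Data H Δ A B t) : False := by
  have hΔinv : ∀ π ∈ H, ∀ x ∈ Δ, (π⁻¹ : Equiv.Perm α) x ∈ Δ := fun π hπ x hx => h.inv _ (inv_mem hπ) x hx
  have htΔ : t ∈ Δ := (h.mem t).2 (Or.inl rfl)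
  have hAΔ : ∀ x ∈ A, x ∈ Δ := fun x hx => (h.mem x).2 (Or.inr (Or.inl hx))
  have hBΔ : ∀ x ∈ B, x ∈ Δ := fun x hx => (h.mem x).2 (Or.inr (Or.inr hx))
  -- neighbours of `t`
  have hRt : ∀ e, R H A t t e ↔ e ∈ A := by
    intro e
    constructor
    · rintro ⟨π, hπ, hπt, a, ha, rfl⟩
      exact h.stab π hπ hπt a ha
    · intro he
      exact ⟨1, one_mem _, rfl, e, he, rfl⟩
  have hRtt : ¬ R H A t t t := fun h' => h.tA ((hRt t).1 h')
  have hirr : ∀ d ∈ Δ, ¬ R H A t d d := by
    intro d hd h'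
    obtain ⟨π, hπ, rfl⟩ := h.trans d hd
    exact hRtt ((R_iff hπ).1 h')
  have h7 : ∀ d ∈ Δ, (Δ.filter fun e => R H A t d e).card = 7 := by
    intro d hd
    obtain ⟨π, hπ, rfl⟩ := h.trans d hd
    rw [card_image (σ := π) (P := fun e => R H A t t e) Δ Δ (h.inv π hπ) (hΔinv π hπ) (fun x => R_iff hπ)]
    have : (Δ.filter fun e => R H A t t e) = A := by
      ext e
      rw [Finset.mem_filter, hRt]
      exact ⟨fun h' => h'.2, fun h' => ⟨hAΔ e h', h'⟩⟩
    rw [this, h.cardA]
  have h7' : ∀ e ∈ Δ, (Δ.filter fun d => R H A t d e).card = (Δ.filter fun d => R H A t d t).card := by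
    intro e he
    obtain ⟨π, hπ, rfl⟩ := h.trans e he
    exact card_image (σ := π) (P := fun d => R H A t d t) Δ Δ (h.inv π hπ) (hΔinv π hπ) (fun x => R_iff hπ)
  -- double counting
  have hdc := Finset.sum_card_bipartiteAbove_eq_sum_card_bipartiteBelow (s := Δ) (t := Δ) (R H A t)
  unfold Finset.bipartiteAbove Finset.bipartiteBelow at hdc
  rw [Finset.sum_congr rfl h7, Finset.sum_congr rfl h7', Finset.sum_const, Finset.sum_const, h.cardΔ,
    smul_eq_mul, smul_eq_mul] at hdc
  have hc : (Δ.filter fun d => R H A t d t).card = 7 := by omega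
  -- the inverse neighbours of `t`
  have hS : (Δ.filter fun d => R H A t d t) ⊆ A := by
    intro d hd
    rw [Finset.mem_filter] at hd
    rcases (h.mem d).1 hd.1 with rfl | h1 | h1
    · exact (hRtt hd.2).elim
    · exact h1
    · exfalso
      have hB : B ⊆ Δ.filter fun d => R H A t d t := by
        intro b hb
        rw [Finset.mem_filter]
        refine ⟨hBΔ b hb, ?_⟩
        obtain ⟨b₀, hb₀⟩ := h.one
        obtain ⟨π, hπ, hπt, hπb⟩ := hb₀ d h1
        obtain ⟨σ, hσ, hσt, hσb⟩ := hb₀ b hb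
        have h2 : R H A t b₀ t := by
          rw [← R_iff hπ, hπb, hπt]
          exact hd.2
        rw [← R_iff hσ, hσb, hσt] at h2
        exact h2
      have := Finset.card_le_card hB
      rw [hc, h.cardB] at this
      omega
  have hSA := Finset.eq_of_subset_of_card_le hS (by rw [hc, h.cardA])
  have hAt : ∀ a ∈ A, R H A t a t := by
    intro a ha
    rw [← hSA, Finset.mem_filter] at ha
    exact ha.2
  have hsymm : ∀ d e, R H A t d e → R H A t e d := by
    rintro _ _ ⟨π, hπ, rfl, a, ha, rfl⟩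
    exact R_map hπ (hAt a ha)
  obtain ⟨x₀, y₀, h2⟩ := h.two
  by_cases hxy : R H A t x₀ y₀
  · -- blocks of size 8
    have hall : ∀ x ∈ A, ∀ y ∈ A, x ≠ y → R H A t x y := by
      intro x hx y hy hne
      obtain ⟨π, hπ, -, rfl, rfl⟩ := h2 x hx y hy hne
      exact (R_iff hπ).2 hxy
    set K : Finset α := insert t A with hK
    have hKc : K.card = 8 := by rw [hK, Finset.card_insert_of_notMem h.tA, h.cardA]
    have hKΔ : K ⊆ Δ := by
      intro x hx
      rw [hK, Finset.mem_insert] at hx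
      rcases hx with rfl | hx
      · exact htΔ
      · exact hAΔ x hx
    set N : α → Finset α := fun d => Δ.filter fun e => e = d ∨ R H A t d e with hN
    have hNc : ∀ d ∈ Δ, (N d).card = 8 := by
      intro d hd
      have e1 : N d = insert d (Δ.filter fun e => R H A t d e) := by
        ext e
        rw [hN, Finset.mem_filter, Finset.mem_insert, Finset.mem_filter]
        constructor
        · rintro ⟨h1, h3 | h3⟩
          · exact Or.inl h3
          · exact Or.inr ⟨h1, h3⟩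
        · rintro (h1 | h1)
          · rw [h1]
            exact ⟨hd, Or.inl rfl⟩
          · exact ⟨h1.1, Or.inr h1.2⟩
      rw [e1, Finset.card_insert_of_notMem, h7 d hd]
      rw [Finset.mem_filter]
      exact fun h' => hirr d hd h'.2
    have hNK : ∀ x ∈ K, N x = K := by
      intro x hx
      have h3 : K ⊆ N x := by
        intro y hy
        rw [hN, Finset.mem_filter]
        refine ⟨hKΔ hy, ?_⟩
        by_cases hyx : y = x
        · exact Or.inl hyx
        right
        rw [hK, Finset.mem_insert] at hx hy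
        rcases hx with rfl | hx
        · rcases hy with rfl | hy
          · exact (hyx rfl).elim
          · exact (hRt y).2 hy
        · rcases hy with rfl | hy
          · exact hAt x hx
          · exact hall x hx y hy (Ne.symm hyx)
      exact (Finset.eq_of_subset_of_card_le h3 (by rw [hKc, hNc x (hKΔ hx)])).symm
    have hNeq : ∀ d ∈ Δ, ∀ e ∈ Δ, e ∈ N d → N e = N d := by
      intro d hd e he hed
      obtain ⟨π, hπ, rfl⟩ := h.trans d hd
      have hNπ : ∀ x y, y ∈ N (π x) ↔ (π⁻¹ : Equiv.Perm α) y ∈ N x := by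
        intro x y
        rw [hN, Finset.mem_filter, Finset.mem_filter]
        obtain ⟨z, rfl⟩ := π.surjective y
        rw [inv_self, R_iff hπ, π.injective.eq_iff]
        constructor
        · rintro ⟨h1, h3⟩
          refine ⟨?_, h3⟩
          have := hΔinv π hπ _ h1
          rwa [inv_self] at this
        · rintro ⟨h1, h3⟩
          exact ⟨h.inv π hπ z h1, h3⟩
      rw [hNπ, hNK t (Finset.mem_insert_self _ _)] at hed
      obtain ⟨z, rfl⟩ := π.surjective e
      rw [inv_self] at hed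
      ext y
      rw [hNπ, hNπ, hNK z hed, hNK t (Finset.mem_insert_self _ _)]
    have hself : ∀ d ∈ Δ, d ∈ N d := by
      intro d hd
      rw [hN, Finset.mem_filter]
      exact ⟨hd, Or.inl rfl⟩
    have hcount := Finset.card_eq_sum_card_image N Δ
    have hfib : ∀ b ∈ Δ.image N, (Δ.filter fun a => N a = b).card = 8 := by
      intro b hb
      obtain ⟨d, hd, rfl⟩ := Finset.mem_image.1 hb
      have : (Δ.filter fun a => N a = N d) = N d := by
        ext a
        rw [Finset.mem_filter]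
        constructor
        · rintro ⟨h1, h3⟩
          rw [← h3]
          exact hself a h1
        · intro h1
          have h3 : a ∈ Δ := by
            rw [hN, Finset.mem_filter] at h1
            exact h1.1
          exact ⟨h3, hNeq d hd a h3 h1⟩
      rw [this, hNc d hd]
    rw [Finset.sum_congr rfl hfib, Finset.sum_const, h.cardΔ, smul_eq_mul] at hcount
    omega
  · have hall : ∀ x ∈ A, ∀ y ∈ A, ¬ R H A t x y := by
      intro x hx y hy
      by_cases hne : x = y
      · rw [hne]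
        exact hirr y (hAΔ y hy)
      obtain ⟨π, hπ, -, rfl, rfl⟩ := h2 x hx y hy hne
      exact fun h' => hxy ((R_iff hπ).1 h')
    have h6 : ∀ x ∈ A, (B.filter fun e => R H A t x e).card = 6 := by
      intro x hx
      have e1 : (Δ.filter fun e => R H A t x e) = insert t (B.filter fun e => R H A t x e) := by
        ext e
        rw [Finset.mem_filter, Finset.mem_insert, Finset.mem_filter]
        constructor
        · rintro ⟨h1, h3⟩
          rcases (h.mem e).1 h1 with h4 | h4 | h4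
          · exact Or.inl h4
          · exact (hall x hx e h4 h3).elim
          · exact Or.inr ⟨h4, h3⟩
        · rintro (h1 | h1)
          · rw [h1]
            exact ⟨htΔ, hAt x hx⟩
          · exact ⟨hBΔ e h1.1, h1.2⟩
      have htB : t ∉ B.filter fun e => R H A t x e := by
        rw [Finset.mem_filter]
        rintro ⟨h1, -⟩
        have h3 := h.cardΔ
        have h4 : Δ ⊆ A ∪ B := by
          intro y hy
          rw [Finset.mem_union]
          rcases (h.mem y).1 hy with h5 | h5 | h5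
          · rw [h5]; exact Or.inr h1
          · exact Or.inl h5
          · exact Or.inr h5
        have h5 := Finset.card_le_card h4
        have h6 := Finset.card_union_le A B
        rw [h.cardA, h.cardB] at h6
        omega
      have := h7 x (hAΔ x hx)
      rw [e1, Finset.card_insert_of_notMem htB] at this
      omega
    obtain ⟨b₀, hb₀⟩ := h.one
    have hμ : ∀ e ∈ B, (A.filter fun x => R H A t x e).card = (A.filter fun x => R H A t x b₀).card := by
      intro e he
      obtain ⟨π, hπ, hπt, rfl⟩ := hb₀ e he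
      refine card_image (σ := π) (P := fun d => R H A t d b₀) A A (h.stab π hπ hπt) ?_ (fun x => R_iff hπ)
      refine h.stab _ (inv_mem hπ) ?_
      rw [Equiv.Perm.inv_eq_iff_eq, hπt]
    have hdc2 := Finset.sum_card_bipartiteAbove_eq_sum_card_bipartiteBelow (s := A) (t := B) (R H A t)
    unfold Finset.bipartiteAbove Finset.bipartiteBelow at hdc2
    rw [Finset.sum_congr rfl h6, Finset.sum_congr rfl hμ, Finset.sum_const, Finset.sum_const, h.cardA, h.cardB,
      smul_eq_mul, smul_eq_mul] at hdc2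
    omega

end Cfsg.Agent.StdSpSix.EGraph
end

-- part: StdSpSix/ELevel
section
/-!
# The group `E = ⟨t⟩ × A_W` of order `2⁷`

Codes `e < 128` for the elements of `E`; `N_G(E)` is transitive on `D ∩ E`; the permutations of the codes induced by
`N_G(E)`.
-/

set_option autoImplicit false

namespace Cfsg.Agent.StdSpSix.ELevel

open Subgroup
open Cfsg.Agent.StandardComponent.SpTwo
open Cfsg.Agent.SporRec.TwoSp6
open Cfsg.Agent.StdSpSix.EMask Cfsg.Agent.StdSpSix.EA Cfsg.Agent.StdSpSix.EType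

section ctx
variable {G V : Type*} [Group G] [AddCommGroup V] [Module (ZMod 2) V] (C : Ctx G V) (K : Model.Coord C.S)

/-- `a m` in the group `G`. -/
noncomputable def ga (m : ℕ) : G := ((K.e (a m) : C.L) : G)

theorem ga_xor (m n : ℕ) : ga C K (m ^^^ n) = ga C K m * ga C K n := by
  unfold ga
  rw [a_xor, map_mul]
  rfl

theorem ga_zero : ga C K 0 = 1 := by
  unfold ga
  rw [a_zero, map_one]
  rfl

theorem ga_mem (m : ℕ) : ga C K m ∈ C.L := (K.e (a m)).2

theorem ga_t (m : ℕ) : ga C K m * C.t = C.t * ga C K m := C.commute_of_mem (ga_mem C K m)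

theorem eq_zero_of_ga {m : ℕ} (hm : m < 64) (h : ga C K m = 1) : m = 0 := by
  have h1 : K.e (a m) = 1 := Subtype.ext h
  exact eq_zero_of_a hm (K.e.injective (h1.trans (map_one K.e).symm))

/-- `1` or `t`. -/
def tp (b : Bool) : G := bif b then C.t else 1

theorem tp_mul (b c : Bool) : tp C b * tp C c = tp C (b ^^ c) := by
  cases b <;> cases c
  · exact one_mul 1
  · exact one_mul C.t
  · exact mul_one C.t
  · exact C.tt

theorem tp_comm (b : Bool) (m : ℕ) : ga C K m * tp C b = tp C b * ga C K m := by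
  cases b
  · exact (mul_one _).trans (one_mul _).symm
  · exact ga_t C K m

/-- The element with a given code. -/
noncomputable def el (e : ℕ) : G := tp C (e.testBit 6) * ga C K (e % 64)

theorem nm_lt : ∀ m < 128, nm m < 64 := by decide +kernel

theorem qm_lt {T : ℕ} (hT : T < 512) (hg : good T = true) (m : ℕ) : qm T m < 64 := by
  refine nm_lt _ ?_
  have h : ∀ c i, 1 ≤ c → c < 8 → bt m i (2 ^ (lin T c - 1)) < 2 ^ 7 := by
    intro c i h1 h2
    unfold bt
    split_ifs
    · have h3 := good_lt T hT c h2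
      exact Nat.pow_lt_pow_right (by norm_num) (by omega)
    · norm_num
  exact Nat.xor_lt_two_pow (n := 7) (h 1 0 (by omega) (by omega)) (Nat.xor_lt_two_pow (h 2 1 (by omega) (by omega))
    (Nat.xor_lt_two_pow (h 3 2 (by omega) (by omega)) (Nat.xor_lt_two_pow (h 4 3 (by omega) (by omega))
    (Nat.xor_lt_two_pow (h 5 4 (by omega) (by omega)) (Nat.xor_lt_two_pow (h 6 5 (by omega) (by omega))
    (h 7 6 (by omega) (by omega)))))))

theorem el_xor (e f : ℕ) : el C K (e ^^^ f) = el C K e * el C K f := by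
  unfold el
  have h : (e ^^^ f) % 64 = (e % 64) ^^^ (f % 64) := Nat.xor_mod_two_pow (n := 6)
  rw [Nat.testBit_xor, h, ga_xor, ← tp_mul]
  calc tp C (e.testBit 6) * tp C (f.testBit 6) * (ga C K (e % 64) * ga C K (f % 64))
      = tp C (e.testBit 6) * (tp C (f.testBit 6) * ga C K (e % 64)) * ga C K (f % 64) := by group
    _ = tp C (e.testBit 6) * (ga C K (e % 64) * tp C (f.testBit 6)) * ga C K (f % 64) := by rw [tp_comm]
    _ = tp C (e.testBit 6) * ga C K (e % 64) * (tp C (f.testBit 6) * ga C K (f % 64)) := by group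

theorem el_zero : el C K 0 = 1 := by
  unfold el
  rw [Nat.zero_testBit, Nat.zero_mod, ga_zero]
  exact one_mul 1

theorem el_sq (e : ℕ) : el C K e * el C K e = 1 := by
  rw [← el_xor, Nat.xor_self, el_zero]

theorem el_comm (e f : ℕ) : el C K e * el C K f = el C K f * el C K e := by
  rw [← el_xor, ← el_xor, Nat.xor_comm]

theorem el_inv (e : ℕ) : (el C K e)⁻¹ = el C K e := inv_eq_of_mul_eq_one_right (el_sq C K e)

theorem el_lo {m : ℕ} (hm : m < 64) : el C K m = ga C K m := by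
  unfold el
  have h : ∀ m < 64, Nat.testBit m 6 = false := by decide +kernel
  rw [h m hm, Nat.mod_eq_of_lt hm]
  exact one_mul _

theorem el_hi {m : ℕ} (hm : m < 64) : el C K (m + 64) = C.t * ga C K m := by
  unfold el
  have h : ∀ m < 64, Nat.testBit (m + 64) 6 = true := by decide +kernel
  rw [h m hm, Nat.add_mod_right, Nat.mod_eq_of_lt hm]
  rfl

theorem el_t : el C K 64 = C.t := by
  have := el_hi C K (m := 0) (by norm_num)
  rw [zero_add, ga_zero, mul_one] at this
  exact this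

theorem eq_zero_of_el {e : ℕ} (he : e < 128) (h : el C K e = 1) : e = 0 := by
  by_cases h1 : e < 64
  · rw [el_lo C K h1] at h
    exact eq_zero_of_ga C K h1 h
  · obtain ⟨m, rfl⟩ := Nat.exists_eq_add_of_le' (not_lt.1 h1)
    exfalso
    rw [el_hi C K (by omega)] at h
    apply C.tL
    rw [eq_inv_of_mul_eq_one_left h]
    exact inv_mem (ga_mem C K m)

theorem el_inj {e f : ℕ} (he : e < 128) (hf : f < 128) (h : el C K e = el C K f) : e = f := by
  have h1 : el C K (e ^^^ f) = 1 := by rw [el_xor, h, el_sq]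
  exact Nat.xor_eq_zero_iff.1 (eq_zero_of_el C K (Nat.xor_lt_two_pow (n := 7) he hf) h1)

/-- The group `⟨t⟩ × A`. -/
def E : Subgroup G where
  carrier := {x | ∃ e < 128, x = el C K e}
  one_mem' := ⟨0, by norm_num, (el_zero C K).symm⟩
  mul_mem' := by
    rintro _ _ ⟨e, he, rfl⟩ ⟨f, hf, rfl⟩
    exact ⟨e ^^^ f, Nat.xor_lt_two_pow (n := 7) he hf, (el_xor C K e f).symm⟩
  inv_mem' := by
    rintro _ ⟨e, he, rfl⟩
    exact ⟨e, he, el_inv C K e⟩

theorem mem_E {x : G} : x ∈ E C K ↔ ∃ e < 128, x = el C K e := Iff.rfl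

theorem el_mem {e : ℕ} (he : e < 128) : el C K e ∈ E C K := ⟨e, he, rfl⟩

theorem t_mem_E : C.t ∈ E C K := by
  rw [← el_t C K]
  exact el_mem C K (by norm_num)

theorem card_E : Nat.card (E C K) = 128 := by
  have hb : Function.Bijective (fun e : Fin 128 => (⟨el C K e.val, el_mem C K e.2⟩ : E C K)) := by
    constructor
    · intro e f h
      exact Fin.ext (el_inj C K e.2 f.2 (congrArg Subtype.val h))
    · rintro ⟨_, e, he, rfl⟩
      exact ⟨⟨e, he⟩, rfl⟩
  rw [← Nat.card_congr (Equiv.ofBijective _ hb), Nat.card_eq_fintype_card, Fintype.card_fin]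

theorem E_comm {x y : G} (hx : x ∈ E C K) (hy : y ∈ E C K) : x * y = y * x := by
  obtain ⟨e, -, rfl⟩ := hx
  obtain ⟨f, -, rfl⟩ := hy
  exact el_comm C K e f

theorem E_sq {x : G} (hx : x ∈ E C K) : x * x = 1 := by
  obtain ⟨e, -, rfl⟩ := hx
  exact el_sq C K e

/-- `A` inside `C.L`. -/
def AL : Subgroup C.L := A.map K.e.toMonoidHom

theorem facts_AL : QLevelModel.Facts (AL C K) := by
  refine QLevelSp.facts_equiv K.e (A := A) (fun x => ?_) facts_A
  exact (mem_map_iff_mem (f := K.e.toMonoidHom) K.e.injective).symm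

theorem mem_AL {x : C.L} : x ∈ AL C K ↔ (x : G) ∈ E C K := by
  constructor
  · rintro ⟨y, hy, rfl⟩
    obtain ⟨m, hm, rfl⟩ := mem_A.1 hy
    exact ⟨m, by omega, (el_lo C K hm).symm⟩
  · rintro ⟨e, he, h⟩
    by_cases h1 : e < 64
    · rw [el_lo C K h1] at h
      exact ⟨a e, a_mem e, Subtype.ext h.symm⟩
    · exfalso
      obtain ⟨m, rfl⟩ := Nat.exists_eq_add_of_le' (not_lt.1 h1)
      rw [el_hi C K (by omega)] at h
      apply C.tL
      have h2 : C.t = (x : G) * (ga C K m)⁻¹ := by rw [h]; group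
      rw [h2]
      exact mul_mem x.2 (inv_mem (ga_mem C K m))

/-- **Transitivity**: `N_G(E)` is transitive on `D ∩ E`. -/
theorem exists_norm [Finite G] {s : G} (hs : s ∈ C.D) (hE : s ∈ E C K) :
    ∃ n : G, (∀ x, n * x * n⁻¹ ∈ E C K ↔ x ∈ E C K) ∧ n * C.t * n⁻¹ = s := by
  obtain ⟨g, rfl⟩ := hs
  set E' : Subgroup G := (E C K).comap (MulAut.conj g).toMonoidHom with hE'
  have hm : ∀ x, x ∈ E' ↔ g * x * g⁻¹ ∈ E C K := fun x => Iff.rfl
  have htE' : C.t ∈ E' := (hm _).2 hE
  have hcomm : ∀ x ∈ E', Commute x C.t := by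
    intro x hx
    have h1 := E_comm C K ((hm x).1 hx) hE
    change x * C.t = C.t * x
    have h2 : g * (x * C.t) * g⁻¹ = g * (C.t * x) * g⁻¹ := by
      calc g * (x * C.t) * g⁻¹ = g * x * g⁻¹ * (g * C.t * g⁻¹) := by group
        _ = g * C.t * g⁻¹ * (g * x * g⁻¹) := h1
        _ = g * (C.t * x) * g⁻¹ := by group
    exact mul_left_cancel (mul_right_cancel h2)
  have hor : ∀ x ∈ E', x ∈ C.L ∨ C.t * x ∈ C.L := fun x hx => (C.cent x).1 (hcomm x hx)
  have hsq : ∀ x ∈ E', x * x = 1 := by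
    intro x hx
    have h1 := E_sq C K ((hm x).1 hx)
    calc x * x = g⁻¹ * (g * x * g⁻¹ * (g * x * g⁻¹)) * g := by group
      _ = 1 := by rw [h1]; group
  have hcE' : Nat.card E' = 128 := by
    rw [← card_E C K]
    refine Nat.card_congr
      { toFun := fun x => ⟨g * x * g⁻¹, (hm x).1 x.2⟩
        invFun := fun y => ⟨g⁻¹ * y * g, (hm _).2 (by
          have : g * (g⁻¹ * (y : G) * g) * g⁻¹ = y := by group
          rw [this]; exact y.2)⟩
        left_inv := fun x => Subtype.ext (by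
          change g⁻¹ * (g * (x : G) * g⁻¹) * g = x
          group)
        right_inv := fun y => Subtype.ext (by
          change g * (g⁻¹ * (y : G) * g) * g⁻¹ = y
          group) }
  set B : Subgroup C.L := E'.subgroupOf C.L with hB
  have hmB : ∀ x : C.L, x ∈ B ↔ (x : G) ∈ E' := fun x => Iff.rfl
  have hBc : 64 ≤ Nat.card B := by
    classical
    have hinj : Nat.card E' ≤ Nat.card (B × Bool) := by
      refine Nat.card_le_card_of_injective (fun x : E' => if h : (x : G) ∈ C.L then ((⟨⟨x, h⟩, x.2⟩ : B), true)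
        else ((⟨⟨C.t * x, (hor x x.2).resolve_left h⟩, mul_mem htE' x.2⟩ : B), false)) ?_
      intro x y hxy
      dsimp only at hxy
      by_cases hx : (x : G) ∈ C.L <;> by_cases hy : (y : G) ∈ C.L
      · rw [dif_pos hx, dif_pos hy] at hxy
        have h1 := congrArg (fun p => ((p.1 : C.L) : G)) hxy
        exact Subtype.ext h1
      · rw [dif_pos hx, dif_neg hy] at hxy
        have h1 : true = false := congrArg Prod.snd hxy
        exact Bool.noConfusion h1
      · rw [dif_neg hx, dif_pos hy] at hxy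
        have h1 : false = true := congrArg Prod.snd hxy
        exact Bool.noConfusion h1
      · rw [dif_neg hx, dif_neg hy] at hxy
        have h1 : C.t * (x : G) = C.t * y := congrArg (fun p => ((p.1 : C.L) : G)) hxy
        exact Subtype.ext (mul_left_cancel h1)
    rw [hcE', Nat.card_prod, Nat.card_eq_fintype_card (α := Bool), Fintype.card_bool] at hinj
    omega
  obtain ⟨l, hl⟩ := (facts_AL C K).sat B (fun x hx => Subtype.ext (hsq x hx)) hBc
  have hlt : (l : G) * C.t = C.t * l := C.commute_of_mem l.2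
  have hlt' : (l : G)⁻¹ * C.t = C.t * (l : G)⁻¹ := C.commute_of_mem (inv_mem l.2)
  have hltl : (l : G)⁻¹ * C.t * l = C.t := by rw [hlt', mul_assoc, inv_mul_cancel, mul_one]
  have htE : C.t ∈ E C K := t_mem_E C K
  -- `E' = l E l⁻¹`
  have key : ∀ y : G, y ∈ E' ↔ (l : G)⁻¹ * y * l ∈ E C K := by
    intro y
    have hL : ∀ y : G, y ∈ C.L → (y ∈ E' ↔ (l : G)⁻¹ * y * l ∈ E C K) := by
      intro y hy
      have h1 := hl ⟨y, hy⟩
      rw [hmB, mem_AL] at h1
      exact h1
    have htl : (l : G)⁻¹ * (C.t * y) * l = C.t * ((l : G)⁻¹ * y * l) := by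
      calc (l : G)⁻¹ * (C.t * y) * l = ((l : G)⁻¹ * C.t * l) * ((l : G)⁻¹ * y * l) := by group
        _ = C.t * ((l : G)⁻¹ * y * l) := by rw [hltl]
    have hcan : ∀ (S : Subgroup G) (z : G), C.t ∈ S → (C.t * z ∈ S ↔ z ∈ S) := fun S z h =>
      Subgroup.mul_mem_cancel_left S h
    constructor
    · intro hy
      rcases hor y hy with h1 | h1
      · exact (hL y h1).1 hy
      · have h2 := (hL _ h1).1 (mul_mem htE' hy)
        rw [htl, hcan _ _ htE] at h2
        exact h2
    · intro hy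
      have hc : (l : G)⁻¹ * y * l ∈ C.L ∨ C.t * ((l : G)⁻¹ * y * l) ∈ C.L :=
        (C.cent _).1 (E_comm C K hy htE)
      have hLL : ∀ y : G, (l : G)⁻¹ * y * l ∈ C.L → y ∈ C.L := by
        intro y hy
        have h1 := mul_mem (mul_mem l.2 hy) (inv_mem l.2)
        have h2 : (l : G) * ((l : G)⁻¹ * y * l) * (l : G)⁻¹ = y := by group
        rwa [h2] at h1
      rcases hc with h1 | h1
      · exact (hL y (hLL y h1)).2 hy
      · rw [← htl] at h1
        have h2 := (hL _ (hLL _ h1)).2 (by rw [htl]; exact mul_mem htE hy)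
        exact (hcan _ _ htE').1 h2
  refine ⟨g * l, fun x => ?_, ?_⟩
  · have h1 : g * l * x * (g * (l : G))⁻¹ = g * ((l : G) * x * (l : G)⁻¹) * g⁻¹ := by group
    rw [h1, ← hm, key]
    have h2 : (l : G)⁻¹ * ((l : G) * x * (l : G)⁻¹) * l = x := by group
    rw [h2]
  · calc g * l * C.t * (g * (l : G))⁻¹ = g * ((l : G) * C.t * (l : G)⁻¹) * g⁻¹ := by group
      _ = g * C.t * g⁻¹ := by rw [hlt]; group

/-! ### permutations of the codes -/

/-- The permutations of the codes induced by `N_G(E)`. -/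
def HH : Subgroup (Equiv.Perm (Fin 128)) where
  carrier := {π | ∃ n : G, ∀ e : Fin 128, n * el C K e * n⁻¹ = el C K (π e)}
  one_mem' := ⟨1, fun e => by rw [one_mul, inv_one, mul_one]; rfl⟩
  mul_mem' := by
    rintro π σ ⟨n, hn⟩ ⟨m, hm⟩
    refine ⟨n * m, fun e => ?_⟩
    calc n * m * el C K e * (n * m)⁻¹ = n * (m * el C K e * m⁻¹) * n⁻¹ := by group
      _ = el C K (π (σ e)) := by rw [hm, hn]
  inv_mem' := by
    rintro π ⟨n, hn⟩
    refine ⟨n⁻¹, fun e => ?_⟩
    have h1 := hn ((π⁻¹ : Equiv.Perm (Fin 128)) e)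
    rw [EGraph.self_inv] at h1
    rw [← h1]
    group

theorem exists_perm {n : G} (hn : ∀ e < 128, n * el C K e * n⁻¹ ∈ E C K) :
    ∃ π ∈ HH C K, ∀ e : Fin 128, n * el C K e * n⁻¹ = el C K (π e) := by
  have h1 : ∀ e : Fin 128, ∃ f : Fin 128, n * el C K e * n⁻¹ = el C K f := by
    intro e
    obtain ⟨f, hf, h⟩ := hn e e.2
    exact ⟨⟨f, hf⟩, h⟩
  choose f hf using h1
  have hinj : Function.Injective f := by
    intro x y hxy
    have h2 : n * el C K x * n⁻¹ = n * el C K y * n⁻¹ := by rw [hf, hf, hxy]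
    exact Fin.ext (el_inj C K x.2 y.2 (mul_left_cancel (mul_right_cancel h2)))
  refine ⟨Equiv.ofBijective f (Finite.injective_iff_bijective.1 hinj), ⟨n, hf⟩, hf⟩

theorem lin_of_mem {π : Equiv.Perm (Fin 128)} (h : π ∈ HH C K) : Lin π := by
  obtain ⟨n, hn⟩ := h
  intro x y
  apply Fin.ext
  refine el_inj C K (π (xr x y)).2 (xr (π x) (π y)).2 ?_
  have e1 : ∀ u v : Fin 128, el C K (xr u v).val = el C K u * el C K v := fun u v => el_xor C K u v
  rw [← hn, e1, e1, ← hn, ← hn]
  group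

/-- Indicator of `D` on the codes. -/
def Ind (M : ℕ) : Prop := ∀ e < 128, el C K e ∈ C.D ↔ M.testBit e = true

variable {M : ℕ} (hM : Ind C K M)

include hM in
theorem pres_of_mem {π : Equiv.Perm (Fin 128)} (h : π ∈ HH C K) : Pres M π := by
  obtain ⟨n, hn⟩ := h
  intro x
  rw [Bool.eq_iff_iff, ← hM _ (π x).2, ← hM _ x.2, ← hn]
  exact C.D_conj_iff n

include hM in
theorem trans_of_ind [Finite G] {d : Fin 128} (hd : M.testBit d = true) :
    ∃ π ∈ HH C K, π 64 = d := by
  obtain ⟨n, hn1, hn2⟩ := exists_norm C K ((hM _ d.2).2 hd) (el_mem C K d.2)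
  obtain ⟨π, hπ, h⟩ := exists_perm C K (n := n) (fun e he => (hn1 _).2 (el_mem C K he))
  refine ⟨π, hπ, ?_⟩
  apply Fin.ext
  refine el_inj C K (π 64).2 d.2 ?_
  rw [← h, ← hn2]
  exact congrArg (fun x => n * x * n⁻¹) (el_t C K)

include hM in
theorem inv1_const [Finite G] {d : ℕ} (hd : d < 128) (h : M.testBit d = true) : inv1 M d = inv1 M 64 := by
  obtain ⟨π, hπ, h1⟩ := trans_of_ind C K hM (d := ⟨d, hd⟩) h
  have := inv1_map (lin_of_mem C K hπ) (pres_of_mem C K hM hπ) 64
  rw [h1] at this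
  exact this

include hM in
theorem inv2_const [Finite G] {d : ℕ} (hd : d < 128) (h : M.testBit d = true) : inv2 M d = inv2 M 64 := by
  obtain ⟨π, hπ, h1⟩ := trans_of_ind C K hM (d := ⟨d, hd⟩) h
  have := inv2_map (lin_of_mem C K hπ) (pres_of_mem C K hM hπ) 64
  rw [h1] at this
  exact this

include hM in
theorem inv3_const [Finite G] {d : ℕ} (hd : d < 128) (h : M.testBit d = true) : inv3 M d = inv3 M 64 := by
  obtain ⟨π, hπ, h1⟩ := trans_of_ind C K hM (d := ⟨d, hd⟩) h
  have := inv3_map (lin_of_mem C K hπ) (pres_of_mem C K hM hπ) 64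
  rw [h1] at this
  exact this

/-- The permutation of the codes given by a linear map. -/
theorem exists_perm_lin {T : ℕ} (hT : T < 512) (hg : good T = true) :
    ∃ π ∈ HH C K, π 64 = 64 ∧ ∀ m, (hm : m < 64) → (π ⟨m + 64, by omega⟩).val = qm T m + 64 := by
  obtain ⟨g, h⟩ := exists_conj_lin hT hg
  have hga : ∀ m, ((K.e g : C.L) : G) * ga C K m * ((K.e g : C.L) : G)⁻¹ = ga C K (qm T m) := by
    intro m
    unfold ga
    rw [← h m, map_mul, map_mul, map_inv]
    rfl
  have hgt : ((K.e g : C.L) : G) * C.t = C.t * ((K.e g : C.L) : G) := C.commute_of_mem (K.e g).2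
  have hqm : ∀ m, ga C K (qm T m) ∈ E C K := by
    intro m
    have h1 : a (qm T m) ∈ A := a_mem _
    have h2 : K.e (a (qm T m)) ∈ AL C K := ⟨_, h1, rfl⟩
    exact (mem_AL C K).1 h2
  have hhi : ∀ m, ((K.e g : C.L) : G) * (C.t * ga C K m) * ((K.e g : C.L) : G)⁻¹ = C.t * ga C K (qm T m) := by
    intro m
    rw [← hga]
    calc ((K.e g : C.L) : G) * (C.t * ga C K m) * ((K.e g : C.L) : G)⁻¹
        = ((K.e g : C.L) : G) * C.t * ga C K m * ((K.e g : C.L) : G)⁻¹ := by group
      _ = C.t * (((K.e g : C.L) : G) * ga C K m * ((K.e g : C.L) : G)⁻¹) := by rw [hgt]; group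
  obtain ⟨π, hπ, h1⟩ := exists_perm C K (n := ((K.e g : C.L) : G)) (by
    intro e he
    by_cases he6 : e < 64
    · rw [el_lo C K he6, hga]
      exact hqm e
    · obtain ⟨m, rfl⟩ := Nat.exists_eq_add_of_le' (not_lt.1 he6)
      rw [el_hi C K (by omega), hhi]
      exact mul_mem (t_mem_E C K) (hqm m))
  refine ⟨π, hπ, ?_, ?_⟩
  · apply Fin.ext
    refine el_inj C K (π 64).2 (by norm_num) ?_
    rw [← h1]
    have e1 : el C K ((64 : Fin 128) : ℕ) = C.t := el_t C K
    rw [e1, hgt]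
    group
  · intro m hm
    have hq : qm T m < 64 := qm_lt hT hg m
    refine el_inj C K (π _).2 (by omega) ?_
    rw [← h1, el_hi C K hq]
    have e1 : el C K ((⟨m + 64, by omega⟩ : Fin 128) : ℕ) = C.t * ga C K m := el_hi C K hm
    rw [e1, hhi]

end ctx

end Cfsg.Agent.StdSpSix.ELevel
end

private theorem dce_14c1f3228509 : _root_.True := by
  try have : _root_.True := by simp only [_root_.Cfsg.Agent.StdSpSix.QLevelSp.AG.eq_1]
  try have : _root_.True := by simp only [_root_.Cfsg.Agent.StdSpSix.ModelES.sgn.eq_1]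
  try have : _root_.True := by simp only [_root_.Cfsg.Agent.StdSpSix.LThreeModel.Z0.eq_1]
  try have : _root_.True := by simp only [_root_.Cfsg.Agent.StdSpSix.ModelES.mapFun.eq_1]
  try have : _root_.True := by simp only [_root_.Cfsg.Agent.StdSpSix.LThree.InD.congr_simp]
  exact _root_.True.intro
end

-- part: StdSpSix/Counts
section
set_option linter.all false
open scoped Cfsg.Agent.FastGrp

/-!
# The sizes of the four classes of involutions of `Sp₆(2)`: `63`, `945`, `315`, `3780`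
-/

set_option autoImplicit false

namespace Cfsg.Agent.StdSpSix.Counts

open Cfsg.Agent.StandardComponent.SpTwo
open Cfsg.Agent.SporRec.TwoSp6
open Cfsg.Agent.StdSpSix.Words

/-- counting a class through a parametrization with constant fibres -/
theorem card_class {α S : Type*} [Finite α] [Finite S] (P : α → Prop) (f : α → S) (I : S → Prop)
    (hI : ∀ p, P p → I (f p)) (k : ℕ) (hk : ∀ x, I x → Nat.card {p : α // P p ∧ f p = x} = k) :
    Nat.card {p : α // P p} = Nat.card {x : S // I x} * k := by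
  refine TRCount.card_of_fibres (fun p : {p : α // P p} => (⟨f p, hI p p.2⟩ : {x : S // I x})) k ?_
  rintro ⟨x, hx⟩
  rw [← hk x hx]
  exact Nat.card_congr
    { toFun := fun q => ⟨q.1.1, q.1.2, congrArg Subtype.val q.2⟩
      invFun := fun q => ⟨⟨q.1, q.2.1⟩, Subtype.ext q.2.2⟩
      left_inv := fun _ => rfl
      right_inv := fun _ => rfl }

/-- the action of an element as a permutation of `V` -/
def actEquiv (g : Sp.S) : Sp.V ≃ Sp.V where
  toFun := Sp.act g
  invFun := Sp.act g⁻¹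
  left_inv v := by rw [← Sp.act_mul, inv_mul_cancel, Sp.act_one]
  right_inv v := by rw [← Sp.act_mul, mul_inv_cancel, Sp.act_one]

/-- the coding as an equivalence -/
noncomputable def encEquiv : Fin 64 ≃ Sp.V :=
  Equiv.ofBijective (fun k => Sp.enc k.1)
    ⟨by
      exact fun c d h => Classical.byContradiction fun h' => ne_of_enc c.2 d.2 (fun e => h' (Fin.ext e)) h,
     fun x => by
      obtain ⟨c, hc, rfl⟩ := Sp.exists_enc x
      exact ⟨⟨c, hc⟩, rfl⟩⟩

theorem enc_eq_iff {c d : ℕ} (hc : c < 64) (hd : d < 64) : Sp.enc c = Sp.enc d ↔ c = d := by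
  constructor
  · intro h
    by_contra h'
    exact ne_of_enc hc hd h' h
  · rintro rfl; rfl

theorem enc_eq_zero {c : ℕ} (hc : c < 64) : Sp.enc c = 0 ↔ c = 0 := by
  rw [← enc_zero]
  exact enc_eq_iff hc (by norm_num)

theorem om_enc_zero (c d : ℕ) : Sp.om (Sp.enc c) (Sp.enc d) = 0 ↔ Sp.fN c d = false := by
  rw [Sp.om_enc]
  cases Sp.fN c d <;> simp

theorem wc_lt {ks : List ℕ} (hk : ∀ k ∈ ks, k < 64) {c : ℕ} (hc : c < 64) : wc ks c < 64 := by
  induction ks with
  | nil => exact hc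
  | cons k ks ih =>
    have h1 := ih (fun x hx => hk x (List.mem_cons_of_mem _ hx))
    have h2 : k < 64 := hk k List.mem_cons_self
    change tc k (wc ks c) < 64
    unfold tc
    split
    · exact Nat.xor_lt_two_pow (n := 6) h1 h2
    · exact h1

theorem W_eq_iff {ks ls : List ℕ} (hk : ∀ k ∈ ks, k < 64) (hl : ∀ k ∈ ls, k < 64) :
    W ks = W ls ↔ ∀ c : Fin 64, wc ks c = wc ls c := by
  constructor
  · intro h c
    have h1 := act_W ks c
    rw [h, act_W] at h1
    exact ((enc_eq_iff (wc_lt hl c.2) (wc_lt hk c.2)).1 h1).symm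
  · intro h
    exact W_eq fun c hc => h ⟨c, hc⟩

/-- pairs of distinct nonzero orthogonal vectors -/
def P2 (p : Sp.V × Sp.V) : Prop := p.1 ≠ 0 ∧ p.2 ≠ 0 ∧ p.2 ≠ p.1 ∧ Sp.om p.1 p.2 = 0

/-- the same on codes -/
def P2b (q : Fin 64 × Fin 64) : Prop := q.1.1 ≠ 0 ∧ q.2.1 ≠ 0 ∧ q.2.1 ≠ q.1.1 ∧ Sp.fN q.1 q.2 = false

instance : DecidablePred P2b := fun _ => by unfold P2b; infer_instance

theorem P2_enc (q : Fin 64 × Fin 64) : P2 (Sp.enc q.1, Sp.enc q.2) ↔ P2b q := by
  unfold P2 P2b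
  simp only [ne_eq, enc_eq_zero q.1.2, enc_eq_zero q.2.2, enc_eq_iff q.2.2 q.1.2, om_enc_zero]

/-- `P2b` as a Boolean -/
private def p2 (i j : ℕ) : Bool := !Nat.beq i 0 && (!Nat.beq j 0 && (!Nat.beq j i && !Fast.fF i j))

private theorem p2_iff (q : Fin 64 × Fin 64) : P2b q ↔ p2 q.1 q.2 = true := by
  unfold P2b p2
  simp only [Bool.and_eq_true, Bool.not_eq_true', ← Bool.not_eq_true, Nat.beq_eq, Fast.fN_fast, ne_eq]

private theorem eq6_fin {ks ls : List ℕ} : (∀ c : Fin 64, wc ks c = wc ls c) ↔ Fast.eq6 ks ls = true :=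
  ⟨fun h => Fast.eq6_iff.2 fun c hc => h ⟨c, hc⟩, fun h c => Fast.eq6_iff.1 h c c.2⟩

theorem card_P2 : Nat.card {p // P2 p} = 1890 := by
  have h1 : Nat.card {q // P2b q} = 1890 := (Fast.card2 p2 p2_iff).trans (by decide +kernel)
  rw [← h1]
  symm
  exact Nat.card_congr (Equiv.subtypeEquiv (Equiv.prodCongr encEquiv encEquiv) fun q => (P2_enc q).symm)

theorem P2_act {g : Sp.S} {p : Sp.V × Sp.V} : P2 (Sp.act g p.1, Sp.act g p.2) ↔ P2 p := by
  have h0 : ∀ x, Sp.act g x = 0 ↔ x = 0 := fun x => by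
    constructor
    · intro h
      exact Invol.act_inj (g := g) (h.trans (Invol.act_zero g).symm)
    · rintro rfl
      exact Invol.act_zero g
  have h1 : ∀ x y, Sp.act g x = Sp.act g y ↔ x = y := fun x y => ⟨fun h => Invol.act_inj h, fun h => by rw [h]⟩
  unfold P2
  simp only [ne_eq, h0, h1, Sp.act_om]

theorem exists_std {p : Sp.V × Sp.V} (h : P2 p) : ∃ g, Sp.act g p.1 = Sp.enc 1 ∧ Sp.act g p.2 = Sp.enc 2 :=
  Sp.exists_pair h.1 h.2.1 h.2.2.1 h.2.2.2 (by decide) (by decide) (by decide) (by decide)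

/-- the number of `c2` -/
theorem card_c2 : Nat.card {x : Sp.S // ∃ p, P2 p ∧ Sp.tr p.1 * Sp.tr p.2 = x} = 945 := by
  have h1 : Nat.card {p // P2 p} = Nat.card {x : Sp.S // ∃ p, P2 p ∧ Sp.tr p.1 * Sp.tr p.2 = x} * 2 := by
    apply card_class P2 (fun p => Sp.tr p.1 * Sp.tr p.2) (fun x => ∃ p, P2 p ∧ Sp.tr p.1 * Sp.tr p.2 = x)
    · intro p hp
      exact ⟨p, hp, rfl⟩
    · rintro x ⟨p, hp, rfl⟩
      obtain ⟨g, hg1, hg2⟩ := exists_std hp
      have h2 : Nat.card {q : Fin 64 × Fin 64 // P2b q ∧ ∀ c : Fin 64, wc [q.1, q.2] c = wc [1, 2] c} = 2 :=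
        (Fast.card2 (fun i j => p2 i j && Fast.eq6 [i, j] [1, 2]) fun q => by rw [Bool.and_eq_true, p2_iff, eq6_fin]).trans
          (by decide +kernel)
      refine Eq.trans ?_ h2
      refine Nat.card_congr ((Equiv.subtypeEquiv (Equiv.prodCongr (actEquiv g) (actEquiv g)) ?_).trans
        (Equiv.subtypeEquiv (Equiv.prodCongr encEquiv encEquiv) (p := fun q : Fin 64 × Fin 64 =>
          P2b q ∧ ∀ c : Fin 64, wc [q.1, q.2] c = wc [1, 2] c)
          (q := fun p => P2 p ∧ Sp.tr p.1 * Sp.tr p.2 = Sp.tr (Sp.enc 1) * Sp.tr (Sp.enc 2)) ?_).symm)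
      · intro q
        change _ ↔ P2 (Sp.act g q.1, Sp.act g q.2) ∧ Sp.tr (Sp.act g q.1) * Sp.tr (Sp.act g q.2) = _
        rw [P2_act, ← Sp.conj_tr, ← Sp.conj_tr, ← hg1, ← hg2, ← Sp.conj_tr, ← Sp.conj_tr]
        have e : ∀ a b : Sp.S, g * a * g⁻¹ * (g * b * g⁻¹) = g * (a * b) * g⁻¹ := fun a b => by group
        rw [e, e, mul_left_inj, mul_right_inj]
      · intro q
        change _ ↔ P2 (Sp.enc q.1, Sp.enc q.2) ∧ Sp.tr (Sp.enc q.1) * Sp.tr (Sp.enc q.2) = _
        rw [P2_enc, ← W_eq_iff]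
        · simp only [W_cons, W_nil, mul_one]
        · intro k hk
          simp only [List.mem_cons, List.not_mem_nil, or_false] at hk
          rcases hk with rfl | rfl
          · exact q.1.2
          · exact q.2.2
        · decide
  rw [card_P2] at h1
  omega

/-- the number of `a2` -/
theorem card_a2 : Nat.card {x : Sp.S // ∃ p, P2 p ∧ Sp.tr p.1 * Sp.tr p.2 * Sp.tr (p.1 + p.2) = x} = 315 := by
  have h1 : Nat.card {p // P2 p} =
      Nat.card {x : Sp.S // ∃ p, P2 p ∧ Sp.tr p.1 * Sp.tr p.2 * Sp.tr (p.1 + p.2) = x} * 6 := by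
    apply card_class P2 (fun p => Sp.tr p.1 * Sp.tr p.2 * Sp.tr (p.1 + p.2))
      (fun x => ∃ p, P2 p ∧ Sp.tr p.1 * Sp.tr p.2 * Sp.tr (p.1 + p.2) = x)
    · intro p hp
      exact ⟨p, hp, rfl⟩
    · rintro x ⟨p, hp, rfl⟩
      obtain ⟨g, hg1, hg2⟩ := exists_std hp
      have h2 : Nat.card {q : Fin 64 × Fin 64 // P2b q ∧
          ∀ c : Fin 64, wc [q.1, q.2, q.1.1 ^^^ q.2.1] c = wc [1, 2, 3] c} = 6 :=
        (Fast.card2 (fun i j => p2 i j && Fast.eq6 [i, j, i ^^^ j] [1, 2, 3]) fun q => by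
          rw [Bool.and_eq_true, p2_iff, eq6_fin]).trans (by decide +kernel)
      refine Eq.trans ?_ h2
      refine Nat.card_congr ((Equiv.subtypeEquiv (Equiv.prodCongr (actEquiv g) (actEquiv g)) ?_).trans
        (Equiv.subtypeEquiv (Equiv.prodCongr encEquiv encEquiv) (p := fun q : Fin 64 × Fin 64 =>
          P2b q ∧ ∀ c : Fin 64, wc [q.1, q.2, q.1.1 ^^^ q.2.1] c = wc [1, 2, 3] c)
          (q := fun p => P2 p ∧ Sp.tr p.1 * Sp.tr p.2 * Sp.tr (p.1 + p.2) =
            Sp.tr (Sp.enc 1) * Sp.tr (Sp.enc 2) * Sp.tr (Sp.enc 1 + Sp.enc 2)) ?_).symm)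
      · intro q
        change _ ↔ P2 (Sp.act g q.1, Sp.act g q.2) ∧
          Sp.tr (Sp.act g q.1) * Sp.tr (Sp.act g q.2) * Sp.tr (Sp.act g q.1 + Sp.act g q.2) = _
        rw [P2_act, ← Sp.act_add, ← Sp.conj_tr, ← Sp.conj_tr, ← Sp.conj_tr, ← hg1, ← hg2, ← Sp.act_add,
          ← Sp.conj_tr, ← Sp.conj_tr, ← Sp.conj_tr]
        have e : ∀ a b c : Sp.S, g * a * g⁻¹ * (g * b * g⁻¹) * (g * c * g⁻¹) = g * (a * b * c) * g⁻¹ :=
          fun a b c => by group
        rw [e, e, mul_left_inj, mul_right_inj]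
      · intro q
        change _ ↔ P2 (Sp.enc q.1, Sp.enc q.2) ∧ Sp.tr (Sp.enc q.1) * Sp.tr (Sp.enc q.2) *
          Sp.tr (Sp.enc q.1 + Sp.enc q.2) = _
        rw [P2_enc, ← W_eq_iff, ← Sp.enc_xor, ← Sp.enc_xor]
        · simp only [W_cons, W_nil, mul_one, mul_assoc]
          rfl
        · intro k hk
          simp only [List.mem_cons, List.not_mem_nil, or_false] at hk
          rcases hk with rfl | rfl | rfl
          · exact q.1.2
          · exact q.2.2
          · exact Nat.xor_lt_two_pow (n := 6) q.1.2 q.2.2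
        · decide
  rw [card_P2] at h1
  omega

/-- triples of independent mutually orthogonal vectors -/
def P3 (p : Sp.V × Sp.V × Sp.V) : Prop := Invol.Ind p.1 p.2.1 p.2.2 ∧ Invol.Orth p.1 p.2.1 p.2.2

/-- the same on codes -/
def P3b (q : Fin 64 × Fin 64 × Fin 64) : Prop :=
  (q.1.1 ≠ 0 ∧ q.2.1.1 ≠ 0 ∧ q.2.1.1 ≠ q.1.1 ∧ q.2.2.1 ≠ 0 ∧ q.2.2.1 ≠ q.1.1 ∧ q.2.2.1 ≠ q.2.1.1 ∧
    q.2.2.1 ≠ q.1.1 ^^^ q.2.1.1) ∧
  Sp.fN q.1 q.2.1 = false ∧ Sp.fN q.1 q.2.2 = false ∧ Sp.fN q.2.1 q.2.2 = false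

instance : DecidablePred P3b := fun _ => by unfold P3b; infer_instance

theorem P3_enc (q : Fin 64 × Fin 64 × Fin 64) : P3 (Sp.enc q.1, Sp.enc q.2.1, Sp.enc q.2.2) ↔ P3b q := by
  unfold P3 P3b Invol.Ind Invol.Orth
  have h : q.1.1 ^^^ q.2.1.1 < 64 := Nat.xor_lt_two_pow (n := 6) q.1.2 q.2.1.2
  simp only [← Sp.enc_xor, ne_eq, enc_eq_zero q.1.2, enc_eq_zero q.2.1.2, enc_eq_zero q.2.2.2,
    enc_eq_iff q.2.1.2 q.1.2, enc_eq_iff q.2.2.2 q.1.2, enc_eq_iff q.2.2.2 q.2.1.2, enc_eq_iff q.2.2.2 h, om_enc_zero]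

theorem P3_act {g : Sp.S} {p : Sp.V × Sp.V × Sp.V} :
    P3 (Sp.act g p.1, Sp.act g p.2.1, Sp.act g p.2.2) ↔ P3 p := by
  have h0 : ∀ x, Sp.act g x = 0 ↔ x = 0 := fun x => by
    constructor
    · intro h
      exact Invol.act_inj (g := g) (h.trans (Invol.act_zero g).symm)
    · rintro rfl
      exact Invol.act_zero g
  have h1 : ∀ x y, Sp.act g x = Sp.act g y ↔ x = y := fun x y => ⟨fun h => Invol.act_inj h, fun h => by rw [h]⟩
  unfold P3 Invol.Ind Invol.Orth
  simp only [ne_eq, h0, h1, Sp.act_om, ← Sp.act_add]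

theorem exists_std3 {p : Sp.V × Sp.V × Sp.V} (h : P3 p) :
    ∃ g, Sp.act g p.1 = Sp.enc 1 ∧ Sp.act g p.2.1 = Sp.enc 2 ∧ Sp.act g p.2.2 = Sp.enc 4 :=
  Invol.exists_triple h.1 h.2 (by decide) (by unfold Invol.Orth; decide)

theorem card_P3 : Nat.card {p // P3 p} = 22680 := by
  have h1 : Nat.card {p : Sp.V × Sp.V × Sp.V // P3 p} = Nat.card {x : Sp.V × Sp.V // P2 x} * 12 := by
    apply card_class P3 (fun p => (p.1, p.2.1)) P2
    · intro p hp
      exact ⟨hp.1.1, hp.1.2.1, hp.1.2.2.1, hp.2.1⟩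
    · intro x hx
      obtain ⟨g, hg1, hg2⟩ := exists_std hx
      have h2 : Nat.card {q : Fin 64 // P3b (1, 2, q)} = 12 := by
        rw [Nat.card_eq_fintype_card]
        decide +kernel
      refine Eq.trans ?_ h2
      refine Nat.card_congr
        { toFun := fun p => ⟨encEquiv.symm (Sp.act g p.1.2.2), ?_⟩
          invFun := fun q => ⟨(x.1, x.2, Sp.act g⁻¹ (Sp.enc q.1)), ?_, rfl⟩
          left_inv := ?_
          right_inv := ?_ }
      · obtain ⟨h3, h4⟩ := p.2
        rw [← P3_act (g := g)] at h3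
        have h5 : p.1.1 = x.1 := congrArg Prod.fst h4
        have h6 : p.1.2.1 = x.2 := congrArg Prod.snd h4
        rw [h5, h6, hg1, hg2] at h3
        rw [← P3_enc]
        have h7 : Sp.enc (encEquiv.symm (Sp.act g p.1.2.2)).1 = Sp.act g p.1.2.2 := encEquiv.apply_symm_apply _
        change P3 (Sp.enc 1, Sp.enc 2, Sp.enc (encEquiv.symm (Sp.act g p.1.2.2)).1)
        rw [h7]
        exact h3
      · rw [← P3_act (g := g)]
        change P3 (Sp.act g x.1, Sp.act g x.2, Sp.act g (Sp.act g⁻¹ (Sp.enc q.1)))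
        rw [hg1, hg2, ← Sp.act_mul, mul_inv_cancel, Sp.act_one]
        exact (P3_enc (1, 2, q.1)).2 q.2
      · rintro ⟨⟨p1, p2, p3⟩, h3, h4⟩
        have h5 : p1 = x.1 := congrArg Prod.fst h4
        have h6 : p2 = x.2 := congrArg Prod.snd h4
        have h7 : Sp.enc (encEquiv.symm (Sp.act g p3)).1 = Sp.act g p3 := encEquiv.apply_symm_apply _
        apply Subtype.ext
        change (x.1, x.2, Sp.act g⁻¹ (Sp.enc (encEquiv.symm (Sp.act g p3)).1)) = (p1, p2, p3)
        rw [h7, ← Sp.act_mul, inv_mul_cancel, Sp.act_one, h5, h6]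
      · rintro ⟨q, hq⟩
        apply Subtype.ext
        change encEquiv.symm (Sp.act g (Sp.act g⁻¹ (Sp.enc q.1))) = q
        rw [← Sp.act_mul, mul_inv_cancel, Sp.act_one]
        exact encEquiv.symm_apply_apply q
  rw [h1, card_P2]

theorem tr3_act {u w t : Sp.V} (ho : Invol.Orth u w t) (a : Sp.V) :
    Sp.act (Sp.tr u * Sp.tr w * Sp.tr t) a = a + (Sp.om a u • u + Sp.om a w • w + Sp.om a t • t) := by
  obtain ⟨h1, h2, h3⟩ := ho
  rw [Sp.om_symm] at h1 h2 h3
  rw [Sp.act_mul, Sp.act_mul]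
  have f1 : Sp.om (a + Sp.om a t • t) w = Sp.om a w := by
    rw [Sp.om_add', Invol.om_smul', h3, mul_zero, add_zero]
  have f2 : Sp.om (a + Sp.om a t • t + Sp.om a w • w) u = Sp.om a u := by
    rw [Sp.om_add', Sp.om_add', Invol.om_smul', Invol.om_smul', h2, h1, mul_zero, add_zero, mul_zero, add_zero]
  have e1 : Sp.act (Sp.tr t) a = a + Sp.om a t • t := Sp.act_tr _ _
  have e2 : ∀ b, Sp.act (Sp.tr w) b = b + Sp.om b w • w := fun b => Sp.act_tr _ _
  have e3 : ∀ b, Sp.act (Sp.tr u) b = b + Sp.om b u • u := fun b => Sp.act_tr _ _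
  rw [e1, e2, f1, e3, f2]
  abel

/-- a member of a triple is moved from some vector -/
theorem mem_of_tr3 {u w t : Sp.V} (hi : Invol.Ind u w t) (ho : Invol.Orth u w t) {x : Sp.S}
    (hx : Sp.tr u * Sp.tr w * Sp.tr t = x) :
    (∃ a, Sp.act x a = a + u) ∧ (∃ a, Sp.act x a = a + w) ∧ ∃ a, Sp.act x a = a + t := by
  have h3 : ∃ a, Sp.act x a = a + t := by
    obtain ⟨a, h1, h2, h3⟩ := Invol.exists_om_triple hi
    refine ⟨a, ?_⟩
    rw [← hx, tr3_act ho, Sp.om_symm a u, Sp.om_symm a w, Sp.om_symm a t, h1, h2, h3, zero_smul, zero_smul,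
      one_smul, zero_add, zero_add]
  obtain ⟨i1, i2, i3, i4, i5, i6, i7⟩ := hi
  have dbl : ∀ x y : Sp.V, x + (x + y) = y := fun x y => by rw [← add_assoc, Sp.add_self, zero_add]
  have dbl' : ∀ x y : Sp.V, x + y + y = x := fun x y => by rw [add_assoc, Sp.add_self, add_zero]
  have h2 : ∃ a, Sp.act x a = a + w := by
    have hi2 : Invol.Ind u t w := ⟨i1, i4, i5, i2, i3, fun h => i6 h.symm, fun h => i7 (by rw [h, dbl])⟩
    obtain ⟨a, h1, h2, h3⟩ := Invol.exists_om_triple hi2
    refine ⟨a, ?_⟩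
    rw [← hx, tr3_act ho, Sp.om_symm a u, Sp.om_symm a w, Sp.om_symm a t, h1, h2, h3, zero_smul, zero_smul,
      one_smul, zero_add, add_zero]
  have h1 : ∃ a, Sp.act x a = a + u := by
    have hi2 : Invol.Ind w t u := ⟨i2, i4, i6, i1, fun h => i3 h.symm, fun h => i5 h.symm,
      fun h => i7 (by rw [h, add_comm, dbl])⟩
    obtain ⟨a, h1, h2, h3⟩ := Invol.exists_om_triple hi2
    refine ⟨a, ?_⟩
    rw [← hx, tr3_act ho, Sp.om_symm a u, Sp.om_symm a w, Sp.om_symm a t, h1, h2, h3, zero_smul, zero_smul,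
      one_smul, add_zero, add_zero]
  exact ⟨h1, h2, h3⟩

theorem lt_eight {u : Sp.V} (h : ∃ a, Sp.act (W [1, 2, 4]) a = a + u) : ∃ k < 8, u = Sp.enc k := by
  obtain ⟨a, ha⟩ := h
  obtain ⟨c, hc, rfl⟩ := Sp.exists_enc a
  have key : ∀ c < 64, wc [1, 2, 4] c ^^^ c < 8 := by decide
  refine ⟨_, key c hc, ?_⟩
  rw [Sp.enc_xor, ← act_W, ha, add_assoc, add_comm u, ← add_assoc, Sp.add_self, zero_add]

/-- triples below 8 -/
def P3s (q : Fin 8 × Fin 8 × Fin 8) : Prop :=
  (q.1.1 ≠ 0 ∧ q.2.1.1 ≠ 0 ∧ q.2.1.1 ≠ q.1.1 ∧ q.2.2.1 ≠ 0 ∧ q.2.2.1 ≠ q.1.1 ∧ q.2.2.1 ≠ q.2.1.1 ∧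
    q.2.2.1 ≠ q.1.1 ^^^ q.2.1.1) ∧ ∀ c : Fin 64, wc [q.1, q.2.1, q.2.2] c = wc [1, 2, 4] c

instance : DecidablePred P3s := fun _ => by unfold P3s; infer_instance

/-- the number of `b3` -/
theorem card_b3 : Nat.card {x : Sp.S // ∃ p, P3 p ∧ Sp.tr p.1 * Sp.tr p.2.1 * Sp.tr p.2.2 = x} = 3780 := by
  have h1 : Nat.card {p // P3 p} =
      Nat.card {x : Sp.S // ∃ p, P3 p ∧ Sp.tr p.1 * Sp.tr p.2.1 * Sp.tr p.2.2 = x} * 6 := by
    apply card_class P3 (fun p => Sp.tr p.1 * Sp.tr p.2.1 * Sp.tr p.2.2)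
      (fun x => ∃ p, P3 p ∧ Sp.tr p.1 * Sp.tr p.2.1 * Sp.tr p.2.2 = x)
    · intro p hp
      exact ⟨p, hp, rfl⟩
    · rintro x ⟨p, hp, rfl⟩
      obtain ⟨g, hg1, hg2, hg3⟩ := exists_std3 hp
      have h2 : Nat.card {q : Fin 8 × Fin 8 × Fin 8 // P3s q} = 6 := by
        delta P3s
        simp only [eq6_fin]
        rw [Nat.card_eq_fintype_card]
        decide +kernel
      refine Eq.trans ?_ h2
      have hstd : Sp.tr (Sp.act g p.1) * Sp.tr (Sp.act g p.2.1) * Sp.tr (Sp.act g p.2.2) = W [1, 2, 4] := by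
        rw [hg1, hg2, hg3, W_cons, W_cons, W_cons, W_nil, mul_one, mul_assoc]
      have e : ∀ a b c : Sp.S, g * a * g⁻¹ * (g * b * g⁻¹) * (g * c * g⁻¹) = g * (a * b * c) * g⁻¹ :=
        fun a b c => by group
      refine Nat.card_congr ((Equiv.subtypeEquiv (Equiv.prodCongr (actEquiv g)
        (Equiv.prodCongr (actEquiv g) (actEquiv g)))
          (q := fun p => P3 p ∧ Sp.tr p.1 * Sp.tr p.2.1 * Sp.tr p.2.2 = W [1, 2, 4]) ?_).trans ?_)
      · intro q
        change _ ↔ P3 (Sp.act g q.1, Sp.act g q.2.1, Sp.act g q.2.2) ∧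
          Sp.tr (Sp.act g q.1) * Sp.tr (Sp.act g q.2.1) * Sp.tr (Sp.act g q.2.2) = _
        rw [P3_act, ← hstd, ← Sp.conj_tr, ← Sp.conj_tr, ← Sp.conj_tr, ← Sp.conj_tr, ← Sp.conj_tr, ← Sp.conj_tr,
          e, e, mul_left_inj, mul_right_inj]
      · symm
        have hW : ∀ q : Fin 8 × Fin 8 × Fin 8, Sp.tr (Sp.enc q.1) * Sp.tr (Sp.enc q.2.1) * Sp.tr (Sp.enc q.2.2) =
            W [q.1, q.2.1, q.2.2] := fun q => by
          rw [W_cons, W_cons, W_cons, W_nil, mul_one, mul_assoc]
        have lt : ∀ k : Fin 8, k.1 < 64 := fun k => by omega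
        have orth : ∀ k l : Fin 8, Sp.fN k.1 l.1 = false := by decide
        have hb : ∀ q : Fin 8 × Fin 8 × Fin 8, P3 (Sp.enc q.1, Sp.enc q.2.1, Sp.enc q.2.2) ↔
            (q.1.1 ≠ 0 ∧ q.2.1.1 ≠ 0 ∧ q.2.1.1 ≠ q.1.1 ∧ q.2.2.1 ≠ 0 ∧ q.2.2.1 ≠ q.1.1 ∧ q.2.2.1 ≠ q.2.1.1 ∧
              q.2.2.1 ≠ q.1.1 ^^^ q.2.1.1) := fun q => by
          have := P3_enc (⟨q.1.1, lt _⟩, ⟨q.2.1.1, lt _⟩, ⟨q.2.2.1, lt _⟩)
          rw [this]
          unfold P3b
          constructor
          · exact fun h => h.1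
          · exact fun h => ⟨h, orth _ _, orth _ _, orth _ _⟩
        refine Equiv.ofBijective (fun q => ⟨(Sp.enc q.1.1, Sp.enc q.1.2.1, Sp.enc q.1.2.2), ?_, ?_⟩) ⟨?_, ?_⟩
        · exact (hb q.1).2 q.2.1
        · change Sp.tr (Sp.enc q.1.1) * Sp.tr (Sp.enc q.1.2.1) * Sp.tr (Sp.enc q.1.2.2) = _
          rw [hW]
          exact W_eq fun c hc => q.2.2 ⟨c, hc⟩
        · intro q r h
          have h1 := congrArg (fun z => z.1) h
          apply Subtype.ext
          have h2 : Sp.enc q.1.1 = Sp.enc r.1.1 := congrArg Prod.fst h1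
          have h3 : Sp.enc q.1.2.1 = Sp.enc r.1.2.1 := congrArg (fun z => z.2.1) h1
          have h4 : Sp.enc q.1.2.2 = Sp.enc r.1.2.2 := congrArg (fun z => z.2.2) h1
          rw [enc_eq_iff (lt _) (lt _)] at h2 h3 h4
          exact Prod.ext (Fin.ext h2) (Prod.ext (Fin.ext h3) (Fin.ext h4))
        · rintro ⟨⟨u, w, t⟩, h3, h4⟩
          obtain ⟨m1, m2, m3⟩ := mem_of_tr3 h3.1 h3.2 h4
          obtain ⟨k, hk, rfl⟩ := lt_eight m1
          obtain ⟨l, hl, rfl⟩ := lt_eight m2
          obtain ⟨m, hm, rfl⟩ := lt_eight m3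
          refine ⟨⟨(⟨k, hk⟩, ⟨l, hl⟩, ⟨m, hm⟩), (hb (⟨k, hk⟩, ⟨l, hl⟩, ⟨m, hm⟩)).1 h3, ?_⟩, rfl⟩
          refine (W_eq_iff ?_ ?_).1 ((hW (⟨k, hk⟩, ⟨l, hl⟩, ⟨m, hm⟩)).symm.trans h4)
          · intro x hx
            simp only [List.mem_cons, List.not_mem_nil, or_false] at hx
            omega
          · decide
  rw [card_P3] at h1
  omega

end Cfsg.Agent.StdSpSix.Counts
end

-- part: StdSpSix/Facts
section
prune_inst 0x31207544044000000018009013003c46a6000192004b800190e0084004c48f4120000f61b460131201382e742038004811540099421000000a008800411c0080042a100610400000200000401880000000000000000000000000000000000004000000000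
set_option linter.all false
open scoped Cfsg.Agent.FastGrp

/-!
# Facts on the context: `D ∩ L ⊆ b3`, and the number of `l ∈ L` with `t l ∈ D`

* `mem_L_b3` : an element of `D ∩ L` has type `b3`.
* `card_classfun` : `#{x | P x} = 1 + 63 [b1] + 945 [c2] + 315 [a2] + 3780 [b3]` for a class function `P` on involutions.
* `exists_hom_of_parity` : if an even number of `b1, c2, a2` satisfies `t x ∈ D` then `∃ m : G →* ℤˣ, m t = -1`.
-/

set_option autoImplicit false

namespace Cfsg.Agent.StdSpSix.Facts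

open Subgroup
open Cfsg.Agent.StandardComponent.SpTwo
open Cfsg.Agent.SporRec.TwoSp6
open Cfsg.Agent.StdSpSix.Words Cfsg.Agent.StdSpSix.Counts

/-! ### products of squares of commuting elements -/

/-- `x` is a product of squares of elements commuting with it. -/
def SqGen {Y : Type*} [Group Y] (x : Y) : Prop :=
  ∃ l : List Y, (∀ y ∈ l, Commute y x) ∧ x = (l.map fun y => y * y).prod

theorem SqGen.map {Y Z : Type*} [Group Y] [Group Z] (f : Y →* Z) {x : Y} (h : SqGen x) : SqGen (f x) := by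
  obtain ⟨l, h1, h2⟩ := h
  refine ⟨l.map f, ?_, ?_⟩
  · intro y hy
    obtain ⟨z, hz, rfl⟩ := List.mem_map.1 hy
    exact (h1 z hz).map f
  · conv_lhs => rw [h2]
    rw [map_list_prod, List.map_map, List.map_map]
    congr 1
    apply List.map_congr_left
    intro y _
    exact map_mul f y y

theorem SqGen.conj {Y : Type*} [Group Y] {x : Y} (g : Y) (h : SqGen (g * x * g⁻¹)) : SqGen x := by
  have := h.map (MulAut.conj g⁻¹).toMonoidHom
  have e : (MulAut.conj g⁻¹).toMonoidHom (g * x * g⁻¹) = x := by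
    change g⁻¹ * (g * x * g⁻¹) * g⁻¹⁻¹ = x
    group
  rwa [e] at this

theorem sqGen_b1 : SqGen (W [1]) := by
  refine ⟨[W [2, 16, 17], W [4, 32, 33], W [6, 16, 17]], ?_, ?_⟩
  · intro y hy
    simp only [List.mem_cons, List.not_mem_nil, or_false] at hy
    rcases hy with rfl | rfl | rfl <;> exact W_commute (by decide +kernel)
  · simp only [List.map_cons, List.map_nil, List.prod_cons, List.prod_nil, mul_one]
    rw [← W_append, ← W_append, ← W_append, ← W_append, ← W_append]
    exact W_eq (by decide +kernel)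

theorem sqGen_c2 : SqGen (W [1, 2]) := by
  refine ⟨[W [1, 24, 27]], ?_, ?_⟩
  · intro y hy
    simp only [List.mem_cons, List.not_mem_nil, or_false] at hy
    rcases hy with rfl
    exact W_commute (by decide +kernel)
  · simp only [List.map_cons, List.map_nil, List.prod_cons, List.prod_nil, mul_one]
    rw [← W_append]
    exact W_eq (by decide +kernel)

theorem sqGen_a2 : SqGen (W [1, 2, 3]) := by
  refine ⟨[W [4, 5, 32, 34]], ?_, ?_⟩
  · intro y hy
    simp only [List.mem_cons, List.not_mem_nil, or_false] at hy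
    rcases hy with rfl
    exact W_commute (by decide +kernel)
  · simp only [List.map_cons, List.map_nil, List.prod_cons, List.prod_nil, mul_one]
    rw [← W_append]
    exact W_eq (by decide +kernel)

section ctx
variable {G V : Type*} [Group G] [AddCommGroup V] [Module (ZMod 2) V] (C : Ctx G V)

theorem sq_mem {y : G} (h : Commute y C.t) : y * y ∈ C.L := by
  rcases (C.cent y).1 h with h1 | h1
  · exact mul_mem h1 h1
  · have e : y * y = C.t * y * (C.t * y) := by
      calc y * y = (C.t * C.t) * (y * y) := by rw [C.tt, one_mul]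
        _ = C.t * (C.t * y) * y := by group
        _ = C.t * (y * C.t) * y := by rw [h.eq]
        _ = C.t * y * (C.t * y) := by group
    rw [e]
    exact mul_mem h1 h1

/-- no element of `D` is a product of squares of elements commuting with it -/
theorem not_sqGen {x : G} (hx : x ∈ C.D) (h : SqGen x) : False := by
  obtain ⟨g, rfl⟩ := C.exists_ctx hx
  obtain ⟨l, h1, h2⟩ := h
  apply (C.conj g).tL
  rw [h2]
  apply list_prod_mem
  intro z hz
  obtain ⟨y, hy, rfl⟩ := List.mem_map.1 hz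
  exact sq_mem _ (h1 y hy)

end ctx

/-! ### counting class functions -/

theorem card_or {α : Type*} [Finite α] (p q : α → Prop) (h : ∀ x, p x → q x → False) :
    Nat.card {x // p x ∨ q x} = Nat.card {x // p x} + Nat.card {x // q x} := by
  classical
  rw [← Nat.card_sum]
  refine Nat.card_congr (subtypeOrEquiv p q ?_)
  rw [Pi.disjoint_iff]
  intro x
  rw [Prop.disjoint_iff]
  exact fun h' => h x h'.1 h'.2

/-- conjugate to the word -/
def Cl (ks : List ℕ) (x : Sp.S) : Prop := ∃ g, g * x * g⁻¹ = W ks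

/-- number of fixed vectors -/
noncomputable def nfix (x : Sp.S) : ℕ := Nat.card {v // Sp.act x v = v}

theorem nfix_conj (g x : Sp.S) : nfix (g * x * g⁻¹) = nfix x := by
  unfold nfix
  symm
  refine Nat.card_congr (Equiv.subtypeEquiv (actEquiv g) ?_)
  intro v
  change _ ↔ Sp.act (g * x * g⁻¹) (Sp.act g v) = Sp.act g v
  rw [← Sp.act_mul, inv_mul_cancel_right, Sp.act_mul]
  exact ⟨fun h => by rw [h], fun h => Invol.act_inj h⟩

theorem nfix_W {ks : List ℕ} (hk : ∀ k ∈ ks, k < 64) : nfix (W ks) = Nat.card {c : Fin 64 // wc ks c = c} := by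
  unfold nfix
  symm
  refine Nat.card_congr (Equiv.subtypeEquiv encEquiv ?_)
  intro c
  change _ ↔ Sp.act (W ks) (Sp.enc c) = Sp.enc c
  rw [act_W, enc_eq_iff (wc_lt hk c.2) c.2]

theorem Cl.nfix {ks : List ℕ} (hk : ∀ k ∈ ks, k < 64) {x : Sp.S} (h : Cl ks x) :
    nfix x = Nat.card {c : Fin 64 // wc ks c = c} := by
  obtain ⟨g, hg⟩ := h
  rw [← nfix_W hk, ← hg, nfix_conj]

/-- alternating elements -/
def Alt (x : Sp.S) : Prop := ∀ v, Sp.om v (Sp.act x v) = 0

theorem alt_conj {g x : Sp.S} (h : Alt (g * x * g⁻¹)) : Alt x := by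
  intro v
  have := h (Sp.act g v)
  rw [← Sp.act_mul, inv_mul_cancel_right, Sp.act_mul, Sp.act_om] at this
  exact this

theorem Cl.alt {x : Sp.S} (h : Cl [1, 2, 3] x) : Alt x := by
  obtain ⟨g, hg⟩ := h
  apply alt_conj (g := g)
  rw [hg]
  intro v
  obtain ⟨c, hc, rfl⟩ := Sp.exists_enc v
  rw [act_W, om_enc_zero]
  have key : ∀ c < 64, Sp.fN c (wc [1, 2, 3] c) = false := by decide +kernel
  exact key c hc

theorem Cl.not_alt {x : Sp.S} (h : Cl [1, 2] x) : ¬ Alt x := by
  obtain ⟨g, hg⟩ := h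
  intro ha
  have h1 : Alt (W [1, 2]) := by
    apply alt_conj (g := g⁻¹)
    rw [← hg]
    have e : g⁻¹ * (g * x * g⁻¹) * g⁻¹⁻¹ = x := by group
    rw [e]
    exact ha
  have h2 := h1 (Sp.enc 8)
  rw [act_W, om_enc_zero] at h2
  revert h2
  decide

theorem cards : Nat.card {c : Fin 64 // wc [1] c = c} = 32 ∧ Nat.card {c : Fin 64 // wc [1, 2] c = c} = 16 ∧
    Nat.card {c : Fin 64 // wc [1, 2, 3] c = c} = 16 ∧ Nat.card {c : Fin 64 // wc [1, 2, 4] c = c} = 8 := by
  refine ⟨?_, ?_, ?_, ?_⟩ <;> (rw [Nat.card_eq_fintype_card]; decide +kernel)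

theorem nfix_one : nfix 1 = 64 := by
  unfold nfix
  have : Nat.card {v : Sp.V // Sp.act 1 v = v} = Nat.card Sp.V :=
    Nat.card_congr (Equiv.subtypeUnivEquiv fun v => Sp.act_one v)
  rw [this, ← Nat.card_congr encEquiv, Nat.card_eq_fintype_card, Fintype.card_fin]

theorem n1 {x : Sp.S} (h : Cl [1] x) : nfix x = 32 := (h.nfix (by decide)).trans cards.1
theorem n2 {x : Sp.S} (h : Cl [1, 2] x) : nfix x = 16 := (h.nfix (by decide)).trans cards.2.1
theorem n3 {x : Sp.S} (h : Cl [1, 2, 3] x) : nfix x = 16 := (h.nfix (by decide)).trans cards.2.2.1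
theorem n4 {x : Sp.S} (h : Cl [1, 2, 4] x) : nfix x = 8 := (h.nfix (by decide)).trans cards.2.2.2

theorem conj_prod2 (g a b : Sp.S) : g * (a * b) * g⁻¹ = g * a * g⁻¹ * (g * b * g⁻¹) := by group
theorem conj_prod3 (g a b c : Sp.S) : g * (a * b * c) * g⁻¹ = g * a * g⁻¹ * (g * b * g⁻¹) * (g * c * g⁻¹) := by group

theorem of_conj {g x y : Sp.S} (h : g * x * g⁻¹ = y) : x = g⁻¹ * y * g⁻¹⁻¹ := by rw [← h]; group

theorem card_Cl1 : Nat.card {x // Cl [1] x} = 63 := by
  have h1 : Nat.card {v : Sp.V // v ≠ 0} = 63 := by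
    have h2 : Nat.card {c : Fin 64 // c.1 ≠ 0} = 63 := by rw [Nat.card_eq_fintype_card]; decide +kernel
    rw [← h2]
    symm
    refine Nat.card_congr (Equiv.subtypeEquiv encEquiv fun c => ?_)
    change _ ↔ Sp.enc c ≠ 0
    rw [ne_eq, ne_eq, enc_eq_zero c.2]
  rw [← h1]
  symm
  refine Nat.card_congr (Equiv.ofBijective (fun v => ⟨Sp.tr v.1, ?_⟩) ⟨?_, ?_⟩)
  · obtain ⟨g, hg⟩ := Sp.exists_act v.2 (w := Sp.enc 1) (by decide)
    refine ⟨g, ?_⟩
    rw [Sp.conj_tr, hg, W_cons, W_nil, mul_one]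
  · intro u v h
    have h2 : Sp.tr u.1 = Sp.tr v.1 := congrArg Subtype.val h
    obtain ⟨a, ha⟩ := Sp.exists_om_one u.2
    have h3 := Sp.act_tr u.1 a
    rw [h2, Sp.act_tr, Sp.om_symm a u.1, ha, one_smul] at h3
    have h4 := add_left_cancel h3
    rcases Sp.om_cases a v.1 with h5 | h5
    · rw [h5, zero_smul] at h4
      exact absurd h4.symm u.2
    · rw [h5, one_smul] at h4
      exact Subtype.ext h4.symm
  · rintro ⟨x, g, hg⟩
    refine ⟨⟨Sp.act g⁻¹ (Sp.enc 1), Invol.act_ne (by decide)⟩, Subtype.ext ?_⟩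
    change Sp.tr (Sp.act g⁻¹ (Sp.enc 1)) = x
    rw [of_conj hg, ← Sp.conj_tr, W_cons, W_nil, mul_one]

theorem W1 (a : ℕ) : W [a] = Sp.tr (Sp.enc a) := by rw [W_cons, W_nil, mul_one]
theorem W2 (a b : ℕ) : W [a, b] = Sp.tr (Sp.enc a) * Sp.tr (Sp.enc b) := by rw [W_cons, W1]
theorem W3 (a b c : ℕ) : W [a, b, c] = Sp.tr (Sp.enc a) * Sp.tr (Sp.enc b) * Sp.tr (Sp.enc c) := by
  rw [W_cons, W2, mul_assoc]

theorem P2_std : P2 (Sp.enc 1, Sp.enc 2) := ⟨by decide, by decide, by decide, by decide⟩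

theorem card_Cl2 : Nat.card {x // Cl [1, 2] x} = 945 := by
  rw [← card_c2]
  refine Nat.card_congr (Equiv.subtypeEquivRight fun x => ?_)
  constructor
  · rintro ⟨g, hg⟩
    refine ⟨(Sp.act g⁻¹ (Sp.enc 1), Sp.act g⁻¹ (Sp.enc 2)), ((P2_act (g := g⁻¹)).2 P2_std :), ?_⟩
    rw [of_conj hg, W2, conj_prod2, Sp.conj_tr, Sp.conj_tr]
  · rintro ⟨p, hp, rfl⟩
    obtain ⟨g, h1, h2⟩ := exists_std hp
    refine ⟨g, ?_⟩
    rw [conj_prod2, Sp.conj_tr, Sp.conj_tr, h1, h2, W_cons, W_cons, W_nil, mul_one]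

theorem card_Cl3 : Nat.card {x // Cl [1, 2, 3] x} = 315 := by
  rw [← card_a2]
  have e3 : Sp.enc 3 = Sp.enc 1 + Sp.enc 2 := Sp.enc_xor 1 2
  refine Nat.card_congr (Equiv.subtypeEquivRight fun x => ?_)
  constructor
  · rintro ⟨g, hg⟩
    refine ⟨(Sp.act g⁻¹ (Sp.enc 1), Sp.act g⁻¹ (Sp.enc 2)), ((P2_act (g := g⁻¹)).2 P2_std :), ?_⟩
    rw [of_conj hg, W3, conj_prod3, Sp.conj_tr, Sp.conj_tr, Sp.conj_tr, e3, Sp.act_add]
  · rintro ⟨p, hp, rfl⟩
    obtain ⟨g, h1, h2⟩ := exists_std hp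
    refine ⟨g, ?_⟩
    rw [conj_prod3, Sp.conj_tr, Sp.conj_tr, Sp.conj_tr, Sp.act_add, h1, h2, W3, e3]

theorem card_Cl4 : Nat.card {x // Cl [1, 2, 4] x} = 3780 := by
  rw [← card_b3]
  have hs : P3 (Sp.enc 1, Sp.enc 2, Sp.enc 4) := ⟨by unfold Invol.Ind; decide, by unfold Invol.Orth; decide⟩
  refine Nat.card_congr (Equiv.subtypeEquivRight fun x => ?_)
  constructor
  · rintro ⟨g, hg⟩
    refine ⟨(Sp.act g⁻¹ (Sp.enc 1), Sp.act g⁻¹ (Sp.enc 2), Sp.act g⁻¹ (Sp.enc 4)), ((P3_act (g := g⁻¹)).2 hs :), ?_⟩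
    rw [of_conj hg, W3, conj_prod3, Sp.conj_tr, Sp.conj_tr, Sp.conj_tr]
  · rintro ⟨p, hp, rfl⟩
    obtain ⟨g, h1, h2, h3⟩ := exists_std3 hp
    refine ⟨g, ?_⟩
    rw [conj_prod3, Sp.conj_tr, Sp.conj_tr, Sp.conj_tr, h1, h2, h3, W3]

theorem card_and {α : Type*} [Finite α] (p : Prop) [Decidable p] (q : α → Prop) :
    Nat.card {x // p ∧ q x} = if p then Nat.card {x // q x} else 0 := by
  by_cases h : p
  · rw [if_pos h]
    exact Nat.card_congr (Equiv.subtypeEquivRight fun x => ⟨fun h' => h'.2, fun h' => ⟨h, h'⟩⟩)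
  · rw [if_neg h]
    have : IsEmpty {x // p ∧ q x} := ⟨fun x => h x.2.1⟩
    exact Nat.card_of_isEmpty

/-- the number of elements satisfying a class function supported on involutions, concrete form -/
theorem card_classfun_S (P : Sp.S → Prop) [DecidablePred P] (h1 : P 1) (h2 : ∀ x, P x → x * x = 1)
    (h3 : ∀ g x, P x → P (g * x * g⁻¹)) :
    Nat.card {x // P x} = 1 + ((if P (W [1]) then 63 else 0) + ((if P (W [1, 2]) then 945 else 0) +
      ((if P (W [1, 2, 3]) then 315 else 0) + if P (W [1, 2, 4]) then 3780 else 0))) := by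
  have hc : ∀ {ks : List ℕ} {x : Sp.S}, Cl ks x → (P x ↔ P (W ks)) := by
    rintro ks x ⟨g, hg⟩
    constructor
    · intro h
      rw [← hg]
      exact h3 g x h
    · intro h
      rw [of_conj hg]
      exact h3 _ _ h
  have h4 : ∀ x, P x ↔ x = 1 ∨ (P (W [1]) ∧ Cl [1] x) ∨ (P (W [1, 2]) ∧ Cl [1, 2] x) ∨
      (P (W [1, 2, 3]) ∧ Cl [1, 2, 3] x) ∨ (P (W [1, 2, 4]) ∧ Cl [1, 2, 4] x) := by
    intro x
    constructor
    · intro h
      by_cases hx1 : x = 1
      · exact Or.inl hx1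
      right
      have hcl : Cl [1] x ∨ Cl [1, 2] x ∨ Cl [1, 2, 3] x ∨ Cl [1, 2, 4] x := by
        rcases Invol.classify (h2 x h) hx1 with ⟨u, hu, rfl⟩ | ⟨u, v, hu, hv, hvu, huv, rfl⟩ |
          ⟨u, v, hu, hv, hvu, huv, rfl⟩ | ⟨u, v, t, hI, hO, rfl⟩
        · left
          obtain ⟨g, hg⟩ := Sp.exists_act hu (w := Sp.enc 1) (by decide)
          exact ⟨g, by rw [Sp.conj_tr, hg, W_cons, W_nil, mul_one]⟩
        · right; left
          obtain ⟨g, g1, g2⟩ := exists_std (p := (u, v)) ⟨hu, hv, hvu, huv⟩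
          refine ⟨g, ?_⟩
          rw [conj_prod2, Sp.conj_tr, Sp.conj_tr, g1, g2, W_cons, W_cons, W_nil, mul_one]
        · right; right; left
          obtain ⟨g, g1, g2⟩ := exists_std (p := (u, v)) ⟨hu, hv, hvu, huv⟩
          refine ⟨g, ?_⟩
          rw [conj_prod3, Sp.conj_tr, Sp.conj_tr, Sp.conj_tr, Sp.act_add, g1, g2, W3, ← Sp.enc_xor]
          rfl
        · right; right; right
          obtain ⟨g, g1, g2, g3⟩ := exists_std3 (p := (u, v, t)) ⟨hI, hO⟩
          refine ⟨g, ?_⟩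
          rw [conj_prod3, Sp.conj_tr, Sp.conj_tr, Sp.conj_tr, g1, g2, g3, W3]
      rcases hcl with h' | h' | h' | h'
      · exact Or.inl ⟨(hc h').1 h, h'⟩
      · exact Or.inr (Or.inl ⟨(hc h').1 h, h'⟩)
      · exact Or.inr (Or.inr (Or.inl ⟨(hc h').1 h, h'⟩))
      · exact Or.inr (Or.inr (Or.inr ⟨(hc h').1 h, h'⟩))
    · rintro (rfl | ⟨h, h'⟩ | ⟨h, h'⟩ | ⟨h, h'⟩ | ⟨h, h'⟩)
      · exact h1
      all_goals exact (hc h').2 h
  rw [Nat.card_congr (Equiv.subtypeEquivRight h4), card_or, card_or, card_or, card_or]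
  · rw [card_and, card_and, card_and, card_and, card_Cl1, card_Cl2, card_Cl3, card_Cl4]
    congr 1
    rw [Nat.card_eq_fintype_card]
    exact Fintype.card_subtype_eq 1
  · rintro x ⟨_, h⟩ ⟨_, h'⟩
    have := n3 h
    rw [n4 h'] at this
    omega
  · rintro x ⟨_, h⟩ (⟨_, h'⟩ | ⟨_, h'⟩)
    · exact h.not_alt h'.alt
    · have := n2 h
      rw [n4 h'] at this
      omega
  · rintro x ⟨_, h⟩ (⟨_, h'⟩ | ⟨_, h'⟩ | ⟨_, h'⟩)
    · have := n1 h
      rw [n2 h'] at this
      omega
    · have := n1 h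
      rw [n3 h'] at this
      omega
    · have := n1 h
      rw [n4 h'] at this
      omega
  · rintro x rfl (⟨_, h'⟩ | ⟨_, h'⟩ | ⟨_, h'⟩ | ⟨_, h'⟩)
    · have := n1 h'
      rw [nfix_one] at this
      omega
    · have := n2 h'
      rw [nfix_one] at this
      omega
    · have := n3 h'
      rw [nfix_one] at this
      omega
    · have := n4 h'
      rw [nfix_one] at this
      omega

/-- the number of elements satisfying a class function supported on involutions -/
theorem card_classfun {X V : Type*} [Group X] [AddCommGroup V] [Module (ZMod 2) V] {D : SpData X V}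
    (K : Model.Coord D) (P : X → Prop) [DecidablePred P] (h1 : P 1) (h2 : ∀ x, P x → x * x = 1)
    (h3 : ∀ g x, P x → P (g * x * g⁻¹)) :
    Nat.card {x // P x} = 1 + ((if P (w K [1]) then 63 else 0) + ((if P (w K [1, 2]) then 945 else 0) +
      ((if P (w K [1, 2, 3]) then 315 else 0) + if P (w K [1, 2, 4]) then 3780 else 0))) := by
  have := card_classfun_S (fun x => P (K.e x)) (by rw [map_one]; exact h1)
    (fun x hx => K.e.injective (by rw [map_mul, map_one]; exact h2 _ hx))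
    (fun g x hx => by rw [map_mul, map_mul, map_inv]; exact h3 _ _ hx)
  change Nat.card {x // P (K.e x)} = _ at this
  rw [← Nat.card_congr (Equiv.subtypeEquiv K.e.toEquiv (fun x => Iff.rfl))]
  exact this

/-! ### parity -/

section parity
variable {G V : Type*} [Group G] [AddCommGroup V] [Module (ZMod 2) V] (C : Ctx G V) (K : Model.Coord C.S)

/-- `t` times the word lies in `D` -/
def T (ks : List ℕ) : Prop := C.t * ((w K ks : C.L) : G) ∈ C.D

/-- membership `t x ∈ D` depends only on the class of `x` -/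
theorem T_iff {ks : List ℕ} {x : C.L} (h : ∃ g : C.L, g * x * g⁻¹ = w K ks) : C.t * (x : G) ∈ C.D ↔ T C K ks := by
  obtain ⟨g, hg⟩ := h
  unfold T
  rw [← hg, ← C.D_conj_iff (x := C.t * (x : G)) (g : G)]
  have hc : (g : G) * C.t = C.t * (g : G) := C.commute_of_mem g.2
  have e : (g : G) * (C.t * (x : G)) * (g : G)⁻¹ = C.t * ((g * x * g⁻¹ : C.L) : G) := by
    calc (g : G) * (C.t * (x : G)) * (g : G)⁻¹ = (g : G) * C.t * (x : G) * (g : G)⁻¹ := by group
      _ = C.t * ((g : G) * x * (g : G)⁻¹) := by rw [hc]; group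
  rw [e]

open Classical in
/-- the number of `x ∈ L` with `t x ∈ D` -/
theorem card_T [Finite G] :
    Nat.card {x : C.L // C.t * (x : G) ∈ C.D} = 1 + ((if T C K [1] then 63 else 0) +
      ((if T C K [1, 2] then 945 else 0) + ((if T C K [1, 2, 3] then 315 else 0) +
        if T C K [1, 2, 4] then 3780 else 0))) := by
  have := card_classfun K (fun x : C.L => C.t * (x : G) ∈ C.D) (by
      change C.t * ((1 : C.L) : G) ∈ C.D
      rw [Subgroup.coe_one, mul_one]; exact C.t_mem_D) (fun x hx => by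
      have h1 := C.D_sq hx
      have hc : (x : G) * C.t = C.t * (x : G) := C.commute_of_mem x.2
      apply Subtype.ext
      change (x : G) * x = 1
      calc (x : G) * x = (C.t * C.t) * (x * x) := by rw [C.tt, one_mul]
        _ = C.t * (C.t * x) * x := by group
        _ = C.t * (x * C.t) * x := by rw [hc]
        _ = C.t * x * (C.t * x) := by group
        _ = 1 := h1) (fun g x hx => by
      rw [← C.D_conj_iff (g : G)] at hx
      have hc : (g : G) * C.t = C.t * (g : G) := C.commute_of_mem g.2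
      have e : (g : G) * (C.t * (x : G)) * (g : G)⁻¹ = C.t * ((g * x * g⁻¹ : C.L) : G) := by
        calc (g : G) * (C.t * (x : G)) * (g : G)⁻¹ = (g : G) * C.t * (x : G) * (g : G)⁻¹ := by group
          _ = C.t * ((g : G) * x * (g : G)⁻¹) := by rw [hc]; group
      rw [e] at hx
      exact hx)
  rw [this]
  rfl

open Classical in
/-- the sign homomorphism of `C_G(t)` with kernel `L` -/
theorem exists_sign : ∃ l : centralizer ({C.t} : Set G) →* ℤˣ, ∀ x, l x = -1 ↔ (x : G) ∉ C.L := by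
  have hm : ∀ x : centralizer ({C.t} : Set G), (x : G) ∈ C.L ∨ C.t * x ∈ C.L := fun x =>
    (C.cent x).1 (mem_centralizer_singleton_iff.1 x.2)
  have hcx : ∀ x : centralizer ({C.t} : Set G), (x : G) * C.t = C.t * x := fun x =>
    mem_centralizer_singleton_iff.1 x.2
  have hno : ∀ x : G, x ∈ C.L → C.t * x ∈ C.L → False := fun x h1 h2 => by
    apply C.tL
    have := mul_mem h2 (inv_mem h1)
    rwa [mul_inv_cancel_right] at this
  refine ⟨MonoidHom.mk' (fun x => if (x : G) ∈ C.L then 1 else -1) ?_, ?_⟩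
  · intro x y
    rw [Subgroup.coe_mul]
    by_cases hx : (x : G) ∈ C.L <;> by_cases hy : (y : G) ∈ C.L
    · rw [if_pos hx, if_pos hy, if_pos (mul_mem hx hy), one_mul]
    · rw [if_pos hx, if_neg hy, if_neg (fun h => hy ((Subgroup.mul_mem_cancel_left _ hx).1 h)), one_mul]
    · rw [if_neg hx, if_pos hy, if_neg (fun h => hx ((Subgroup.mul_mem_cancel_right _ hy).1 h)), mul_one]
    · rw [if_neg hx, if_neg hy, if_pos, neg_mul_neg, one_mul]
      have h1 := (hm x).resolve_left hx
      have h2 := (hm y).resolve_left hy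
      have e : (x : G) * y = C.t * x * (C.t * y) := by
        calc (x : G) * y = (C.t * C.t) * (x * y) := by rw [C.tt, one_mul]
          _ = C.t * (C.t * x) * y := by group
          _ = C.t * (x * C.t) * y := by rw [hcx]
          _ = C.t * x * (C.t * y) := by group
      rw [e]
      exact mul_mem h1 h2
  · intro x
    change (if (x : G) ∈ C.L then (1 : ℤˣ) else -1) = -1 ↔ _
    by_cases hx : (x : G) ∈ C.L
    · rw [if_pos hx]
      exact ⟨fun h => absurd h (by decide), fun h => absurd hx h⟩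
    · rw [if_neg hx]
      exact ⟨fun _ => hx, fun _ => rfl⟩

/-- an odd number of `x ∈ L` with `t x ∈ D` gives the homomorphism -/
theorem exists_hom_of_odd [Finite G] (h : Odd (Nat.card {x : C.L // C.t * (x : G) ∈ C.D})) :
    ∃ m : G →* ℤˣ, m C.t = -1 := by
  obtain ⟨l, hl⟩ := exists_sign C
  apply TRCount.exists_hom_of_count l C.tt h
  congr 1
  refine Nat.card_congr
    { toFun := fun d => ⟨⟨C.t * d.1, ?_⟩, ?_⟩
      invFun := fun x => ⟨C.t * x.1, ?_, ?_, ?_⟩
      left_inv := ?_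
      right_inv := ?_ }
  · obtain ⟨h1, h2, h3⟩ := d.2
    have h4 := (hl _).1 h3
    exact ((C.cent d.1).1 (mem_centralizer_singleton_iff.1 h2)).resolve_left h4
  · change C.t * (C.t * d.1) ∈ C.D
    rw [← mul_assoc, C.tt, one_mul]
    obtain ⟨g, hg⟩ := isConj_iff.1 d.2.1
    exact ⟨g, hg.symm⟩
  · obtain ⟨g, hg⟩ := x.2
    exact isConj_iff.2 ⟨g, hg.symm⟩
  · rw [mem_centralizer_singleton_iff]
    have : ((x.1 : C.L) : G) * C.t = C.t * x.1 := C.commute_of_mem x.1.2
    rw [mul_assoc, this]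
  · rw [hl]
    intro h1
    apply C.tL
    have := mul_mem h1 (inv_mem x.1.2)
    rwa [mul_inv_cancel_right] at this
  · intro d
    apply Subtype.ext
    change C.t * (C.t * d.1) = d.1
    rw [← mul_assoc, C.tt, one_mul]
  · intro x
    apply Subtype.ext
    apply Subtype.ext
    change C.t * (C.t * x.1) = x.1
    rw [← mul_assoc, C.tt, one_mul]

open Classical in
/-- **parity**: of the three classes `b1, c2, a2` an odd number satisfies `t x ∈ D`, or the homomorphism exists. -/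
theorem parity [Finite G] : (∃ m : G →* ℤˣ, m C.t = -1) ∨
    Odd ((if T C K [1] then 1 else 0) + (if T C K [1, 2] then 1 else 0) + (if T C K [1, 2, 3] then 1 else 0)) := by
  by_cases h : Odd (Nat.card {x : C.L // C.t * (x : G) ∈ C.D})
  · exact Or.inl (exists_hom_of_odd C h)
  · right
    rw [card_T C K] at h
    revert h
    by_cases h1 : T C K [1] <;> by_cases h2 : T C K [1, 2] <;> by_cases h3 : T C K [1, 2, 3] <;>
      by_cases h4 : T C K [1, 2, 4] <;> simp only [h1, h2, h3, h4, if_true, if_false] <;> decide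

end parity

end Cfsg.Agent.StdSpSix.Facts
end

-- part: StdO8/Root
section
prune_inst 0x112075040c4000000000001010001c66a2000092004b8000b0e005420cc48e4100000e61b830151200a0848460300048114400104028000000000000011c0080000112061040a000200000000800000000000000000000000000000000000000000000000
set_option linter.all false
open scoped Cfsg.Agent.FastGrp

/-!
# Automorphisms of `Ω₈⁺(2)` preserve the root elements

`IsRoot c`: `c = X u w` for a totally singular line `⟨u, w⟩`. `isRoot_map`: `α c` is a root element for every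
automorphism `α` of `Om`.
-/

set_option autoImplicit false

namespace Cfsg.Agent.StdO8.Root

open QuadraticMap Cfsg.Agent.LieClassical.OrthCore Cfsg.Agent.LieClassical.OrthTrans
  Cfsg.Agent.LieClassical.OrthSimple Cfsg.Agent.LieClassical.OrthFinite Cfsg.Agent.AutOrth.Main
  Cfsg.Agent.LieClassical.QuadForms Cfsg.Agent.ClassicalGeometry.OrthAut1
  Cfsg.Agent.ClassicalGeometry.OrthAut2
open Cfsg.Agent.StdO8.Model Cfsg.Agent.StdO8.Aut

/-- Root elements. -/
def IsRoot (c : V ≃ₗ[ZMod 2] V) : Prop :=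
  ∃ u w, q u = 0 ∧ q w = 0 ∧ B u w = 0 ∧ u ≠ 0 ∧ w ≠ 0 ∧ u ≠ w ∧ c = X u w

theorem IsRoot.conj {c : V ≃ₗ[ZMod 2] V} (hc : IsRoot c) {M : V ≃ₗ[ZMod 2] V} (hM : M ∈ O8) :
    IsRoot (M * c * M⁻¹) := by
  obtain ⟨u, w, h1, h2, h3, h4, h5, h6, rfl⟩ := hc
  refine ⟨M u, M w, by rw [O8_q hM, h1], by rw [O8_q hM, h2], by rw [O8_B hM, h3],
    fun h => h4 (M.map_eq_zero_iff.1 h), fun h => h5 (M.map_eq_zero_iff.1 h), fun h => h6 (M.injective h),
    X_conj hM u w⟩

/-- In the second case of the dichotomy the whole unipotent radical is mapped into `UP W`. -/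
theorem map_sg_mem {α : MulAut Om} {u : V} (hu : q u = 0) (hu0 : u ≠ 0) {W : Submodule (ZMod 2) V}
    (hTS : TS q W) (hk : Module.finrank (ZMod 2) W = 4)
    (h : (stab good (Submodule.span (ZMod 2) {u})).map (tra α).toMonoidHom = stab good W)
    {w : V} (huw : B u w = 0) : α (sg u w hu huw) ∈ U q W := by
  have hUP := Cfsg.Agent.ClassicalGeometry.OrthAut3.map_symm_UP_le good (by rw [finrank_V]; norm_num)
    (tra α) hu hu0 h
  have hstab : ∀ g : P q, g ∈ stab good (Submodule.span (ZMod 2) {u}) → ∀ s : P q, tra α s ∈ UP q W →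
      tra α (g * s * g⁻¹) ∈ UP q W := by
    intro g hg s hs
    simp only [map_mul, map_mul, map_inv]
    apply conj_mem_UP_of_stab (hG := good) _ hs
    ((conv => enter [@4]; rw [← h]))
    exact ⟨g, hg, rfl⟩
  let A : Submodule (ZMod 2) V :=
    { carrier := {a | B u a = 0 ∧ ∀ (ha : B u a = 0), tra α ((sg u a hu ha : Om) : P q) ∈ UP q W}
      zero_mem' := by
        refine ⟨B_zero_right u, fun ha => ?_⟩
        have : (sg u 0 hu ha : Om) = 1 := Subtype.ext (by rw [sg_eq_X, X_zero_right]; rfl)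
        simp only [this]
        simp only [_root_.QuotientGroup.mk_one, _root_.map_one, _root_.OneMemClass.one_mem]
      add_mem' := by
        rintro a b ⟨ha, ha'⟩ ⟨hb, hb'⟩
        have hab : B u (a + b) = 0 := by rw [B_add_right, ha, hb, add_zero]
        refine ⟨hab, fun _ => ?_⟩
        have : (sg u (a + b) hu hab : Om) = sg u a hu ha * sg u b hu hb :=
          (Cfsg.Agent.ClassicalGeometry.OrthAut2.sg_mul hu ha hb hab).symm
        simp only [this]
        have e : (((sg u a hu ha * sg u b hu hb : Om)) : P q) =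
          ((sg u a hu ha : Om) : P q) * ((sg u b hu hb : Om) : P q) := rfl
        simp only [e, map_mul]
        exact mul_mem (ha' ha) (hb' hb)
      smul_mem' := by
        rintro r a ⟨ha, ha'⟩
        rcases z2 r with rfl | rfl
        · simp only [zero_smul]
          refine ⟨B_zero_right u, fun ha => ?_⟩
          have : (sg u 0 hu ha : Om) = 1 := Subtype.ext (by rw [sg_eq_X, X_zero_right]; rfl)
          simp only [this]
          simp only [_root_.QuotientGroup.mk_one, _root_.map_one, _root_.OneMemClass.one_mem]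
        · simp only [one_smul]
          exact ⟨ha, ha'⟩ }
  have hAu : u ∈ A := by
    refine ⟨B_self u, fun ha => ?_⟩
    have : (sg u u hu ha : Om) = 1 := Subtype.ext (by rw [sg_eq_X, X_self hu]; rfl)
    simp only [this]
    simp
  have hAinv : ∀ g : Om, (g : V ≃ₗ[ZMod 2] V) u = u → ∀ a ∈ A, (g : V ≃ₗ[ZMod 2] V) a ∈ A := by
    rintro g hg a ⟨ha, ha'⟩
    have hga : B u ((g : V ≃ₗ[ZMod 2] V) a) = 0 := by
      have := O8_B (Om_le g.2) u a
      rw [hg] at this
      rw [this, ha]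
    refine ⟨hga, fun _ => ?_⟩
    have e : g * sg u a hu ha * g⁻¹ = sg u ((g : V ≃ₗ[ZMod 2] V) a) hu hga := by
      apply Subtype.ext
      rw [sg_eq_X]
      show (g : V ≃ₗ[ZMod 2] V) * ((sg u a hu ha : Om) : V ≃ₗ[ZMod 2] V) * (g : V ≃ₗ[ZMod 2] V)⁻¹ = _
      rw [sg_eq_X, X_conj (Om_le g.2), hg]
    simp only [← e]
    refine hstab (g : P q) ?_ ((sg u a hu ha : Om) : P q) (ha' ha)
    rw [mem_stab, pact_mk, mapHom_span, hg]
  -- a nonzero element of `UP W`
  obtain ⟨a, haA, hau⟩ : ∃ a ∈ A, ∀ r : ZMod 2, a ≠ r • u := by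
    have hWne : W ≠ ⊥ := by
      rintro rfl
      rw [finrank_bot] at hk
      omega
    obtain ⟨x, hxW, hx0⟩ := Submodule.exists_mem_ne_zero_of_ne_bot hWne
    obtain ⟨y, hyW, hy⟩ : ∃ y ∈ W, y ∉ Submodule.span (ZMod 2) {x} := by
      by_contra hcon
      push Not at hcon
      have h1 : W ≤ Submodule.span (ZMod 2) {x} := hcon
      have h2 := Submodule.finrank_mono h1
      have h3 := finrank_span_singleton (K := ZMod 2) hx0
      omega
    have hxy : B x y = 0 := hTS.polar hxW hyW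
    have hmem : (sg x y (hTS x hxW) hxy : Om) ∈ U q W :=
      sg_mem_U hTS hxW (fun v hv => hTS.polar hyW hv) _ _
    have hne : (sg x y (hTS x hxW) hxy : Om) ≠ 1 := by
      intro h1
      obtain ⟨c, hc⟩ := (sg_eq_one_iff good.nondeg (hTS x hxW) hx0 hxy).1 h1
      exact hy (by rw [hc]; exact Submodule.smul_mem _ _ (Submodule.mem_span_singleton_self x))
    have h2 := hUP ⟨_, ⟨_, hmem, rfl⟩, rfl⟩
    obtain ⟨a, ha, e⟩ := (mem_UP_span_iff good.nondeg hu hu0).1 h2
    have e' : tra α ((sg u a hu ha : Om) : P q) = ((sg x y (hTS x hxW) hxy : Om) : P q) := by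
      simp only [← e]
      exact (tra α).apply_symm_apply _
    refine ⟨a, ⟨ha, fun _ => ?_⟩, fun r hr => ?_⟩
    · rw [e']
      exact ⟨_, hmem, rfl⟩
    · apply hne
      have : (sg u a hu ha : Om) = 1 := (sg_eq_one_iff good.nondeg hu hu0 ha).2 ⟨r, hr⟩
      simp only [this] at e'
      apply coe_P_inj
      rw [← e']
      simp only [_root_.QuotientGroup.mk_one, _root_.map_one]
  have hall := Cfsg.Agent.ClassicalGeometry.OrthAut2b.irred good (by rw [finrank_V]; norm_num) hu hu0 A hAu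
    (fun a ha => ha.1) hAinv haA hau w huw
  have h1 := hall.2 huw
  rw [tra_apply] at h1
  obtain ⟨g, hg, hg'⟩ := h1
  have : g = α (sg u w hu huw) := coe_P_inj hg'
  rwa [this] at hg

theorem perp_of_finrank {W : Submodule (ZMod 2) V} (hTS : TS q W) (hk : Module.finrank (ZMod 2) W = 4) :
    ∀ w, (∀ v ∈ W, B w v = 0) → w ∈ W := by
  have hnd : (polarBilin q).Nondegenerate := by
    refine ⟨fun a ha => good.nondeg a ha, fun a ha => good.nondeg a fun b => ?_⟩
    rw [polar_comm]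
    exact ha b
  have h1 := LinearMap.BilinForm.finrank_orthogonal hnd W
  rw [finrank_V, hk] at h1
  have h2 : W ≤ LinearMap.BilinForm.orthogonal (polarBilin q) W := by
    intro w hw
    rw [LinearMap.BilinForm.mem_orthogonal_iff]
    intro v hv
    exact hTS.polar hv hw
  have h3 : W = LinearMap.BilinForm.orthogonal (polarBilin q) W :=
    Submodule.eq_of_le_of_finrank_eq h2 (by omega)
  intro w hw
  rw [h3, LinearMap.BilinForm.mem_orthogonal_iff]
  intro v hv
  show B v w = 0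
  rw [B_comm]
  exact hw v hv

/-- For `g` in the radical of a totally singular 4-space, `(g - 1) V ≤ W`. -/
theorem sub_mem_of_mem_U {W : Submodule (ZMod 2) V} (hTS : TS q W) (hk : Module.finrank (ZMod 2) W = 4)
    {g : Om} (hg : g ∈ U q W) (v : V) : (g : V ≃ₗ[ZMod 2] V) v + v ∈ W := by
  rw [← sub_eq]
  apply perp_of_finrank hTS hk
  intro x hx
  rw [B_comm]
  exact polar_sub_of_mem_U hg v hx

theorem z2_add_self (a : ZMod 2) : a + a = 0 := by revert a; decide

/-- An isometry `g ≠ 1` with `(g - 1) V` in a totally singular subspace of dimension at most three is a root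
element. -/
theorem isRoot_of_sub {K : Submodule (ZMod 2) V} (hTS : TS q K) (hk : Module.finrank (ZMod 2) K ≤ 3)
    {g : V ≃ₗ[ZMod 2] V} (hg : g ∈ O8) (h1 : g ≠ 1) (h : ∀ v, g v + v ∈ K) : IsRoot g := by
  obtain ⟨N, hN⟩ : ∃ N : V → V, ∀ v, N v = g v + v := ⟨_, fun _ => rfl⟩
  have hNK : ∀ v, N v ∈ K := fun v => by rw [hN]; exact h v
  have hgN : ∀ v, g v = v + N v := fun v => by rw [hN, add_comm (g v) v, ← add_assoc, add_self, zero_add]
  have hNadd : ∀ v w, N (v + w) = N v + N w := fun v w => by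
    rw [hN, hN, hN, map_add]; abel
  have hNsmul : ∀ (a : ZMod 2) v, N (a • v) = a • N v := fun a v => by
    rw [hN, hN, map_smul, smul_add]
  have hKK : ∀ v w, B (N v) (N w) = 0 := fun v w => hTS.polar (hNK v) (hNK w)
  have hsymm : ∀ v w, B v (N w) = B (N v) w := by
    intro v w
    have e := O8_B hg v w
    rw [hgN, hgN, B_add_left, B_add_right, B_add_right, hKK, add_zero, add_assoc] at e
    have e2 : B v (N w) + B (N v) w = 0 := by
      have := congrArg (fun x => B v w + x) e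
      simp only [← add_assoc, z2_add_self, zero_add] at this
      exact this
    have e3 := congrArg (fun x => x + B (N v) w) e2
    simp only [add_assoc, z2_add_self, add_zero, zero_add] at e3
    exact e3
  have halt : ∀ v, B v (N v) = 0 := by
    intro v
    have e := O8_q hg v
    rw [hgN, q_add, hTS _ (hNK v), add_zero] at e
    have := congrArg (fun x => q v + x) e
    simp only [← add_assoc, z2_add_self, zero_add] at this
    exact this
  obtain ⟨v0, hv0⟩ : ∃ v0, N v0 ≠ 0 := by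
    by_contra hcon
    push Not at hcon
    apply h1
    ext v : 1
    rw [hgN, hcon, add_zero]
    rfl
  obtain ⟨a, ha⟩ : ∃ a, a = N v0 := ⟨_, rfl⟩
  obtain ⟨w0, hw0⟩ : ∃ w0, B a w0 = 1 := by
    by_contra hcon
    push Not at hcon
    exact hv0 (by rw [← ha]; exact Model.nondeg fun v => (z2 _).resolve_right (hcon v))
  obtain ⟨b, hb⟩ : ∃ b, b = N w0 := ⟨_, rfl⟩
  have hav : B a v0 = 0 := by rw [ha, B_comm]; exact halt v0
  have hbw : B b w0 = 0 := by rw [hb, B_comm]; exact halt w0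
  have hbv : B b v0 = 1 := by rw [hb, B_comm, hsymm, ← ha, hw0]
  have haK : a ∈ K := by rw [ha]; exact hNK _
  have hbK : b ∈ K := by rw [hb]; exact hNK _
  -- the remainder
  have hrem : ∀ v, B a v = 0 → B b v = 0 → N v = 0 := by
    intro v hav' hbv'
    by_contra hne
    obtain ⟨c, hc⟩ : ∃ c, c = N v := ⟨_, rfl⟩
    have hcv0 : B c v0 = 0 := by rw [hc, B_comm, hsymm, ← ha, hav']
    have hcw0 : B c w0 = 0 := by rw [hc, B_comm, hsymm, ← hb, hbv']
    obtain ⟨w1, hw1⟩ : ∃ w1, B c w1 = 1 := by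
      by_contra hcon
      push Not at hcon
      exact hne (by rw [← hc]; exact Model.nondeg fun v => (z2 _).resolve_right (hcon v))
    obtain ⟨w', hw'⟩ : ∃ w', w' = w1 + B b w1 • v0 + B a w1 • w0 := ⟨_, rfl⟩
    have hcw' : B c w' = 1 := by
      rw [hw', B_add_right, B_add_right, B_smul_right, B_smul_right, hcv0, hcw0, hw1]; ring
    have haw' : B a w' = 0 := by
      rw [hw', B_add_right, B_add_right, B_smul_right, B_smul_right, hav, hw0, mul_zero, add_zero, mul_one,
        z2_add_self]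
    have hbw' : B b w' = 0 := by
      rw [hw', B_add_right, B_add_right, B_smul_right, B_smul_right, hbv, hbw, mul_zero, add_zero, mul_one,
        z2_add_self]
    obtain ⟨d, hd⟩ : ∃ d, d = N w' := ⟨_, rfl⟩
    have hdv0 : B d v0 = 0 := by rw [hd, B_comm, hsymm, ← ha, haw']
    have hdw0 : B d w0 = 0 := by rw [hd, B_comm, hsymm, ← hb, hbw']
    have hdv : B d v = 1 := by rw [hd, B_comm, hsymm, ← hc, hcw']
    have hcv : B c v = 0 := by rw [hc, B_comm]; exact halt v
    have hcK : c ∈ K := by rw [hc]; exact hNK _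
    have hdK : d ∈ K := by rw [hd]; exact hNK _
    have hli : LinearIndependent (ZMod 2) ![(⟨a, haK⟩ : K), ⟨b, hbK⟩, ⟨c, hcK⟩, ⟨d, hdK⟩] := by
      rw [Fintype.linearIndependent_iff]
      intro x hx
      have hx' : x 0 • a + x 1 • b + x 2 • c + x 3 • d = 0 := by
        have := congrArg Subtype.val hx
        simpa only [Fin.sum_univ_four, _root_.Fin.isValue, _root_.Nat.succ_eq_add_one, _root_.Nat.reduceAdd, _root_.Matrix.cons_val_zero, _root_.SetLike.mk_smul_mk, _root_.Matrix.cons_val_one, _root_.AddMemClass.mk_add_mk, _root_.Matrix.cons_val, _root_.ZeroMemClass.coe_zero] using this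
      have key : ∀ y, x 0 * B a y + x 1 * B b y + x 2 * B c y + x 3 * B d y = 0 := by
        intro y
        have := congrArg (fun z => B z y) hx'
        simp only [B_add_left, B_smul_left, B_zero_left] at this
        exact this
      have k1 := key w0
      rw [hw0, hbw, hcw0, hdw0] at k1
      have k2 := key v0
      rw [hav, hbv, hcv0, hdv0] at k2
      have k3 := key v
      rw [hav', hbv', hcv, hdv] at k3
      have k4 := key w'
      rw [haw', hbw', hcw'] at k4
      have e0 : x 0 = 0 := by simpa using k1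
      have e1 : x 1 = 0 := by simpa using k2
      have e3 : x 3 = 0 := by simpa using k3
      rw [e3] at k4
      have e2 : x 2 = 0 := by simpa using k4
      intro i
      fin_cases i
      · exact e0
      · exact e1
      · exact e2
      · exact e3
    have := hli.fintype_card_le_finrank
    rw [Fintype.card_fin] at this
    omega
  have hform : ∀ v, N v = B a v • b + B b v • a := by
    intro v
    have h2 := hrem (v + B b v • v0 + B a v • w0) (by
      rw [B_add_right, B_add_right, B_smul_right, B_smul_right, hav, hw0, mul_zero, add_zero, mul_one,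
        z2_add_self]) (by
      rw [B_add_right, B_add_right, B_smul_right, B_smul_right, hbv, hbw, mul_zero, add_zero, mul_one,
        z2_add_self])
    rw [hNadd, hNadd, hNsmul, hNsmul, ← ha, ← hb, add_assoc] at h2
    have := eq_of_add_eq_zero h2
    rw [this, add_comm]
  have hqa : q a = 0 := hTS a haK
  have hqb : q b = 0 := hTS b hbK
  have hab : B a b = 0 := hTS.polar haK hbK
  refine ⟨a, b, hqa, hqb, hab, by rw [ha]; exact hv0, ?_, ?_, ?_⟩
  · rintro rfl
    rw [B_zero_left] at hbv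
    exact absurd hbv (by decide)
  · rintro rfl
    rw [hbv] at hav
    exact absurd hav (by decide)
  · ext v : 1
    rw [X_apply hqa hqb hab, hgN, hform, add_assoc]

theorem isRoot_map (α : MulAut Om) {c : Om} (hc : IsRoot (c : V ≃ₗ[ZMod 2] V)) :
    IsRoot ((α c : Om) : V ≃ₗ[ZMod 2] V) := by
  obtain ⟨u, w, hu, hw, huw, hu0, hw0, hne, hX⟩ := hc
  have hwu : B w u = 0 := by rw [B_comm]; exact huw
  have hlin : α ∈ cj.range → IsRoot ((α c : Om) : V ≃ₗ[ZMod 2] V) := by
    rintro ⟨M, rfl⟩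
    rw [cj_coe]
    exact IsRoot.conj ⟨u, w, hu, hw, huw, hu0, hw0, hne, hX⟩ M.2
  rcases Cfsg.Agent.ClassicalGeometry.OrthAut3.dichotomy good (by rw [finrank_V]; norm_num) (tra α) hu hu0
    with ⟨y, hy, hy0, h⟩ | ⟨-, W, hTS, hk, h⟩
  · exact hlin (mem_range_of_one hu hu0 hy hy0 h)
  rcases Cfsg.Agent.ClassicalGeometry.OrthAut3.dichotomy good (by rw [finrank_V]; norm_num) (tra α) hw hw0
    with ⟨y, hy, hy0, h'⟩ | ⟨-, W', hTS', hk', h'⟩
  · exact hlin (mem_range_of_one hw hw0 hy hy0 h')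
  have hWW : W ≠ W' := by
    intro he
    (rewrite [← he] at h'; (conv at h' => enter [@3]; rw [← h]))
    have h2 : stab good (Submodule.span (ZMod 2) {w}) = stab good (Submodule.span (ZMod 2) {u}) :=
      Subgroup.map_injective (tra α).injective h'
    -- an element fixing `u` but not `w`
    obtain ⟨v, hv1, hv2⟩ := exists_B hu0 hw0 hne 0 1
    have hfu : X u v u = u := by
      have hv3 : B v u = 0 := by rw [B_comm]; exact hv1
      rw [X_apply' hu hv1, B_self, hv3]
      simp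
    have hfw : X u v w = w + u := by
      have hv3 : B v w = 1 := by rw [B_comm]; exact hv2
      rw [X_apply' hu hv1, huw, hv3]
      simp
    have h3 : ((⟨X u v, X_mem u v⟩ : Om) : P q) ∈ stab good (Submodule.span (ZMod 2) {u}) := by
      rw [mem_stab, pact_mk, mapHom_span]
      show Submodule.span (ZMod 2) {X u v u} = _
      rw [hfu]
    rw [← h2] at h3
    have h4 : X u v w ∈ Submodule.span (ZMod 2) {w} :=
      apply_mem_of_mem_stab h3 (Submodule.mem_span_singleton_self w)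
    rw [hfw] at h4
    obtain ⟨c', hc'⟩ := Submodule.mem_span_singleton.1 h4
    rcases z2 c' with rfl | rfl
    · rw [zero_smul] at hc'
      exact hne (eq_of_add_eq_zero hc'.symm).symm
    · rw [one_smul] at hc'
      exact hu0 (left_eq_add.1 hc')
  have e1 : c = sg u w hu huw := Subtype.ext (by rw [sg_eq_X, hX])
  have e2 : c = sg w u hw hwu := Subtype.ext (by rw [sg_eq_X, hX, X_comm hu hw])
  have m1 : α c ∈ U q W := by rw [e1]; exact map_sg_mem hu hu0 hTS hk h huw
  have m2 : α c ∈ U q W' := by rw [e2]; exact map_sg_mem hw hw0 hTS' hk' h' hwu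
  refine isRoot_of_sub (K := W ⊓ W') (fun x hx => hTS x hx.1) ?_ (Om_le (α c).2) ?_ fun v =>
    ⟨sub_mem_of_mem_U hTS hk m1 v, sub_mem_of_mem_U hTS' hk' m2 v⟩
  · by_contra hcon
    have h3 : Module.finrank (ZMod 2) (W ⊓ W' : Submodule (ZMod 2) V) = Module.finrank (ZMod 2) W := by
      have := Submodule.finrank_mono (inf_le_left : W ⊓ W' ≤ W)
      omega
    have h4 : Module.finrank (ZMod 2) (W ⊓ W' : Submodule (ZMod 2) V) = Module.finrank (ZMod 2) W' := by
      rw [h3, hk, hk']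
    exact hWW ((Submodule.eq_of_le_of_finrank_eq inf_le_left h3).symm.trans
      (Submodule.eq_of_le_of_finrank_eq inf_le_right h4))
  · intro h1
    have h2 : α c = 1 := Subtype.ext h1
    have h3 : c = 1 := α.injective (by simp only [h2, map_one])
    have h4 : X u w = 1 := by rw [← hX, h3]; rfl
    obtain ⟨v, hv1, hv2⟩ := exists_B hu0 hw0 hne 1 0
    have h5 := X_apply hu hw huw v
    rw [h4, hv1, hv2, one_smul, zero_smul, add_zero] at h5
    exact hw0 (left_eq_add.1 h5)

end Cfsg.Agent.StdO8.Root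
end
end
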